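import Cfsg.Agent.SM.NP.DefsIm

/-!
# SM (S3570), `H` transitive and imprimitive: the box `I4` (helper79)
-/

set_option autoImplicit false
set_option linter.unusedSectionVars false
set_option maxHeartbeats 400000

namespace Cfsg.Agent.SM.NP

open Equiv Equiv.Perm Subgroup MulAction

namespace I4

variable {Ω : Type} [Fintype Ω] [DecidableEq Ω] {X H : Subgroup (Perm Ω)} {τ g : Perm Ω}

/-- the permutations which fix every edge -/
def Ed (hτ : Mat τ) : Subgroup (Perm Ω) where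
  carrier := {g | ∀ x, g x = x ∨ g x = τ x}
  one_mem' := fun _ => Or.inl rfl
  mul_mem' := fun {g k} hg hk x => by
    rw [Perm.mul_apply]
    rcases hk x with e | e <;> rw [e]
    · exact hg x
    · exact (hg (τ x)).symm.imp (fun e => e.trans (hτ.inv x)) id
  inv_mem' := fun {g} hg x => by
    have := hg (g⁻¹ x)
    rw [Perm.eq_inv_iff_eq.1 rfl] at this
    exact this.imp Eq.symm fun e => by rw [← hτ.inv (g⁻¹ x), ← e]

theorem ed_comm (hτ : Mat τ) (hg : g ∈ Ed hτ) (x : Ω) : g (τ x) = τ (g x) := by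
  rcases hg x with e | e
  · rw [e]
    exact (hg (τ x)).resolve_right fun k => hτ.ne x (g.injective (k.trans ((hτ.inv x).trans e.symm)))
  · rw [e]
    exact (hg (τ x)).resolve_left fun k => hτ.ne x (g.injective (k.trans e.symm))

theorem swap_mem (hτ : Mat τ) (a : Ω) : swap a (τ a) ∈ Ed hτ := fun x => by
  rw [swap_apply_def]
  split_ifs with h1 h2
  · exact Or.inr (h1 ▸ rfl)
  · exact Or.inr (by rw [h2, hτ.inv])
  · exact Or.inl rfl

theorem ne' (hτ : Mat τ) {x y : Ω} (h : x ≠ τ y) : τ x ≠ y := fun e => h (by rw [← e, hτ.inv])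

/-- the product of a 3-cycle and its mirror image -/
theorem exists_w (hτ : Mat τ) {a b c : Ω} (h1 : b ≠ a) (h2 : b ≠ τ a) (h3 : c ≠ a) (h4 : c ≠ τ a) (h5 : c ≠ b) (h6 : c ≠ τ b) :
    ∃ w : Perm Ω, sign w = 1 ∧ w * τ = τ * w ∧ w ^ 3 = 1 ∧ w a = b ∧
      ∀ x, x ≠ a → x ≠ τ a → x ≠ b → x ≠ τ b → x ≠ c → x ≠ τ c → w x = x := by
  obtain ⟨u, hu⟩ : ∃ u, u = swap a c * swap a b := ⟨_, rfl⟩
  have c3 : u.IsThreeCycle := hu ▸ isThreeCycle_swap_mul_swap_same h3.symm h1.symm h5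
  have f1 : ∀ x, x ≠ a → x ≠ b → x ≠ c → u x = x := fun x k1 k2 k3 => by
    rw [hu, Perm.mul_apply, swap_apply_of_ne_of_ne k1 k2, swap_apply_of_ne_of_ne k1 k3]
  have ti : τ⁻¹ = τ := Perm.ext fun x => Perm.inv_eq_iff_eq.2 (hτ.inv x).symm
  have tt : τ * τ = 1 := Perm.ext hτ.inv
  have f2 : ∀ x, x ≠ τ a → x ≠ τ b → x ≠ τ c → (τ * u * τ⁻¹) x = x := fun x k1 k2 k3 => by
    rw [ti, Perm.mul_apply, Perm.mul_apply, f1 _ (ne' hτ k1) (ne' hτ k2) (ne' hτ k3), hτ.inv]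
  have fa := f2 a (hτ.ne a).symm (ne' hτ h2).symm (ne' hτ h4).symm
  have d : Perm.Disjoint u (τ * u * τ⁻¹) := fun x => by
    by_cases k1 : x = a
    · exact Or.inr (k1 ▸ fa)
    by_cases k2 : x = b
    · exact Or.inr (k2 ▸ f2 b h2 (hτ.ne b).symm (ne' hτ h6).symm)
    by_cases k3 : x = c
    · exact Or.inr (k3 ▸ f2 c h4 h6 (hτ.ne c).symm)
    · exact Or.inl (f1 x k1 k2 k3)
  have u3 : u ^ 3 = 1 := by rw [← c3.orderOf, pow_orderOf_eq_one]
  refine ⟨u * (τ * u * τ⁻¹), by simp [c3.sign], ?_, ?_, ?_, fun x k1 k2 k3 k4 k5 k6 => ?_⟩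
  · conv_rhs => rw [d.commute.eq, ← mul_assoc, ← mul_assoc, ← mul_assoc, tt, one_mul, ti]
    rw [ti, mul_assoc, mul_assoc, tt, mul_one, mul_assoc]
  · rw [d.commute.mul_pow, conj_pow, u3]
    simp
  · rw [Perm.mul_apply, fa, hu, Perm.mul_apply, swap_apply_left, swap_apply_of_ne_of_ne h1 h5.symm]
  · rw [Perm.mul_apply, f2 x k2 k4 k6, f1 x k1 k3 k5]

theorem exists_sys (hτ : Mat τ) (h3 : 3 ≤ Fintype.card Ω) {W : Subgroup (Perm Ω)} (hW : ∀ g ∈ W, g * τ = τ * g) :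
    ∃ E, Sys W E := by
  refine ⟨⟨fun x y => y = x ∨ y = τ x, fun _ => Or.inl rfl, fun k => k.imp Eq.symm fun e => by rw [e, hτ.inv], ?_⟩,
    fun g hg x y k => Or.imp (congrArg g) (fun e : y = τ x => e ▸ congrArg (fun k : Perm Ω => k x) (hW g hg)) k, ?_, ?_⟩
  · rintro x y z (rfl | rfl) k
    · exact k
    · exact k.symm.imp (fun e => e.trans (hτ.inv x)) id
  · obtain ⟨a⟩ : Nonempty Ω := Fintype.card_pos_iff.1 (by omega)
    exact ⟨a, τ a, (hτ.ne a).symm, Or.inr rfl⟩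
  · obtain ⟨a⟩ : Nonempty Ω := Fintype.card_pos_iff.1 (by omega)
    obtain ⟨b, hb⟩ := exists_notMem_of_card (T := {a, τ a}) (Finset.card_le_two.trans_lt h3)
    exact ⟨a, b, fun k => hb (by simpa using k)⟩

theorem lifts (s : Sec X H) (hτ : Mat τ) (hc : ∀ g ∈ H, g * τ = τ * g) (hd : ¬ Dbl H τ) : Lifts H τ := by
  have db : ∀ a b, swap a (τ a) * swap b (τ b) ∈ X ⊓ Ed hτ := fun a b =>
    ⟨s.alt (swap_mul_mem_alt (hτ.ne a).symm (hτ.ne b).symm), (Ed hτ).mul_mem (swap_mem hτ a) (swap_mem hτ b)⟩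
  have hN : X ⊓ Ed hτ ≤ X ⊓ centralizer {τ} := fun g hg =>
    ⟨hg.1, mem_centralizer_singleton_iff.2 (Perm.ext (ed_comm hτ hg.2))⟩
  have hW : X ⊓ centralizer {τ} ∈ Ov X H := by
    obtain ⟨E, hE⟩ := exists_sys hτ (by have := s.five; omega) (W := X ⊓ centralizer {τ})
      fun g hg => mem_centralizer_singleton_iff.1 hg.2
    refine s.mem_ov (lt_of_le_of_ne (fun g hg => ⟨s.lt.le hg, mem_centralizer_singleton_iff.2 (hc g hg)⟩)
      fun e => hd fun a b _ _ => e.symm ▸ hN (db a b)) (lt_of_le_of_ne inf_le_left fun e => ?_)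
    exact hE.not_alt_le (by have := s.five; omega) (e.symm ▸ s.alt)
  have hm := (s.le_or_mul hW hN fun h hh g hg => ⟨X.mul_mem (X.mul_mem (s.lt.le hh) hg.1) (X.inv_mem (s.lt.le hh)), fun x => by
    rw [Perm.mul_apply, Perm.mul_apply]
    rcases hg.2 (h⁻¹ x) with e | e <;> rw [e]
    · exact Or.inl (by simp)
    · exact Or.inr ((congrArg (fun k : Perm Ω => k (h⁻¹ x)) (hc h hh)).trans (by simp))⟩).resolve_left
    fun k => hd fun a b _ _ => k (db a b)
  intro a b c h1 h2 h3 h4 h5 h6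
  obtain ⟨w, w1, w2, w3, w4, w5⟩ := exists_w hτ h1 h2 h3 h4 h5 h6
  obtain ⟨h, hh, x, hx, e⟩ := hm w ⟨mem_X_of_even s w1, mem_centralizer_singleton_iff.2 w2⟩
  have ch : ∀ g ∈ H, ∀ y, g (τ y) = τ (g y) := fun g hg y => congrArg (fun k : Perm Ω => k y) (hc g hg)
  have k1 : ∀ y, h y = w y ∨ h y = τ (w y) := fun y => by
    rw [e, Perm.mul_apply]
    rcases hx.2 y with k | k <;> rw [k]
    · exact Or.inl rfl
    · exact Or.inr (by rw [ch h hh, hτ.inv])
  have k2 : ∀ (n : ℕ) y, (h ^ n) y = (w ^ n) y ∨ (h ^ n) y = τ ((w ^ n) y) := fun n => by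
    induction n with
    | zero => exact fun y => Or.inl rfl
    | succ n ih =>
      intro y
      rw [pow_succ', pow_succ', Perm.mul_apply, Perm.mul_apply]
      rcases ih y with k | k <;> rw [k]
      · exact k1 _
      · rw [ch h hh]
        exact (k1 _).symm.imp (fun e => by rw [e, hτ.inv]) (congrArg τ)
  have sq : ∀ g ∈ H, ∀ y, g y = y ∨ g y = τ y → g (g y) = y := fun g hg y k => by
    rcases k with k | k
    · rw [k, k]
    · rw [k, ch g hg, k, hτ.inv]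
  have k3 : h ^ 3 * h ^ 3 = 1 := Perm.ext fun y => sq _ (H.pow_mem hh 3) y (by simpa [w3] using k2 3 y)
  have k4 : (h ^ 4) a = b ∨ (h ^ 4) a = τ b := by
    have := k2 4 a
    rwa [pow_succ w 3, w3, one_mul, w4] at this
  refine ⟨h ^ 4, H.pow_mem hh 4, ?_, k4, ?_, fun y y1 y2 y3 y4 y5 y6 => ?_⟩
  · calc (h ^ 4) ^ 3 = (h ^ 3 * h ^ 3) ^ 2 := by group
      _ = 1 := by rw [k3, one_pow]
  · rw [ch _ (H.pow_mem hh 4)]
    exact k4.symm.imp (fun e => by rw [e, hτ.inv]) (congrArg τ)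
  · have := sq h hh y (by simpa [w5 y y1 y2 y3 y4 y5 y6] using k1 y)
    simp [pow_succ, this]

end I4

theorem boxI4_of (N8a : BoxN8a) (P4 : BoxP4) : BoxI4 := fun Ω _ _ X H τ s ht h8 hτ hc hs hd hcmp => by
  have hl := I4.lifts s hτ hc hd
  have h10 : 10 ≤ Fintype.card Ω := by
    have h1 : Fintype.card Ω ≠ 8 := fun e => (N8a Ω X H τ s e hτ hc hl).elim hs hd
    have h2 := card_compl_support_modEq (p := 2) (n := 1) (σ := τ) (Perm.ext hτ.inv)
    rw [Finset.eq_univ_of_forall fun x => mem_support.2 (hτ.ne x), Finset.compl_univ, Finset.card_empty] at h2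
    unfold Nat.ModEq at h2
    omega
  have h2 : Pr X H = ∅ := Set.eq_empty_of_forall_notMem fun M hM => s.not_alt_le hM.1
    (P4 Ω M τ h10 hτ (fun a b c h1 h2 h3 h4 h5 h6 => by
      obtain ⟨r, hr, k⟩ := hl a b c h1 h2 h3 h4 h5 h6
      exact ⟨r, hM.1.2 hr, k⟩) hM.2)
  obtain ⟨a⟩ : Nonempty Ω := Fintype.card_pos_iff.1 (by omega)
  obtain ⟨b, hb⟩ := exists_notMem_of_card (T := {a, τ a}) (Finset.card_le_two.trans_lt (by omega))
  simp only [Finset.mem_insert, Finset.mem_singleton, not_or] at hb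
  have h1 : (Np X H).ncard ≤ ({τ a, b, τ b} : Finset Ω).card := by
    refine ncard_Np_le s _ (fun E i => E a i) (fun E hE => ?_) fun E E' h h' i hi e e' => h.eq_of_pair h' hcmp ?_ e e'
    · obtain ⟨u, hu, e⟩ := hE.exists_mate ht a
      by_cases k : u ∈ ({τ a, b, τ b} : Finset Ω)
      · exact ⟨u, k, e⟩
      simp only [Finset.mem_insert, Finset.mem_singleton, not_or] at k
      obtain ⟨d, hd⟩ := exists_notMem_of_card (T := {a, τ a, u, τ u, b, τ b}) (Finset.card_le_six.trans_lt (by omega))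
      simp only [Finset.mem_insert, Finset.mem_singleton, not_or] at hd
      obtain ⟨r, hr, -, r1, -, r2⟩ := hl u b d (Ne.symm k.2.1) (I4.ne' hτ k.2.2).symm hd.2.2.1 hd.2.2.2.1 hd.2.2.2.2.1
        hd.2.2.2.2.2
      have := hE.inv r hr a u e
      rw [r2 a hu.symm (I4.ne' hτ k.1).symm (Ne.symm hb.1) (I4.ne' hτ hb.2).symm (Ne.symm hd.1)
        (I4.ne' hτ hd.2.1).symm] at this
      exact ⟨r u, by rcases r1 with e | e <;> simp [e], this⟩
    · simp only [Finset.mem_insert, Finset.mem_singleton] at hi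
      rcases hi with rfl | rfl | rfl
      exacts [(hτ.ne a).symm, Ne.symm hb.1, (I4.ne' hτ hb.2).symm]
  have h3 := ncard_Ov X H
  have h4 : ({τ a, b, τ b} : Finset Ω).card ≤ 3 := Finset.card_le_three
  rw [h2, Set.ncard_empty] at h3
  omega

end Cfsg.Agent.SM.NP
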