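import Cfsg.Agent.SM.NP.Defs
import Cfsg.Agent.S0720

/-!
# SM (S3570), `H` not primitive: the boxes of degree 5, 6, 7, 8 (helper79)
-/

set_option autoImplicit false
set_option linter.unusedSectionVars false
set_option maxHeartbeats 400000

namespace Cfsg.Agent.SM.NP

open Equiv Equiv.Perm Subgroup MulAction

namespace Small

variable {Ω : Type} [Fintype Ω] [DecidableEq Ω] {X H M : Subgroup (Perm Ω)}

theorem exists_five (h : 5 ∣ Nat.card M) : ∃ g ∈ M, orderOf g = 5 := by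
  have : Fact (Nat.Prime 5) := ⟨by norm_num⟩
  obtain ⟨g, hg⟩ := exists_prime_orderOf_dvd_card' 5 h
  exact ⟨g, g.2, by rw [← hg, orderOf_coe]⟩

/-- a power of a 5-cycle maps `b` to `c` -/
theorem exists_pow {g : Perm Ω} (hn : Fintype.card Ω < 10) (hg : orderOf g = 5) {b c : Ω} (hb : g b ≠ b) (hc : g c ≠ c)
    (hbc : b ≠ c) : ∃ i : ℕ, orderOf (g ^ i) = 5 ∧ (g ^ i) b = c := by
  have h1 : g.IsCycle := isCycle_of_prime_order' (by rw [hg]; norm_num) (by omega)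
  obtain ⟨i, hi⟩ := h1.exists_pow_eq hb hc
  have : Fact (Nat.Prime 5) := ⟨by norm_num⟩
  refine ⟨i, orderOf_eq_prime (by rw [← pow_mul, mul_comm, pow_mul, ← hg, pow_orderOf_eq_one, one_pow]) fun e => ?_, hi⟩
  rw [e] at hi
  exact hbc hi

theorem card_support {g : Perm Ω} (hn : Fintype.card Ω < 10) (hg : orderOf g = 5) : g.support.card = 5 :=
  (isCycle_of_prime_order' (by rw [hg]; norm_num) (by omega)).orderOf.symm.trans hg

theorem five_apply {g : Perm Ω} (hg : orderOf g = 5) (x : Ω) : g (g (g (g (g x)))) = x := by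
  have : (g ^ 5) x = x := by rw [← hg, pow_orderOf_eq_one]; rfl
  simpa [pow_succ] using this

theorem cnt5 : ∀ a b : Fin 5, a ≠ b →
    (Finset.univ.filter fun g : Perm (Fin 5) => g a = b ∧ ∀ x, g (g (g (g (g x)))) = x).card ≤ 6 := by decide +kernel

theorem cnt6 :
    (Finset.univ.filter fun g : Perm (Fin 6) => g 0 = 0 ∧ g 1 = 2 ∧ ∀ x, g (g (g (g (g x)))) = x).card ≤ 6 := by
  decide +kernel

/-! ### Klein four groups -/

theorem pick {B : Set Ω} (h : B.ncard = 4) (p q r : Ω) : ∃ d ∈ B, d ≠ p ∧ d ≠ q ∧ d ≠ r := by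
  have h1 : (({p, q, r} : Finset Ω) : Set Ω).ncard < B.ncard := by
    rw [Set.ncard_coe_finset, h]
    exact Nat.lt_succ_of_le Finset.card_le_three
  obtain ⟨d, hd, k⟩ := Set.exists_mem_notMem_of_ncard_lt_ncard h1
  exact ⟨d, hd, by simpa [not_or] using k⟩

theorem kl_conj {G : Set Ω} (h : Kl M G) {m : Perm Ω} (hm : m ∈ M) : Kl M (m '' G) := by
  rintro _ ⟨a, ha, rfl⟩ _ ⟨b, hb, rfl⟩ _ ⟨c, hc, rfl⟩ _ ⟨d, hd, rfl⟩ h1 h2 h3 h4 h5 h6
  have := M.mul_mem (M.mul_mem hm (h a ha b hb c hc d hd (fun e => h1 (e ▸ rfl)) (fun e => h2 (e ▸ rfl))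
    (fun e => h3 (e ▸ rfl)) (fun e => h4 (e ▸ rfl)) (fun e => h5 (e ▸ rfl)) (fun e => h6 (e ▸ rfl)))) (M.inv_mem hm)
  rwa [swap_apply_apply, swap_apply_apply, show m * swap a b * m⁻¹ * (m * swap c d * m⁻¹) = m * (swap a b * swap c d) * m⁻¹ by
    group]

theorem kl_mono {G : Set Ω} (h : Kl H G) (hle : H ≤ M) : Kl M G :=
  fun a ha b hb c hc d hd h1 h2 h3 h4 h5 h6 => hle (h a ha b hb c hc d hd h1 h2 h3 h4 h5 h6)

/-- three common points -/
theorem sm_three {B G : Set Ω} (h4 : B.ncard = 4) (hB : Kl M B) (hG : Kl M G) {p q r s : Ω} (pB : p ∈ B) (qB : q ∈ B)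
    (rB : r ∈ B) (sB : s ∉ B) (pG : p ∈ G) (qG : q ∈ G) (rG : r ∈ G) (sG : s ∈ G) (pq : p ≠ q) (pr : p ≠ r) (qr : q ≠ r) :
    Sm M := by
  obtain ⟨d, dB, d1, d2, d3⟩ := pick h4 p q r
  have ns : ∀ x ∈ B, x ≠ s := fun x hx e => sB (e ▸ hx)
  have k := M.mul_mem (M.inv_mem (hB p pB q qB r rB d dB pq pr d1.symm qr d2.symm d3.symm))
    (hG p pG q qG r rG s sG pq pr (ns p pB) qr (ns q qB) (ns r rB))
  rw [mul_inv_rev, swap_inv, swap_inv, mul_assoc, swap_mul_self_mul] at k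
  exact ⟨_, k, Or.inl (isThreeCycle_swap_mul_swap_same d3.symm (ns r rB) (ns d dB))⟩

/-- one common point -/
theorem sm_one {B G : Set Ω} (h4 : B.ncard = 4) (hB : Kl M B) (hG : Kl M G) {p q r s : Ω} (pB : p ∈ B) (qB : q ∉ B)
    (rB : r ∉ B) (sB : s ∉ B) (pG : p ∈ G) (qG : q ∈ G) (rG : r ∈ G) (sG : s ∈ G) (qr : q ≠ r) (qs : q ≠ s) (rs : r ≠ s) :
    Sm M := by
  have n : ∀ x ∈ B, ∀ y ∉ B, x ≠ y := fun x hx y hy e => hy (e ▸ hx)
  have k := hG p pG q qG r rG s sG (n p pB q qB) (n p pB r rB) (n p pB s sB) qr qs rs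
  obtain ⟨a, aB, a1, -⟩ := pick h4 p p p
  obtain ⟨b, bB, b1, b2, -⟩ := pick h4 p a a
  obtain ⟨c, cB, c1, c2, c3⟩ := pick h4 p a b
  have f : ∀ x ∈ B, x ≠ p → x ∈ (swap p q * swap r s : Perm Ω) '' B := fun x hx e => ⟨x, hx, by
    rw [Perm.mul_apply, swap_apply_of_ne_of_ne (n x hx r rB) (n x hx s sB), swap_apply_of_ne_of_ne e (n x hx q qB)]⟩
  refine sm_three h4 hB (kl_conj hB k) aB bB cB qB (f a aB a1) (f b bB b1) (f c cB c1) ⟨p, pB, ?_⟩ b2.symm c2.symm c3.symm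
  rw [Perm.mul_apply, swap_apply_of_ne_of_ne (n p pB r rB) (n p pB s sB), swap_apply_left]

/-- two common points -/
theorem mix {B G : Set Ω} (h4 : B.ncard = 4) (g4 : G.ncard = 4) (hB : Kl M B) (hG : Kl M G) (hs : ¬ Sm M) {p s : Ω}
    (pB : p ∈ B) (sB : s ∉ B) (pG : p ∈ G) (sG : s ∈ G) :
    ∃ q r, q ∈ B ∧ r ∉ B ∧ q ∈ G ∧ r ∈ G ∧ p ≠ q ∧ r ≠ s := by
  obtain ⟨q, qG, q1, q2, -⟩ := pick g4 p s s
  obtain ⟨r, rG, r1, r2, r3⟩ := pick g4 p s q
  by_cases qB : q ∈ B <;> by_cases rB : r ∈ B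
  · exact absurd (sm_three h4 hB hG pB qB rB sB pG qG rG sG q1.symm r1.symm r3.symm) hs
  · exact ⟨q, r, qB, rB, qG, rG, q1.symm, r2⟩
  · exact ⟨r, q, rB, qB, rG, qG, r1.symm, q2⟩
  · exact absurd (sm_one h4 hB hG pB qB rB sB pG qG rG sG r3.symm q2 r2) hs

/-- move the pair in `B` to a pair through `u` -/
theorem move {B G : Set Ω} (h4 : B.ncard = 4) (hB : Kl M B) (hG : Kl M G) {p q r s u : Ω} (pB : p ∈ B) (qB : q ∈ B)
    (rB : r ∉ B) (sB : s ∉ B) (pG : p ∈ G) (qG : q ∈ G) (rG : r ∈ G) (sG : s ∈ G) (pq : p ≠ q) (uB : u ∈ B) :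
    ∃ (G' : Set Ω) (v : Ω), Kl M G' ∧ u ∈ G' ∧ v ∈ G' ∧ r ∈ G' ∧ s ∈ G' ∧ v ∈ B ∧ v ≠ u := by
  by_cases h1 : u = p
  · exact ⟨G, q, hG, h1 ▸ pG, qG, rG, sG, qB, h1 ▸ pq.symm⟩
  by_cases h2 : u = q
  · exact ⟨G, p, hG, h2 ▸ qG, pG, rG, sG, pB, h2 ▸ pq⟩
  obtain ⟨d, dB, d1, d2, d3⟩ := pick h4 p q u
  have n : ∀ x ∈ B, ∀ y ∉ B, y ≠ x := fun x hx y hy e => hy (e ▸ hx)
  have f : ∀ y ∉ B, y ∈ G → y ∈ (swap p u * swap q d : Perm Ω) '' G := fun y hy e => ⟨y, e, by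
    rw [Perm.mul_apply, swap_apply_of_ne_of_ne (n q qB y hy) (n d dB y hy),
      swap_apply_of_ne_of_ne (n p pB y hy) (n u uB y hy)]⟩
  refine ⟨_, d, kl_conj hG (hB p pB u uB q qB d dB (Ne.symm h1) pq d1.symm h2 d3.symm d2.symm), ⟨p, pG, ?_⟩, ⟨q, qG, ?_⟩,
    f r rB rG, f s sB sG, dB, d3⟩
  · rw [Perm.mul_apply, swap_apply_of_ne_of_ne pq d1.symm, swap_apply_left]
  · rw [Perm.mul_apply, swap_apply_left, swap_apply_of_ne_of_ne d1 d3]

theorem card_erase {B : Set Ω} (h4 : B.ncard = 4) {u : Ω} (hu : u ∈ B) : ((Set.toFinite B).toFinset.erase u).card = 3 := by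
  rw [Finset.card_erase_of_mem ((Set.Finite.mem_toFinset _).2 hu), ← Set.ncard_eq_toFinset_card, h4]

theorem pr_sub (X H : Subgroup (Perm Ω)) : Pr X H ⊆ Ov X H := fun _ h => h.1

theorem pr_tr (h : M ∈ Pr X H) : Tr M := tr_iff.2 h.2.toIsPretransitive

end Small

open Cfsg.Agent.SM.NP.Small

theorem boxN5 : BoxN5 := fun Ω _ _ X H s h5 ht => by
  simp only [Tr, not_forall] at ht
  obtain ⟨a, b, hab⟩ := ht
  have hne : a ≠ b := fun e => hab ⟨1, H.one_mem, e⟩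
  let e := Fintype.equivFinOfCardEq h5
  refine le_trans (ncard_le_of_elts s (pr_sub X H) _ e.symm.permCongr fun M hM => ?_) (cnt5 (e a) (e b) (e.injective.ne hne))
  have := hM.2.toIsPretransitive
  obtain ⟨g, hg, o⟩ : ∃ g ∈ M, orderOf g = 5 := exists_five (by
    rw [← h5, ← Nat.card_eq_fintype_card, ← index_stabilizer_of_transitive M a]
    exact index_dvd_card _)
  have hs : g.support = Finset.univ := Finset.eq_univ_of_card _ ((card_support (by omega) o).trans h5.symm)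
  have mv : ∀ x, g x ≠ x := fun x => mem_support.1 (hs ▸ Finset.mem_univ x)
  obtain ⟨i, oi, hi⟩ := exists_pow (by omega) o (mv a) (mv b) hne
  have k : e.symm.permCongr (e.permCongr (g ^ i)) = g ^ i := e.permCongr.symm_apply_apply _
  refine ⟨e.permCongr (g ^ i), ?_, k.symm ▸ M.pow_mem hg i, k.symm ▸ fun h => hab ⟨_, h, hi⟩⟩
  simp [hi, five_apply oi]

theorem boxN6 : BoxN6 := fun Ω _ _ X H s h6 h5 => by
  let e := Fintype.equivFinOfCardEq h6
  refine le_trans (ncard_le_of_elts s (pr_sub X H) _ e.symm.permCongr fun M hM => ?_) cnt6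
  have h2 : IsMultiplyPretransitive M Ω 2 := by
    rcases S0720.result Nat.prime_three h6 M hM.2 (e.symm 0) with k | ⟨-, a, h0, h1, -⟩
    · exact k
    · exfalso
      nlinarith
  obtain ⟨g, hg, o⟩ : ∃ g ∈ M, orderOf g = 5 := exists_five (by
    have h3 := IsMultiplyPretransitive.index_of_fixingSubgroup_mul (G := M) (α := Ω) h2 (s := {e.symm 0, e.symm 1})
      (Set.ncard_pair (e.symm.injective.ne (by decide)))
    rw [Nat.card_eq_fintype_card, h6] at h3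
    refine dvd_trans ?_ (index_dvd_card (fixingSubgroup M ({e.symm 0, e.symm 1} : Set Ω)))
    norm_num [Nat.factorial] at h3
    omega)
  have c5 := card_support (by omega) o
  obtain ⟨x, hx⟩ : ∃ x, x ∉ g.support := by
    by_contra k
    rw [Finset.eq_univ_of_forall (fun x => by_contra fun h => k ⟨x, h⟩ : ∀ x, x ∈ g.support), Finset.card_univ] at c5
    omega
  obtain ⟨m, hm, rfl⟩ := pr_tr hM (e.symm 0) x
  obtain ⟨g', hg', o', f'⟩ : ∃ g' ∈ M, orderOf g' = 5 ∧ g' (e.symm 0) = e.symm 0 := by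
    refine ⟨m⁻¹ * g * m, M.mul_mem (M.mul_mem (M.inv_mem hm) hg) hm, ?_, ?_⟩
    · rw [← o]
      exact (SemiconjBy.orderOf_eq m (by simp [SemiconjBy, mul_assoc]))
    · simp [notMem_support.1 hx]
  have hs : g'.support = Finset.univ.erase (e.symm 0) := by
    refine Finset.eq_of_subset_of_card_le (fun y hy => Finset.mem_erase.2 ⟨?_, Finset.mem_univ _⟩) ?_
    · rintro rfl
      exact mem_support.1 hy f'
    · rw [card_support (by omega) o', Finset.card_erase_of_mem (Finset.mem_univ _), Finset.card_univ, h6]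
  have mv : ∀ j : Fin 6, j ≠ 0 → g' (e.symm j) ≠ e.symm j := fun j hj =>
    mem_support.1 (hs ▸ Finset.mem_erase.2 ⟨e.symm.injective.ne hj, Finset.mem_univ _⟩)
  obtain ⟨i, oi, hi⟩ := exists_pow (by omega) o' (mv 1 (by decide)) (mv 2 (by decide)) (e.symm.injective.ne (by decide))
  have k : e.symm.permCongr (e.permCongr (g' ^ i)) = g' ^ i := e.permCongr.symm_apply_apply _
  refine ⟨e.permCongr (g' ^ i), ?_, k.symm ▸ M.pow_mem hg' i, k.symm ▸ fun h => h5 _ h oi⟩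
  simp [hi, five_apply oi, pow_apply_eq_self_of_apply_eq_self f']

theorem boxN7 : BoxN7 := fun Ω _ _ X H B s h7 h4 hS hK => by
  have c3 : Bᶜ.ncard = 3 := by
    have := Set.ncard_add_ncard_compl B
    rw [Nat.card_eq_fintype_card] at this
    omega
  obtain ⟨x, y, z, xy, xz, yz, hc⟩ := Set.ncard_eq_three.1 c3
  obtain ⟨u, uB⟩ : B.Nonempty := Set.nonempty_of_ncard_ne_zero (by omega)
  refine le_trans (ncard_le_of_elts s (pr_sub X H) (({(x, y), (x, z), (y, z)} : Finset (Ω × Ω)) ×ˢ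
    ((Set.toFinite B).toFinset.erase u)) (fun i => swap i.1.1 u * swap i.1.2 i.2) fun M hM => ?_) ?_
  · obtain ⟨m, hm, e⟩ := pr_tr hM u x
    have hB := kl_mono hK hM.1.2
    have g4 : (m '' B).ncard = 4 := by rw [Set.ncard_image_of_injective _ m.injective, h4]
    obtain ⟨p, pG, p1, p2, p3⟩ := pick g4 x y z
    have pB : p ∈ B := by
      by_contra k
      have : p ∈ ({x, y, z} : Set Ω) := hc ▸ k
      simp [p1, p2, p3] at this
    have xB : x ∉ B := show x ∈ Bᶜ by simp [hc]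
    obtain ⟨q, r, qB, rB, qG, rG, pq, rx⟩ := mix h4 g4 hB (kl_conj hB hm) (not_sm s hM) pB xB pG ⟨u, uB, e⟩
    obtain ⟨G, v, hG, uG, vG, rG, xG, vB, vu⟩ := move h4 hB (kl_conj hB hm) pB qB rB xB pG qG rG ⟨u, uB, e⟩ pq uB
    have n : ∀ a ∈ B, ∀ b ∉ B, b ≠ a := fun a ha b hb e => hb (e ▸ ha)
    refine ⟨((x, r), v), Finset.mem_product.2 ⟨?_, Finset.mem_erase.2 ⟨vu, (Set.Finite.mem_toFinset _).2 vB⟩⟩,
      hG x xG u uG r rG v vG (n u uB x xB) rx.symm (n v vB x xB) (n u uB r rB).symm vu.symm (n v vB r rB), fun k => xB ?_⟩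
    · have : r ∈ ({x, y, z} : Set Ω) := hc ▸ rB
      rcases this with k | k | k
      · exact absurd k rx
      · simp [k]
      · simp [show r = z from k]
    · have := ((hS k).2 u).2 uB
      rwa [Perm.mul_apply, swap_apply_of_ne_of_ne (n u uB r rB).symm vu.symm, swap_apply_right] at this
  · rw [Finset.card_product, card_erase h4 uB]
    have : ({(x, y), (x, z), (y, z)} : Finset (Ω × Ω)).card ≤ 3 := Finset.card_le_three
    omega

theorem boxN8b : BoxN8b := fun Ω _ _ X H B s h8 h4 hS hK hK' => by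
  have c4 : Bᶜ.ncard = 4 := by
    have := Set.ncard_add_ncard_compl B
    rw [Nat.card_eq_fintype_card] at this
    omega
  obtain ⟨a, aB⟩ : B.Nonempty := Set.nonempty_of_ncard_ne_zero (by omega)
  obtain ⟨b, bB⟩ : Bᶜ.Nonempty := Set.nonempty_of_ncard_ne_zero (by omega)
  refine le_trans (ncard_le_of_elts s (pr_sub X H) (((Set.toFinite B).toFinset.erase a) ×ˢ
    ((Set.toFinite Bᶜ).toFinset.erase b)) (fun i => swap a b * swap i.1 i.2) fun M hM => ?_) ?_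
  · obtain ⟨m, hm, e⟩ : ∃ m ∈ M, ¬ ((∀ x, m x ∈ B ↔ x ∈ B) ∨ ∀ x, m x ∈ B ↔ x ∉ B) := by
      by_contra k
      obtain ⟨a', aB', a1, -⟩ := pick h4 a a a
      refine Sys.not_prim (E := ⟨fun x y => x ∈ B ↔ y ∈ B, fun _ => Iff.rfl, Iff.symm, Iff.trans⟩)
        ⟨fun g hg x y hxy => ?_, ⟨a', a, a1, iff_of_true aB' aB⟩, ⟨a, b, fun h => bB (h.1 aB)⟩⟩ hM.2
      rcases (by_contra fun h => k ⟨g, hg, h⟩ : (∀ x, g x ∈ B ↔ x ∈ B) ∨ ∀ x, g x ∈ B ↔ x ∉ B) with h | h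
      · exact (h x).trans (Iff.trans hxy (h y).symm)
      · exact (h x).trans (Iff.trans (not_congr hxy) (h y).symm)
    have hB := kl_mono hK hM.1.2
    have hB' := kl_mono hK' hM.1.2
    have g4 : (m '' B).ncard = 4 := by rw [Set.ncard_image_of_injective _ m.injective, h4]
    obtain ⟨p, pG, pB⟩ : ∃ p ∈ m '' B, p ∈ B := by
      by_contra k
      have h1 : m '' B = Bᶜ := Set.eq_of_subset_of_ncard_le (fun x hx h => k ⟨x, hx, h⟩) (by omega)
      refine e (Or.inr fun x => ?_)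
      rw [← m.injective.mem_set_image (s := B) (a := x), h1, Set.mem_compl_iff, not_not]
    obtain ⟨t, tG, tB⟩ : ∃ t ∈ m '' B, t ∉ B := by
      by_contra k
      have h1 : m '' B = B := Set.eq_of_subset_of_ncard_le (fun x hx => by_contra fun h => k ⟨x, hx, h⟩) (by omega)
      refine e (Or.inl fun x => ?_)
      rw [← m.injective.mem_set_image (s := B) (a := x), h1]
    obtain ⟨q, r, qB, rB, qG, rG, pq, rt⟩ := mix h4 g4 hB (kl_conj hB hm) (not_sm s hM) pB tB pG tG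
    obtain ⟨G, v, hG, aG, vG, rG, tG, vB, va⟩ := move h4 hB (kl_conj hB hm) pB qB rB tB pG qG rG tG pq aB
    obtain ⟨G', w, hG', bG, wG, aG, vG, wB, wb⟩ := move c4 hB' hG rB tB (not_not.2 aB) (not_not.2 vB) rG tG aG vG rt bB
    have n : ∀ x ∈ B, ∀ y ∈ Bᶜ, x ≠ y := fun x hx y hy e => hy (e ▸ hx)
    refine ⟨(v, w), Finset.mem_product.2 ⟨Finset.mem_erase.2 ⟨va, (Set.Finite.mem_toFinset _).2 vB⟩,
      Finset.mem_erase.2 ⟨wb, (Set.Finite.mem_toFinset _).2 wB⟩⟩,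
      hG' a aG b bG v vG w wG (n a aB b bB) va.symm (n a aB w wB) (n v vB b bB).symm wb.symm (n v vB w wB), fun k => ?_⟩
    rcases hS _ k with h | h
    · have := (h a).2 aB
      rw [Perm.mul_apply, swap_apply_of_ne_of_ne va.symm (n a aB w wB), swap_apply_left] at this
      exact bB this
    · obtain ⟨d, dB, d1, d2, -⟩ := pick h4 a v v
      refine (h d).1 ?_ dB
      rwa [Perm.mul_apply, swap_apply_of_ne_of_ne d2 (n d dB w wB), swap_apply_of_ne_of_ne d1 (n d dB b bB)]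
  · rw [Finset.card_product, card_erase h4 aB, card_erase c4 bB]

end Cfsg.Agent.SM.NP
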