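import Cfsg.Agent.SM.NP.DefsIm
import Cfsg.Agent.SM.NP.Small

/-!
# SM (S3570), `H` transitive and imprimitive: the box `I6` (helper79)
-/

set_option autoImplicit false
set_option maxHeartbeats 400000

namespace Cfsg.Agent.SM.NP

open Equiv Equiv.Perm Subgroup MulAction

theorem boxI6_of (N6 : BoxN6) : BoxI6 := fun Ω _ _ X H E s ht hE h6 hc => by
  obtain ⟨a, -⟩ := hE.nb
  have h1 : (Np X H).ncard ≤ (Finset.univ.erase a).card :=
    ncard_Np_le s _ (fun E' b => E' a b) (fun E' h => by
      obtain ⟨b, hb, e⟩ := h.exists_mate ht a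
      exact ⟨b, Finset.mem_erase.2 ⟨hb, Finset.mem_univ _⟩, e⟩)
      fun E' E'' h h' b hb e e' => h.eq_of_pair h' hc (Finset.mem_erase.1 hb).1.symm e e'
  rw [Finset.card_erase_of_mem (Finset.mem_univ _), Finset.card_univ, h6] at h1
  have h2 := N6 Ω X H s h6 fun g hg o => by
    have c5 := Small.card_support (by omega) o
    obtain ⟨x, hx⟩ := exists_notMem_of_card (T := g.support) (by omega)
    have hs : g.support = Finset.univ.erase x := by
      refine Finset.eq_of_subset_of_card_le (fun y hy => Finset.mem_erase.2 ⟨fun e => hx (e ▸ hy), Finset.mem_univ _⟩) ?_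
      rw [c5, Finset.card_erase_of_mem (Finset.mem_univ _), Finset.card_univ, h6]
    have mv : ∀ y, y ≠ x → g y ≠ y := fun y hy => mem_support.1 (hs ▸ Finset.mem_erase.2 ⟨hy, Finset.mem_univ _⟩)
    obtain ⟨y, hy, e⟩ := hE.exists_mate ht x
    obtain ⟨z, hz⟩ := hE.exists_out x
    obtain ⟨i, -, hi⟩ := Small.exists_pow (by omega) o (mv y hy) (mv z fun k => hz (k ▸ E.refl' _)) fun k => hz (k ▸ e)
    have := hE.inv _ (H.pow_mem hg i) x y e
    rw [hi, pow_apply_eq_self_of_apply_eq_self (notMem_support.1 hx)] at this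
    exact hz this
  have h3 := ncard_Ov X H
  omega

end Cfsg.Agent.SM.NP
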