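import Cfsg.Agent.SM.Base
import Mathlib.GroupTheory.GroupAction.Jordan

/-!
# SM (S3570), `H` not primitive: definitions, first tools and the sub-boxes (helper68)

The paper proofs of the boxes are in `notes/SM/np.md`.
-/

set_option autoImplicit false
set_option linter.unusedSectionVars false
set_option linter.unusedVariables false

namespace Cfsg.Agent.SM.NP

open Equiv Equiv.Perm Subgroup MulAction

variable {Ω : Type} [Fintype Ω] [DecidableEq Ω]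

/-- transitive -/
def Tr (H : Subgroup (Perm Ω)) : Prop := ∀ a b : Ω, ∃ g ∈ H, g a = b

/-- doubly transitive -/
def Tr2 (H : Subgroup (Perm Ω)) : Prop := ∀ a b c d : Ω, a ≠ b → c ≠ d → ∃ g ∈ H, g a = c ∧ g b = d

/-- the stabiliser in `X` of an equivalence relation -/
def St (X : Subgroup (Perm Ω)) (E : Setoid Ω) : Subgroup (Perm Ω) where
  carrier := {g | g ∈ X ∧ ∀ a b, E (g a) (g b) ↔ E a b}
  one_mem' := ⟨X.one_mem, fun a b => Iff.rfl⟩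
  mul_mem' := fun {g h} hg hh => ⟨X.mul_mem hg.1 hh.1, fun a b => (hg.2 _ _).trans (hh.2 a b)⟩
  inv_mem' := fun {g} hg => ⟨X.inv_mem hg.1, fun a b => by
    have := hg.2 (g⁻¹ a) (g⁻¹ b)
    simpa using this.symm⟩

/-- the stabiliser in `X` of a set -/
def Sw (X : Subgroup (Perm Ω)) (A : Set Ω) : Subgroup (Perm Ω) where
  carrier := {g | g ∈ X ∧ ∀ a, g a ∈ A ↔ a ∈ A}
  one_mem' := ⟨X.one_mem, fun a => Iff.rfl⟩
  mul_mem' := fun {g h} hg hh => ⟨X.mul_mem hg.1 hh.1, fun a => (hg.2 _).trans (hh.2 a)⟩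
  inv_mem' := fun {g} hg => ⟨X.inv_mem hg.1, fun a => by
    have := hg.2 (g⁻¹ a)
    simpa using this.symm⟩

theorem mem_St {X : Subgroup (Perm Ω)} {E : Setoid Ω} {g : Perm Ω} :
    g ∈ St X E ↔ g ∈ X ∧ ∀ a b, E (g a) (g b) ↔ E a b := Iff.rfl

theorem mem_Sw {X : Subgroup (Perm Ω)} {A : Set Ω} {g : Perm Ω} :
    g ∈ Sw X A ↔ g ∈ X ∧ ∀ a, g a ∈ A ↔ a ∈ A := Iff.rfl

/-- `E` is a non-trivial `H`-invariant equivalence relation -/
structure Sys (H : Subgroup (Perm Ω)) (E : Setoid Ω) : Prop where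
  inv : ∀ g ∈ H, ∀ a b, E a b → E (g a) (g b)
  nb : ∃ a b, a ≠ b ∧ E a b
  nt : ∃ a b, ¬ E a b

/-- the primitive maximal overgroups -/
def Pr (X H : Subgroup (Perm Ω)) : Set (Subgroup (Perm Ω)) := {M | M ∈ Ov X H ∧ IsPreprimitive M Ω}

/-- the other maximal overgroups -/
def Np (X H : Subgroup (Perm Ω)) : Set (Subgroup (Perm Ω)) := {M | M ∈ Ov X H ∧ ¬ IsPreprimitive M Ω}

/-- `H` contains a 3-cycle or a transposition -/
def Sm (H : Subgroup (Perm Ω)) : Prop := ∃ g ∈ H, g.IsThreeCycle ∨ g.IsSwap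

/-- `τ` is a fixed point free involution (a perfect matching) -/
structure Mat (τ : Perm Ω) : Prop where
  ne : ∀ a, τ a ≠ a
  inv : ∀ a, τ (τ a) = a

/-- `H` contains the products of two edges of the matching -/
def Dbl (H : Subgroup (Perm Ω)) (τ : Perm Ω) : Prop :=
  ∀ a b, b ≠ a → b ≠ τ a → swap a (τ a) * swap b (τ b) ∈ H

/-- for any three edges of the matching `H` has an element of order three that moves only the points of these edges and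
maps the first edge to the second one -/
def Lifts (H : Subgroup (Perm Ω)) (τ : Perm Ω) : Prop :=
  ∀ a b c, b ≠ a → b ≠ τ a → c ≠ a → c ≠ τ a → c ≠ b → c ≠ τ b →
    ∃ r ∈ H, r ^ 3 = 1 ∧ (r a = b ∨ r a = τ b) ∧ (r (τ a) = b ∨ r (τ a) = τ b) ∧
      ∀ x, x ≠ a → x ≠ τ a → x ≠ b → x ≠ τ b → x ≠ c → x ≠ τ c → r x = x

/-- `H` contains the double transpositions on `B` -/
def Kl (H : Subgroup (Perm Ω)) (B : Set Ω) : Prop :=
  ∀ a ∈ B, ∀ b ∈ B, ∀ c ∈ B, ∀ d ∈ B, a ≠ b → a ≠ c → a ≠ d → b ≠ c → b ≠ d → c ≠ d → swap a b * swap c d ∈ H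

/-- `H` preserves the partition `{B, Bᶜ}` -/
def Hf (H : Subgroup (Perm Ω)) (B : Set Ω) : Prop := ∀ g ∈ H, (∀ a, g a ∈ B ↔ a ∈ B) ∨ ∀ a, g a ∈ B ↔ a ∉ B

/-- every permutation of `B` is induced by an element of `H` -/
def Full (H : Subgroup (Perm Ω)) (B : Set Ω) : Prop :=
  ∀ σ : Perm Ω, (∀ a, a ∉ B → σ a = a) → ∃ d ∈ H, ∀ a ∈ B, d a = σ a

/-- conjugate in the symmetric group -/
def Cj (S T : Subgroup (Perm Ω)) : Prop := ∃ g : Perm Ω, ∀ x, x ∈ S ↔ g * x * g⁻¹ ∈ T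

/-- the groups with the property `P` lie in at most `c` conjugacy classes of the symmetric group -/
def Few (P : Subgroup (Perm Ω) → Prop) (c : ℕ) : Prop :=
  ∃ R : Finset (Subgroup (Perm Ω)), R.card ≤ c ∧ ∀ S, P S → ∃ T ∈ R, Cj S T

/-! ### the boxes: doubly primitive groups -/

/-- doubly primitive groups: at most four classes of socles, up to `M₁₁`, `M₁₂` in degree 12 -/
def BoxTT : Prop := ∀ (Ω : Type) [Fintype Ω] [DecidableEq Ω], 6 ≤ Fintype.card Ω →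
  ∃ R : Finset (Subgroup (Perm Ω)), R.card ≤ 4 ∧ ∀ M : Subgroup (Perm Ω), IsMultiplyPreprimitive M Ω 2 →
    ¬ alternatingGroup Ω ≤ M → (∃ S, Nor M S ∧ S ≠ ⊥ ∧ ∃ T ∈ R, Cj S T) ∨
      (Fintype.card Ω = 12 ∧ IsMultiplyPretransitive M Ω 3 ∧ (Nat.card M = 7920 ∨ Nat.card M = 95040))

/-- three doubly transitive groups of the same degree `22, 176, 276` that are isomorphic and have the order of
`M₂₂`, `HS`, `Co₃`: two of them are conjugate -/
def BoxLink : Prop := ∀ (Ω : Type) [Fintype Ω] [DecidableEq Ω] (S₁ S₂ S₃ : Subgroup (Perm Ω)),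
  (Fintype.card Ω = 22 ∧ Nat.card S₁ = 443520) ∨ (Fintype.card Ω = 176 ∧ Nat.card S₁ = 44352000) ∨
    (Fintype.card Ω = 276 ∧ Nat.card S₁ = 495766656000) →
  Tr2 S₁ → Tr2 S₂ → Tr2 S₃ → Nonempty (S₁ ≃* S₂) → Nonempty (S₁ ≃* S₃) → Cj S₁ S₂ ∨ Cj S₁ S₃ ∨ Cj S₂ S₃

/-- `M₁₁`, `M₁₂` in degree 12 with a given stabiliser of three points -/
def BoxN12 : Prop := ∀ (Ω : Type) [Fintype Ω] [DecidableEq Ω] (X H : Subgroup (Perm Ω)) (a b c : Ω), Sec X H →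
  Fintype.card Ω = 12 → a ≠ b → a ≠ c → b ≠ c → (∀ g ∈ H, ¬ (g a = b ∧ g b = a ∧ g c = c)) →
  {M | M ∈ Ov X H ∧ IsMultiplyPretransitive M Ω 3 ∧ (Nat.card M = 7920 ∨ Nat.card M = 95040) ∧
    ∀ g ∈ M, g a = a → g b = b → g c = c → g ∈ H}.ncard ≤ 9

/-- `H` fixes a point -/
def BoxE1 : Prop := ∀ (Ω : Type) [Fintype Ω] [DecidableEq Ω] (X H : Subgroup (Perm Ω)) (α : Ω), Sec X H →
  6 ≤ Fintype.card Ω → (∀ g ∈ H, g α = α) → {M | M ∈ Ov X H ∧ IsMultiplyPreprimitive M Ω 2}.ncard ≤ 9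

/-- `H` fixes a pair -/
def BoxE2 : Prop := ∀ (Ω : Type) [Fintype Ω] [DecidableEq Ω] (X H : Subgroup (Perm Ω)) (x y : Ω), Sec X H →
  7 ≤ Fintype.card Ω → x ≠ y → H ≤ Sw X {x, y} → {M | M ∈ Ov X H ∧ IsMultiplyPretransitive M Ω 3}.ncard ≤ 9

/-! ### the boxes: small degrees and small supports -/

def BoxN5 : Prop := ∀ (Ω : Type) [Fintype Ω] [DecidableEq Ω] (X H : Subgroup (Perm Ω)), Sec X H →
  Fintype.card Ω = 5 → ¬ Tr H → (Pr X H).ncard ≤ 6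

def BoxN6 : Prop := ∀ (Ω : Type) [Fintype Ω] [DecidableEq Ω] (X H : Subgroup (Perm Ω)), Sec X H →
  Fintype.card Ω = 6 → (∀ g ∈ H, orderOf g ≠ 5) → (Pr X H).ncard ≤ 6

def BoxN7 : Prop := ∀ (Ω : Type) [Fintype Ω] [DecidableEq Ω] (X H : Subgroup (Perm Ω)) (B : Set Ω), Sec X H →
  Fintype.card Ω = 7 → B.ncard = 4 → H ≤ Sw X B → Kl H B → (Pr X H).ncard ≤ 9

def BoxN8a : Prop := ∀ (Ω : Type) [Fintype Ω] [DecidableEq Ω] (X H : Subgroup (Perm Ω)) (τ : Perm Ω), Sec X H →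
  Fintype.card Ω = 8 → Mat τ → (∀ g ∈ H, g * τ = τ * g) → Lifts H τ → Sm H ∨ Dbl H τ

def BoxN8b : Prop := ∀ (Ω : Type) [Fintype Ω] [DecidableEq Ω] (X H : Subgroup (Perm Ω)) (B : Set Ω), Sec X H →
  Fintype.card Ω = 8 → B.ncard = 4 → Hf H B → Kl H B → Kl H Bᶜ → (Pr X H).ncard ≤ 9

/-- the even part of the base group of `S₂ ≀ S_l` lies in `H` -/
def BoxP2 : Prop := ∀ (Ω : Type) [Fintype Ω] [DecidableEq Ω] (X H : Subgroup (Perm Ω)) (τ : Perm Ω), Sec X H →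
  8 ≤ Fintype.card Ω → Mat τ → (∀ g ∈ H, g * τ = τ * g) → Dbl H τ → (Pr X H).ncard ≤ 9

/-- elements of order three with two cycles -/
def BoxP4 : Prop := ∀ (Ω : Type) [Fintype Ω] [DecidableEq Ω] (M : Subgroup (Perm Ω)) (τ : Perm Ω),
  10 ≤ Fintype.card Ω → Mat τ → Lifts M τ → IsPreprimitive M Ω → alternatingGroup Ω ≤ M

/-- an element of order three that moves at most six points, degree at least 11 -/
def BoxS6 : Prop := ∀ (Ω : Type) [Fintype Ω] [DecidableEq Ω] (M : Subgroup (Perm Ω)) (r : Perm Ω),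
  11 ≤ Fintype.card Ω → r ∈ M → r ^ 3 = 1 → r ≠ 1 → r.support.card ≤ 6 → IsPreprimitive M Ω → alternatingGroup Ω ≤ M

/-- a Jordan set of less than half of the points -/
def BoxJ3 : Prop := ∀ (Ω : Type) [Fintype Ω] [DecidableEq Ω] (M : Subgroup (Perm Ω)) (B : Set Ω),
  2 ≤ B.ncard → 2 * B.ncard < Fintype.card Ω → (∀ a ∈ B, ∀ b ∈ B, ∃ g ∈ M, g a = b ∧ ∀ x, x ∉ B → g x = x) →
  IsPreprimitive M Ω → alternatingGroup Ω ≤ M

/-- a Jordan set of half of the points: `M_B` is primitive on `B`, `B` and `Bᶜ` are interchanged, and the even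
restrictions to `B` lie in `M` -/
def BoxJ2 : Prop := ∀ (Ω : Type) [Fintype Ω] [DecidableEq Ω] (M : Subgroup (Perm Ω)) (B : Set Ω),
  3 ≤ B.ncard → (∃ h ∈ M, ∀ a, h a ∈ B ↔ a ∉ B) →
  (∀ a ∈ B, ∀ b ∈ B, ∃ g ∈ M, g a = b ∧ ∀ x, x ∉ B → g x = x) →
  (∀ E : Setoid Ω, (∀ g ∈ M, (∀ x, g x ∈ B ↔ x ∈ B) → ∀ a ∈ B, ∀ b ∈ B, E a b → E (g a) (g b)) →
    (∀ a ∈ B, ∀ b ∈ B, E a b) ∨ ∀ a ∈ B, ∀ b ∈ B, E a b → a = b) →
  (∀ g ∈ M, ∀ σ : Perm Ω, sign σ = 1 → (∀ x ∈ B, σ x = g x) → (∀ x, x ∉ B → σ x = x) → σ ∈ M) →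
  IsPreprimitive M Ω → alternatingGroup Ω ≤ M

/-- two blocks, the stabiliser of the blocks is a diagonal symmetric group -/
def BoxDiag : Prop := ∀ (Ω : Type) [Fintype Ω] [DecidableEq Ω] (H : Subgroup (Perm Ω)) (B : Set Ω),
  5 ≤ B.ncard → B.ncard ≠ 6 → Bᶜ.ncard = B.ncard → Full H B → Full H Bᶜ →
  (∀ d ∈ H, (∀ a ∈ B, d a = a) → d = 1) → (∀ d ∈ H, (∀ a, a ∉ B → d a = a) → d = 1) → ∃ τ, Mat τ ∧ Lifts H τ

/-- two blocks of size six, the exotic diagonal -/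
def BoxX12 : Prop := ∀ (Ω : Type) [Fintype Ω] [DecidableEq Ω] (X H : Subgroup (Perm Ω)) (B : Set Ω), Sec X H →
  Fintype.card Ω = 12 → B.ncard = 6 → Tr H → Hf H B → Full H B →
  (∀ d ∈ H, ∀ c : Perm Ω, c.IsThreeCycle → (∀ a, a ∉ B → c a = a) → (∀ a ∈ B, d a = c a) → ∀ a, a ∉ B → d a ≠ a) →
  (Pr X H).ncard ≤ 9

/-! ### the boxes: the two halves -/

/-- `H` is a Young subgroup with at most three parts -/
def BoxYoung : Prop := ∀ (Ω : Type) [Fintype Ω] [DecidableEq Ω] (X H : Subgroup (Perm Ω)) (f : Ω → Fin 3), Sec X H →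
  (∀ g, g ∈ H ↔ g ∈ X ∧ ∀ x, f (g x) = f x) → (Ov X H).ncard ≤ 11

/-- `H` has the two orbits `A`, `Aᶜ` and is maximal in the stabiliser of `A` -/
structure Two (X H : Subgroup (Perm Ω)) (A : Set Ω) : Prop where
  ov : Sw X A ∈ Ov X H
  ne : A.Nonempty
  lt : A.ncard < Aᶜ.ncard
  trA : ∀ a ∈ A, ∀ b ∈ A, ∃ g ∈ H, g a = b
  trB : ∀ a, a ∉ A → ∀ b, b ∉ A → ∃ g ∈ H, g a = b

def BoxTwoNp : Prop := ∀ (Ω : Type) [Fintype Ω] [DecidableEq Ω] (X H : Subgroup (Perm Ω)) (A : Set Ω), Sec X H →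
  Two X H A → (Np X H).ncard ≤ 2

def BoxTwo1 : Prop := ∀ (Ω : Type) [Fintype Ω] [DecidableEq Ω] (X H : Subgroup (Perm Ω)) (A : Set Ω), Sec X H →
  Two X H A → A.ncard = 1 → (Pr X H).ncard ≤ 9

def BoxTwo2 : Prop := ∀ (Ω : Type) [Fintype Ω] [DecidableEq Ω] (X H : Subgroup (Perm Ω)) (A : Set Ω), Sec X H →
  Two X H A → A.ncard = 2 → (Pr X H).ncard ≤ 9

def BoxTwo3 : Prop := ∀ (Ω : Type) [Fintype Ω] [DecidableEq Ω] (X H : Subgroup (Perm Ω)) (A : Set Ω), Sec X H →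
  Two X H A → 3 ≤ A.ncard → (Pr X H).ncard ≤ 9

/-- `H` intransitive -/
def BoxIn : Prop := ∀ (Ω : Type) [Fintype Ω] [DecidableEq Ω] (X H : Subgroup (Perm Ω)), Sec X H →
  ¬ Tr H → (Ov X H).ncard ≤ 11

/-- `H` transitive and imprimitive -/
def BoxIm : Prop := ∀ (Ω : Type) [Fintype Ω] [DecidableEq Ω] (X H : Subgroup (Perm Ω)), Sec X H →
  Tr H → ¬ IsPreprimitive H Ω → (Ov X H).ncard ≤ 11

theorem boxNP_of (h1 : BoxIn) (h2 : BoxIm) : BoxNP := fun Ω _ _ X H s hp => by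
  by_cases h : Tr H
  · exact h2 Ω X H s h hp
  · exact h1 Ω X H s h

/-! ### first tools -/

variable {X H M : Subgroup (Perm Ω)}

theorem St_le (X : Subgroup (Perm Ω)) (E : Setoid Ω) : St X E ≤ X := fun _ h => h.1

theorem Sw_le (X : Subgroup (Perm Ω)) (A : Set Ω) : Sw X A ≤ X := fun _ h => h.1

theorem Sys.iff {E : Setoid Ω} (h : Sys H E) {g : Perm Ω} (hg : g ∈ H) (a b : Ω) : E (g a) (g b) ↔ E a b :=
  ⟨fun h1 => by simpa using h.inv g⁻¹ (H.inv_mem hg) _ _ h1, h.inv g hg a b⟩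

theorem Sys.le_St {E : Setoid Ω} (h : Sys H E) (hX : H ≤ X) : H ≤ St X E := fun g hg => ⟨hX hg, h.iff hg⟩

theorem Sys.mono {E : Setoid Ω} (h : Sys M E) (hle : H ≤ M) : Sys H E :=
  ⟨fun g hg => h.inv g (hle hg), h.nb, h.nt⟩

theorem Sys.St {E : Setoid Ω} (h : Sys H E) (X : Subgroup (Perm Ω)) : Sys (St X E) E :=
  ⟨fun g hg a b hab => (hg.2 a b).2 hab, h.nb, h.nt⟩

theorem tr_iff : Tr H ↔ IsPretransitive H Ω :=
  ⟨fun h => ⟨fun a b => by
    obtain ⟨g, hg, e⟩ := h a b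
    exact ⟨⟨g, hg⟩, e⟩⟩, fun h a b => by
    obtain ⟨g, e⟩ := h.exists_smul_eq a b
    exact ⟨g, g.2, e⟩⟩

theorem tr2_iff : Tr2 H ↔ IsMultiplyPretransitive H Ω 2 := by
  rw [is_two_pretransitive_iff]
  refine ⟨fun h a b c d hab hcd => ?_, fun h a b c d hab hcd => ?_⟩
  · obtain ⟨g, hg, e⟩ := h a b c d hab hcd
    exact ⟨⟨g, hg⟩, e⟩
  · obtain ⟨g, e⟩ := h hab hcd
    exact ⟨g, g.2, e⟩

theorem Tr.mono (h : Tr H) (hle : H ≤ M) : Tr M := fun a b => by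
  obtain ⟨g, hg, e⟩ := h a b
  exact ⟨g, hle hg, e⟩

theorem swap_mul_mem_alt {a b c d : Ω} (h1 : a ≠ b) (h2 : c ≠ d) : swap a b * swap c d ∈ alternatingGroup Ω := by
  rw [mem_alternatingGroup, map_mul, sign_swap h1, sign_swap h2]
  rfl

/-- the alternating group is doubly transitive -/
theorem tr2_alt (h4 : 4 ≤ Fintype.card Ω) : Tr2 (alternatingGroup Ω) := by
  rw [tr2_iff]
  have := alternatingGroup.isMultiplyPretransitive Ω
  exact isMultiplyPretransitive_of_le (n := Nat.card Ω - 2) (by rw [Nat.card_eq_fintype_card]; omega) (by omega)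

/-- a group with a non-trivial invariant equivalence relation does not contain the alternating group -/
theorem Sys.not_alt_le {E : Setoid Ω} (h : Sys H E) (h4 : 4 ≤ Fintype.card Ω) : ¬ alternatingGroup Ω ≤ H := by
  intro hle
  obtain ⟨a, b, hab, e⟩ := h.nb
  obtain ⟨c, d, hcd⟩ := h.nt
  obtain ⟨g, hg, rfl, rfl⟩ := tr2_alt h4 a b c d hab fun h => hcd (h ▸ E.refl' c)
  exact hcd (h.inv g (hle hg) a b e)

theorem Sys.St_lt (s : Sec X H) {E : Setoid Ω} {K : Subgroup (Perm Ω)} (h : Sys K E) : NP.St X E < X :=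
  lt_of_le_of_ne (St_le X E) fun e =>
    (h.St X).not_alt_le (by have := s.five; omega) (e.symm ▸ s.alt)

/-- a member of `Ov` with a non-trivial invariant equivalence relation is its stabiliser -/
theorem Sys.eq_St (s : Sec X H) (hM : M ∈ Ov X H) {E : Setoid Ω} (h : Sys M E) : M = NP.St X E := by
  rcases hM.1.eq_or_eq (h.le_St hM.1.le) (St_le X E) with e | e
  · exact e.symm
  · exact absurd e (h.St_lt s).ne

theorem Sys.not_prim {E : Setoid Ω} (h : Sys H E) : ¬ IsPreprimitive H Ω := by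
  intro hp
  obtain ⟨a, b, hab, e⟩ := h.nb
  obtain ⟨c, d, hcd⟩ := h.nt
  have hB : IsBlock H {x | E a x} := by
    rw [isBlock_iff_smul_eq_of_mem]
    intro g x hx hgx
    ext y
    rw [Set.mem_smul_set_iff_inv_smul_mem]
    have h1 : E (g.1 a) a := E.trans' (h.inv g.1 g.2 a x hx) (E.symm' hgx)
    have h2 := h.iff g.2 a (g.1⁻¹ y)
    simp only [Perm.coe_inv, apply_symm_apply] at h2
    exact ⟨fun h3 => E.trans' (E.symm' h1) (h2.2 h3), fun h3 => h2.1 (E.trans' h1 h3)⟩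
  rcases hB.subsingleton_or_eq_univ with h1 | h1
  · exact hab (h1 (E.refl' a) e)
  · have h2 : ∀ x, E a x := fun x => (h1.symm ▸ Set.mem_univ x : x ∈ {x | E a x})
    exact hcd (E.trans' (E.symm' (h2 c)) (h2 d))

/-- a group that is not primitive has a non-trivial invariant equivalence relation -/
theorem exists_sys (h3 : 3 ≤ Fintype.card Ω) (hp : ¬ IsPreprimitive H Ω) : ∃ E, Sys H E := by
  by_cases ht : Tr H
  · have := tr_iff.1 ht
    by_contra hcon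
    apply hp
    refine ⟨fun {B} hB => ?_⟩
    by_contra hnt
    rw [IsTrivialBlock, not_or, Set.not_subsingleton_iff] at hnt
    obtain ⟨⟨a, ha, b, hb, hab⟩, hu⟩ := hnt
    have key : ∀ g : H, ∀ x ∈ B, g • x ∈ B → ∀ y ∈ B, g • y ∈ B := fun g x hx hgx y hy => by
      have := isBlock_iff_smul_eq_of_mem.1 hB hx hgx
      exact this ▸ Set.smul_mem_smul_set hy
    apply hcon
    refine ⟨⟨fun x y => ∀ g : H, g • x ∈ B ↔ g • y ∈ B, fun _ _ => Iff.rfl, fun h g => (h g).symm,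
      fun h h' g => (h g).trans (h' g)⟩, fun g hg x y hxy k => ?_, ⟨a, b, hab, fun g => ?_⟩, ?_⟩
    · exact hxy (k * ⟨g, hg⟩)
    · exact ⟨fun h => key g a ha h b hb, fun h => key g b hb h a ha⟩
    · obtain ⟨c, hc⟩ := (Set.ne_univ_iff_exists_notMem B).1 hu
      exact ⟨a, c, fun h => hc (by simpa using (h 1).1 (by simpa using ha))⟩
  · simp only [Tr, not_forall] at ht
    obtain ⟨a, b, hab⟩ := ht
    have key : ∀ g ∈ H, ∀ x, (∃ k ∈ H, k a = g x) ↔ ∃ k ∈ H, k a = x := fun g hg x =>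
      ⟨fun ⟨k, hk, e⟩ => ⟨g⁻¹ * k, H.mul_mem (H.inv_mem hg) hk, by simp [e]⟩,
        fun ⟨k, hk, e⟩ => ⟨g * k, H.mul_mem hg hk, by simp [e]⟩⟩
    have ha : ∃ k ∈ H, k a = a := ⟨1, H.one_mem, rfl⟩
    refine ⟨⟨fun x y => (∃ k ∈ H, k a = x) ↔ ∃ k ∈ H, k a = y, fun _ => Iff.rfl, Iff.symm, Iff.trans⟩,
      fun g hg x y hxy => (key g hg x).trans (Iff.trans hxy (key g hg y).symm), ?_, ⟨a, b, fun h => hab (h.1 ha)⟩⟩
    have hne : a ≠ b := fun e => hab (e ▸ ha)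
    obtain ⟨c, hc1, hc2⟩ : ∃ c, c ≠ a ∧ c ≠ b := by
      by_contra hc
      have h1 : (Finset.univ : Finset Ω) ⊆ {a, b} := fun c _ => by
        by_contra h2
        simp only [Finset.mem_insert, Finset.mem_singleton, not_or] at h2
        exact hc ⟨c, h2⟩
      have h2 := Finset.card_le_card h1
      rw [Finset.card_univ, Finset.card_pair hne] at h2
      omega
    by_cases h : ∃ k ∈ H, k a = c
    · exact ⟨c, a, hc1, iff_of_true h ha⟩
    · exact ⟨c, b, hc2, iff_of_false h hab⟩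

/-- a member of `Np` is the stabiliser of a non-trivial equivalence relation -/
theorem exists_St (s : Sec X H) (hM : M ∈ Np X H) : ∃ E, Sys M E ∧ M = St X E := by
  obtain ⟨E, hE⟩ := exists_sys (by have := s.five; omega) hM.2
  exact ⟨E, hE, hE.eq_St s hM.1⟩

/-- Jordan -/
theorem Sm.alt_le (h : Sm M) (hp : IsPreprimitive M Ω) : alternatingGroup Ω ≤ M := by
  obtain ⟨g, hg, h1 | h1⟩ := h
  · exact alternatingGroup_le_of_isPreprimitive_of_isThreeCycle_mem hp h1 hg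
  · exact (subgroup_eq_top_of_isPreprimitive_of_isSwap_mem hp g h1 hg).symm ▸ le_top

theorem Sm.mono (h : Sm H) (hle : H ≤ M) : Sm M := by
  obtain ⟨g, hg, h1⟩ := h
  exact ⟨g, hle hg, h1⟩

theorem not_sm (s : Sec X H) (hM : M ∈ Pr X H) : ¬ Sm M := fun h => s.not_alt_le hM.1 (h.alt_le hM.2)

theorem Sm.Pr_eq (s : Sec X H) (h : Sm H) : Pr X H = ∅ :=
  Set.eq_empty_of_forall_notMem fun M hM => not_sm s hM (h.mono hM.1.2)

theorem ncard_Ov (X H : Subgroup (Perm Ω)) : (Ov X H).ncard ≤ (Np X H).ncard + (Pr X H).ncard := by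
  refine le_trans (Set.ncard_le_ncard (fun M hM => ?_) (Set.toFinite _)) (Set.ncard_union_le _ _)
  by_cases h : IsPreprimitive M Ω
  · exact Or.inr ⟨hM, h⟩
  · exact Or.inl ⟨hM, h⟩

/-- **counting by elements**: every member of `𝓜` contains an element `F i` outside `H`, `i ∈ Z` -/
theorem ncard_le_of_elts (s : Sec X H) {𝓜 : Set (Subgroup (Perm Ω))} (h𝓜 : 𝓜 ⊆ Ov X H) {ι : Type*} (Z : Finset ι)
    (F : ι → Perm Ω) (h : ∀ M ∈ 𝓜, ∃ i ∈ Z, F i ∈ M ∧ F i ∉ H) : 𝓜.ncard ≤ Z.card := by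
  classical
  rcases Set.eq_empty_or_nonempty 𝓜 with rfl | ⟨M₀, hM₀⟩
  · simp
  obtain ⟨i₀, -, -⟩ := h M₀ hM₀
  have : Nonempty ι := ⟨i₀⟩
  choose! f hf using h
  rw [← Set.ncard_coe_finset]
  refine Set.ncard_le_ncard_of_injOn f (fun M hM => (hf M hM).1) (fun M hM M' hM' e => ?_) (Set.toFinite _)
  exact s.eq_of_mem (h𝓜 hM) (h𝓜 hM') (hf M hM).2.1 (e ▸ (hf M' hM').2.1) (hf M hM).2.2

/-- **counting by labels**: two members of `𝓜` with the same label have a common element outside `H` -/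
theorem ncard_le_of_labels (s : Sec X H) {𝓜 : Set (Subgroup (Perm Ω))} (h𝓜 : 𝓜 ⊆ Ov X H) {ι : Type*} (Z : Finset ι)
    (L : Subgroup (Perm Ω) → ι → Prop) (h : ∀ M ∈ 𝓜, ∃ i ∈ Z, L M i)
    (hL : ∀ M ∈ 𝓜, ∀ M' ∈ 𝓜, ∀ i ∈ Z, L M i → L M' i → M = M') : 𝓜.ncard ≤ Z.card := by
  classical
  rcases Set.eq_empty_or_nonempty 𝓜 with rfl | ⟨M₀, hM₀⟩
  · simp
  obtain ⟨i₀, -, -⟩ := h M₀ hM₀
  have : Nonempty ι := ⟨i₀⟩
  choose! f hf using h
  rw [← Set.ncard_coe_finset]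
  refine Set.ncard_le_ncard_of_injOn f (fun M hM => (hf M hM).1) (fun M hM M' hM' e => ?_) (Set.toFinite _)
  exact hL M hM M' hM' (f M) (hf M hM).1 (hf M hM).2 (e ▸ (hf M' hM').2)

theorem Cj.refl (S : Subgroup (Perm Ω)) : Cj S S := ⟨1, fun x => by simp⟩

theorem Cj.symm {S T : Subgroup (Perm Ω)} (h : Cj S T) : Cj T S := by
  obtain ⟨g, hg⟩ := h
  refine ⟨g⁻¹, fun x => ?_⟩
  rw [hg]
  simp [mul_assoc]

theorem Cj.trans {S T U : Subgroup (Perm Ω)} (h : Cj S T) (h' : Cj T U) : Cj S U := by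
  obtain ⟨g, hg⟩ := h
  obtain ⟨k, hk⟩ := h'
  refine ⟨k * g, fun x => ?_⟩
  rw [hg, hk]
  simp [mul_assoc]

theorem Few.mono {P Q : Subgroup (Perm Ω) → Prop} {c d : ℕ} (h : Few Q c) (hPQ : ∀ S, P S → Q S) (hcd : c ≤ d) :
    Few P d := by
  obtain ⟨R, h1, h2⟩ := h
  exact ⟨R, h1.trans hcd, fun S hS => h2 S (hPQ S hS)⟩

theorem Few.or {P Q : Subgroup (Perm Ω) → Prop} {c d : ℕ} (h : Few P c) (h' : Few Q d) :
    Few (fun S => P S ∨ Q S) (c + d) := by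
  classical
  obtain ⟨R, h1, h2⟩ := h
  obtain ⟨R', h1', h2'⟩ := h'
  refine ⟨R ∪ R', (Finset.card_union_le _ _).trans (by omega), fun S hS => ?_⟩
  rcases hS with hS | hS
  · obtain ⟨T, hT, e⟩ := h2 S hS
    exact ⟨T, Finset.mem_union_left _ hT, e⟩
  · obtain ⟨T, hT, e⟩ := h2' S hS
    exact ⟨T, Finset.mem_union_right _ hT, e⟩

theorem Few.zero {P : Subgroup (Perm Ω) → Prop} (h : ∀ S, ¬ P S) : Few P 0 :=
  ⟨∅, le_rfl, fun S hS => absurd hS (h S)⟩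

theorem Few.one {P : Subgroup (Perm Ω) → Prop} (h : ∀ S T, P S → P T → Cj S T) : Few P 1 := by
  by_cases h0 : ∃ T, P T
  · obtain ⟨T, hT⟩ := h0
    exact ⟨{T}, by simp, fun S hS => ⟨T, by simp, h S T hS hT⟩⟩
  · exact (Few.zero fun S hS => h0 ⟨S, hS⟩).mono (fun _ h => h) (by omega)

theorem Few.two {P : Subgroup (Perm Ω) → Prop} (h : ∀ S T U, P S → P T → P U → Cj S T ∨ Cj S U ∨ Cj T U) :
    Few P 2 := by
  classical
  by_cases h0 : ∃ T U, P T ∧ P U ∧ ¬ Cj T U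
  · obtain ⟨T, U, hT, hU, hTU⟩ := h0
    refine ⟨{T, U}, Finset.card_le_two, fun S hS => ?_⟩
    rcases h S T U hS hT hU with e | e | e
    · exact ⟨T, by simp, e⟩
    · exact ⟨U, by simp, e⟩
    · exact absurd e hTU
  · refine (Few.one fun S T hS hT => ?_).mono (fun _ h => h) (by omega)
    by_contra hc
    exact h0 ⟨S, T, hS, hT, hc⟩

end Cfsg.Agent.SM.NP
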