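import Cfsg.Agent.SM.NP.Defs

/-!
# SM (S3570), `H` not primitive: one more box (helper68)
-/

set_option autoImplicit false

namespace Cfsg.Agent.SM.NP

open Equiv Subgroup MulAction

/-- two blocks of size four -/
def BoxN8c : Prop := ∀ (Ω : Type) [Fintype Ω] [DecidableEq Ω] (X H : Subgroup (Perm Ω)) (B : Set Ω), Sec X H →
  Fintype.card Ω = 8 → B.ncard = 4 → Hf H B → Sm H ∨ (Kl H B ∧ Kl H Bᶜ)

end Cfsg.Agent.SM.NP
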