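import Cfsg.Agent.SM.NP.Tool
import Cfsg.Agent.SM.NP.Defs2

/-!
# SM (S3570), `H` transitive and imprimitive: definitions, the sub-boxes and their glue (helper68)

The paper proofs of the boxes are in `notes/SM/np-im.md`.
-/

set_option autoImplicit false
set_option linter.unusedSectionVars false
set_option linter.unusedVariables false

namespace Cfsg.Agent.SM.NP

open Equiv Equiv.Perm Subgroup MulAction

variable {Ω : Type} [Fintype Ω] [DecidableEq Ω]

/-- the class of a point -/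
def cl (E : Setoid Ω) (a : Ω) : Set Ω := {x | E a x}

/-- `H` has two different comparable systems -/
def Cmp (H : Subgroup (Perm Ω)) : Prop :=
  ∃ E E' : Setoid Ω, Sys H E ∧ Sys H E' ∧ (∀ a b, E a b → E' a b) ∧ ∃ a b, E' a b ∧ ¬ E a b

/-- `H` preserves a matching and contains the products of two edges -/
def DB (H : Subgroup (Perm Ω)) : Prop := ∃ τ, Mat τ ∧ (∀ g ∈ H, g * τ = τ * g) ∧ Dbl H τ

/-- `g` agrees on every class with an element of `H` -/
def Lc (H : Subgroup (Perm Ω)) (E : Setoid Ω) (g : Perm Ω) : Prop := ∀ a, ∃ h ∈ H, ∀ x, E a x → g x = h x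

/-- the main case: all the classes have at least three points -/
structure Im (X H : Subgroup (Perm Ω)) (E : Setoid Ω) : Prop where
  sec : Sec X H
  tr : Tr H
  sys : Sys H E
  nsm : ¬ Sm H
  ncmp : ¬ Cmp H
  big : ∀ a, 3 ≤ (cl E a).ncard

/-- two points that are related in every system -/
def BoxI1 : Prop := ∀ (Ω : Type) [Fintype Ω] [DecidableEq Ω] (X H : Subgroup (Perm Ω)) (a b : Ω), Sec X H → Tr H →
  a ≠ b → (∀ E, Sys H E → E a b) → (Np X H).ncard ≤ 2

def BoxI2 : Prop := ∀ (Ω : Type) [Fintype Ω] [DecidableEq Ω] (H : Subgroup (Perm Ω)), 5 ≤ Fintype.card Ω → Tr H →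
  Sm H ∨ DB H → ∃ a b, a ≠ b ∧ ∀ E, Sys H E → E a b

/-- comparable systems -/
def BoxI3 : Prop := ∀ (Ω : Type) [Fintype Ω] [DecidableEq Ω] (X H : Subgroup (Perm Ω)), Sec X H → Tr H → Cmp H →
  8 ≤ Fintype.card Ω ∧ (Sm H ∨ DB H)

/-- classes of size two -/
def BoxI4 : Prop := ∀ (Ω : Type) [Fintype Ω] [DecidableEq Ω] (X H : Subgroup (Perm Ω)) (τ : Perm Ω), Sec X H → Tr H →
  8 ≤ Fintype.card Ω → Mat τ → (∀ g ∈ H, g * τ = τ * g) → ¬ Sm H → ¬ Dbl H τ → ¬ Cmp H → (Ov X H).ncard ≤ 11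

/-- `H` is closed under gluing along the classes -/
def BoxI5 : Prop := ∀ (Ω : Type) [Fintype Ω] [DecidableEq Ω] (X H : Subgroup (Perm Ω)) (E : Setoid Ω), Im X H E →
  (∀ g ∈ X, Lc H E g → g ∈ H) → (Ov X H).ncard ≤ 11

/-- degree six -/
def BoxI6 : Prop := ∀ (Ω : Type) [Fintype Ω] [DecidableEq Ω] (X H : Subgroup (Perm Ω)) (E : Setoid Ω), Sec X H →
  Tr H → Sys H E → Fintype.card Ω = 6 → ¬ Cmp H → (Ov X H).ncard ≤ 11

/-- `H` is locally everything, at least three classes -/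
def BoxI7 : Prop := ∀ (Ω : Type) [Fintype Ω] [DecidableEq Ω] (X H : Subgroup (Perm Ω)) (E : Setoid Ω), Im X H E →
  (∀ g ∈ St X E, Lc H E g) → ∀ a b c, ¬ E a b → ¬ E a c → E b c

/-- `H` is locally everything, two classes -/
def BoxI8 : Prop := ∀ (Ω : Type) [Fintype Ω] [DecidableEq Ω] (X H : Subgroup (Perm Ω)) (B : Set Ω), Sec X H →
  Tr H → ¬ Sm H → ¬ Cmp H → 4 ≤ B.ncard → Bᶜ.ncard = B.ncard → Hf H B → Full H B → Full H Bᶜ → (Ov X H).ncard ≤ 11

/-! ### tools -/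

variable {X H M : Subgroup (Perm Ω)} {E E' : Setoid Ω}

theorem mem_cl {a x : Ω} : x ∈ cl E a ↔ E a x := Iff.rfl

theorem self_mem_cl (E : Setoid Ω) (a : Ω) : a ∈ cl E a := E.refl' a

theorem cl_eq {a b : Ω} (h : E a b) : cl E a = cl E b :=
  Set.ext fun x => ⟨fun h1 => E.trans' (E.symm' h) h1, fun h1 => E.trans' h h1⟩

theorem Sys.image_cl (h : Sys H E) {g : Perm Ω} (hg : g ∈ H) (a : Ω) : g '' cl E a = cl E (g a) := by
  ext y
  refine ⟨?_, fun hy => ⟨g⁻¹ y, ?_, by simp⟩⟩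
  · rintro ⟨x, hx, rfl⟩
    exact h.inv g hg a x hx
  · have := h.inv g⁻¹ (H.inv_mem hg) _ _ hy
    simpa [mem_cl] using this

/-- the classes of a system of a transitive group have the same size -/
theorem Sys.ncard_cl (h : Sys H E) (ht : Tr H) (a b : Ω) : (cl E a).ncard = (cl E b).ncard := by
  obtain ⟨g, hg, rfl⟩ := ht a b
  rw [← h.image_cl hg, Set.ncard_image_of_injective _ g.injective]

/-- every point has a second point in its class -/
theorem Sys.exists_mate (h : Sys H E) (ht : Tr H) (a : Ω) : ∃ b, b ≠ a ∧ E a b := by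
  obtain ⟨x, y, hxy, e⟩ := h.nb
  obtain ⟨g, hg, rfl⟩ := ht x a
  exact ⟨g y, fun e => hxy (g.injective e).symm, h.inv g hg x y e⟩

/-- every point has a point outside its class -/
theorem Sys.exists_out {K : Subgroup (Perm Ω)} (h : Sys K E) (a : Ω) : ∃ b, ¬ E a b := by
  obtain ⟨x, y, hxy⟩ := h.nt
  by_contra hc
  have h1 : ∀ b, E a b := fun b => by_contra fun h2 => hc ⟨b, h2⟩
  exact hxy (E.trans' (E.symm' (h1 x)) (h1 y))

/-- an inclusion of systems can be read at one point -/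
theorem Sys.le_of_pt (h : Sys H E) (h' : Sys H E') (ht : Tr H) {a : Ω} (hle : ∀ x, E a x → E' a x) (x y : Ω)
    (e : E x y) : E' x y := by
  obtain ⟨g, hg, rfl⟩ := ht a x
  have h1 := hle (g⁻¹ y) ((h.iff hg a (g⁻¹ y)).1 (by simpa using e))
  simpa using h'.inv g hg _ _ h1

/-- comparable systems are equal -/
theorem Sys.eq_of_le (h : Sys H E) (h' : Sys H E') (hc : ¬ Cmp H) (hle : ∀ x y, E x y → E' x y) : E = E' :=
  Setoid.ext fun x y => ⟨hle x y, fun e => by_contra fun h1 => hc ⟨E, E', h, h', hle, x, y, e, h1⟩⟩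

/-- two systems with a common related pair are equal -/
theorem Sys.eq_of_pair (h : Sys H E) (h' : Sys H E') (hc : ¬ Cmp H) {a b : Ω} (hab : a ≠ b) (e : E a b)
    (e' : E' a b) : E = E' := by
  have h0 : Sys H (E ⊓ E') := ⟨fun g hg x y hxy => ⟨h.inv g hg x y hxy.1, h'.inv g hg x y hxy.2⟩, ⟨a, b, hab, e, e'⟩, by
    obtain ⟨x, y, hxy⟩ := h.nt
    exact ⟨x, y, fun h1 => hxy h1.1⟩⟩
  exact (h0.eq_of_le h hc fun x y h1 => h1.1).symm.trans (h0.eq_of_le h' hc fun x y h1 => h1.2)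

/-- a member of `Np` is the stabiliser of a system of `H` -/
theorem exists_St' (s : Sec X H) (hM : M ∈ Np X H) : ∃ E, Sys H E ∧ M = St X E := by
  obtain ⟨E, h1, h2⟩ := exists_St s hM
  exact ⟨E, h1.mono hM.1.2, h2⟩

/-- at most as many members of `Np` as there are labels of systems -/
theorem ncard_Np_le (s : Sec X H) {ι : Type*} (Z : Finset ι) (L : Setoid Ω → ι → Prop)
    (h : ∀ E, Sys H E → ∃ i ∈ Z, L E i) (hL : ∀ E E', Sys H E → Sys H E' → ∀ i ∈ Z, L E i → L E' i → E = E') :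
    (Np X H).ncard ≤ Z.card := by
  refine ncard_le_of_labels s (fun M hM => hM.1) Z (fun M i => ∃ E, Sys H E ∧ M = St X E ∧ L E i) (fun M hM => ?_) ?_
  · obtain ⟨E, h1, h2⟩ := exists_St' s hM
    obtain ⟨i, hi, h3⟩ := h E h1
    exact ⟨i, hi, E, h1, h2, h3⟩
  · rintro M - M' - i hi ⟨E, h1, rfl, h2⟩ ⟨E', h1', rfl, h2'⟩
    rw [hL E E' h1 h1' i hi h2 h2']

/-- classes of size two give a matching -/
theorem Sys.exists_mat (h : Sys H E) (ht : Tr H) {a : Ω} (h2 : (cl E a).ncard ≤ 2) :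
    ∃ τ, Mat τ ∧ (∀ g ∈ H, g * τ = τ * g) ∧ ∀ x y, E x y ↔ y = x ∨ y = τ x := by
  choose f f1 f2 using h.exists_mate ht
  have key : ∀ x y, E x y → y = x ∨ y = f x := fun x y e => by
    by_contra hc
    rw [not_or] at hc
    have h3 : ({x, f x, y} : Set Ω) ⊆ cl E x := by
      rintro z (rfl | rfl | rfl)
      exacts [E.refl' _, f2 _, e]
    have h4 := Set.ncard_le_ncard h3 (Set.toFinite _)
    rw [h.ncard_cl ht x a, Set.ncard_eq_three.2 ⟨x, f x, y, (f1 x).symm, Ne.symm hc.1, Ne.symm hc.2, rfl⟩] at h4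
    omega
  have hinv : Function.Involutive f := fun x =>
    ((key (f x) x (E.symm' (f2 x))).resolve_left (f1 x).symm).symm
  refine ⟨hinv.toPerm f, ⟨f1, hinv⟩, fun g hg => Equiv.ext fun x => ?_, fun x y => ⟨key x y, ?_⟩⟩
  · exact (key (g x) (g (f x)) (h.inv g hg _ _ (f2 x))).resolve_left fun e => f1 x (g.injective e)
  · rintro (rfl | rfl)
    exacts [E.refl' _, f2 x]

/-- the group of the elements of `X` that are locally in `H` -/
def Loc (X : Subgroup (Perm Ω)) (h : Sys H E) : Subgroup (Perm Ω) where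
  carrier := {g | g ∈ X ∧ Lc H E g}
  one_mem' := ⟨X.one_mem, fun a => ⟨1, H.one_mem, fun _ _ => rfl⟩⟩
  mul_mem' := fun {g k} hg hk => ⟨X.mul_mem hg.1 hk.1, fun a => by
    obtain ⟨k', k1, k2⟩ := hk.2 a
    obtain ⟨g', g1, g2⟩ := hg.2 (k a)
    refine ⟨g' * k', H.mul_mem g1 k1, fun x hx => ?_⟩
    rw [Perm.mul_apply, Perm.mul_apply, k2 x hx]
    exact g2 _ (k2 a (E.refl' a) ▸ h.inv k' k1 a x hx)⟩
  inv_mem' := fun {g} hg => ⟨X.inv_mem hg.1, fun a => by
    obtain ⟨g', g1, g2⟩ := hg.2 (g⁻¹ a)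
    refine ⟨g'⁻¹, H.inv_mem g1, fun x hx => ?_⟩
    have h1 : g' (g⁻¹ a) = a := by simpa using (g2 _ (E.refl' _)).symm
    have h2 : E (g⁻¹ a) (g'⁻¹ x) := (h.iff g1 _ _).1 (by rw [h1]; simpa using hx)
    rw [Perm.inv_eq_iff_eq, g2 _ h2]
    simp⟩

theorem loc_cases (s : Sec X H) (h : Sys H E) : (∀ g ∈ X, Lc H E g → g ∈ H) ∨ ∀ g ∈ St X E, Lc H E g := by
  have h1 : H ≤ Loc X h := fun g hg => ⟨s.lt.le hg, fun a => ⟨g, hg, fun _ _ => rfl⟩⟩
  have h2 : Loc X h ≤ St X E := fun g hg => mem_St_of_inv hg.1 fun a b e => by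
    obtain ⟨k, k1, k2⟩ := hg.2 a
    rw [k2 a (E.refl' a), k2 b e]
    exact h.inv k k1 a b e
  rcases eq_of_chain s h1 h2 (h.St_lt s) with e | e
  · exact Or.inl fun g hg hl => e ▸ (⟨hg, hl⟩ : g ∈ Loc X h)
  · exact Or.inr fun g hg => (e.symm ▸ hg : g ∈ Loc X h).2

/-- if `H` is locally everything it induces the symmetric group on every class -/
theorem full_of_lc (s : Sec X H) (ht : Tr H) (h : Sys H E) (hl : ∀ g ∈ St X E, Lc H E g) (a : Ω) :
    Full H (cl E a) := by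
  intro σ hσ
  have hσ1 : ∀ x, E x (σ x) := fun x => by
    by_cases hx : x ∈ cl E a
    · exact E.trans' (E.symm' hx) ((Sp.pv hσ x).2 hx)
    · rw [hσ x hx]
  obtain ⟨u, hu⟩ := h.exists_out a
  obtain ⟨v, hv, huv⟩ := h.exists_mate ht u
  have hv' : ¬ E a v := fun e => hu (E.trans' e (E.symm' huv))
  rcases Int.units_eq_one_or (sign σ) with e | e
  · obtain ⟨d, hd, h1⟩ := hl σ (mem_St_of_fix (mem_X_of_even s e) hσ1) a
    exact ⟨d, hd, fun x hx => (h1 x hx).symm⟩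
  · have h2 : σ * swap u v ∈ St X E := by
      refine mem_St_of_fix (mem_X_of_even s (by rw [map_mul, e, sign_swap hv.symm]; rfl)) fun x => ?_
      refine E.trans' ?_ (hσ1 _)
      rw [swap_apply_def]
      split_ifs with h3 h4
      · exact h3 ▸ huv
      · exact h4 ▸ E.symm' huv
      · exact E.refl' x
    obtain ⟨d, hd, h1⟩ := hl _ h2 a
    refine ⟨d, hd, fun x hx => ?_⟩
    rw [← h1 x hx, Perm.mul_apply, swap_apply_of_ne_of_ne (by rintro rfl; exact hu hx) (by rintro rfl; exact hv' hx)]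

/-- **the transitive imprimitive case** -/
theorem boxIm_of (P2 : BoxP2) (I1 : BoxI1) (I2 : BoxI2) (I3 : BoxI3) (I4 : BoxI4) (I5 : BoxI5) (I6 : BoxI6)
    (I7 : BoxI7) (I8 : BoxI8) : BoxIm := by
  intro Ω _ _ X H s ht hp
  have h5 := s.five
  obtain ⟨E, hE⟩ := exists_sys (by omega) hp
  have hnp : ¬ (Fintype.card Ω).Prime := fun h => hp (by
    have := tr_iff.1 ht
    exact IsPreprimitive.of_prime_card (by rwa [Nat.card_eq_fintype_card]))
  by_cases h6 : Fintype.card Ω = 6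
  · exact I6 Ω X H E s ht hE h6 fun hc => by have := (I3 Ω X H s ht hc).1; omega
  have h8 : 8 ≤ Fintype.card Ω := by
    by_contra hc
    have : Fintype.card Ω = 5 ∨ Fintype.card Ω = 7 := by omega
    rcases this with e | e <;> exact hnp (by rw [e]; decide)
  by_cases h1 : Sm H ∨ DB H
  · obtain ⟨a, b, hab, h2⟩ := I2 Ω H h5 ht h1
    have h3 := I1 Ω X H a b s ht hab h2
    have h4 := ncard_Ov X H
    rcases h1 with h1 | ⟨τ, t1, t2, t3⟩
    · rw [h1.Pr_eq s, Set.ncard_empty] at h4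
      omega
    · have := P2 Ω X H τ s h8 t1 t2 t3
      omega
  have hc : ¬ Cmp H := fun hc => h1 (I3 Ω X H s ht hc).2
  rw [not_or] at h1
  by_cases h3 : ∀ a, 3 ≤ (cl E a).ncard
  swap
  · rw [not_forall] at h3
    obtain ⟨a, ha⟩ := h3
    obtain ⟨τ, t1, t2, -⟩ := hE.exists_mat ht (a := a) (by omega)
    exact I4 Ω X H τ s ht h8 t1 t2 h1.1 (fun t3 => h1.2 ⟨τ, t1, t2, t3⟩) hc
  have hI : Im X H E := ⟨s, ht, hE, h1.1, hc, h3⟩
  rcases loc_cases s hE with h4 | h4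
  · exact I5 Ω X H E hI h4
  have h7 := I7 Ω X H E hI h4
  obtain ⟨a, b, hab⟩ := hE.nt
  have hB : (cl E a)ᶜ = cl E b := Set.ext fun x =>
    ⟨fun hx => h7 a b x hab hx, fun hx h9 => hab (E.trans' h9 (E.symm' hx))⟩
  have hn : (cl E a)ᶜ.ncard = (cl E a).ncard := by rw [hB, hE.ncard_cl ht b a]
  have hn2 := Set.ncard_add_ncard_compl (cl E a)
  rw [Nat.card_eq_fintype_card] at hn2
  refine I8 Ω X H (cl E a) s ht h1.1 hc (by omega) hn (fun g hg => ?_) (full_of_lc s ht hE h4 a)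
    (hB ▸ full_of_lc s ht hE h4 b)
  by_cases h9 : E a (g a)
  · exact Or.inl fun x => ⟨fun hx => (hE.iff hg a x).1 (E.trans' (E.symm' h9) hx),
      fun hx => E.trans' h9 (hE.inv g hg a x hx)⟩
  · refine Or.inr fun x => ⟨fun hx h10 => h9 (E.trans' hx (E.symm' (hE.inv g hg a x h10))), fun hx => ?_⟩
    by_contra h10
    exact hx ((hE.iff hg a x).1 (h7 a _ _ h9 h10))

end Cfsg.Agent.SM.NP
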