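import Cfsg.Agent.SM.NP.Defs
import Cfsg.Agent.H384.TwoTrans

/-!
# SM (S3570), `H` not primitive: the box for `Sp_{2m}(2)` (helper68)
-/

set_option autoImplicit false

namespace Cfsg.Agent.SM.NP

open Equiv Subgroup MulAction

/-- three doubly primitive groups `Sp_{2m}(2)` of degree `2^(m-1) (2^m ± 1)`: two of them are conjugate -/
def BoxSp : Prop := ∀ (Ω : Type) [Fintype Ω] [DecidableEq Ω] (S₁ S₂ S₃ : Subgroup (Perm Ω)) (F : Type) [Field F]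
  [Fintype F] (m : ℕ), Fintype.card F = 2 → 3 ≤ m →
  (Fintype.card Ω = 2 ^ (m - 1) * (2 ^ m + 1) ∨ Fintype.card Ω = 2 ^ (m - 1) * (2 ^ m - 1)) →
  IsMultiplyPreprimitive S₁ Ω 2 → IsMultiplyPreprimitive S₂ Ω 2 → IsMultiplyPreprimitive S₃ Ω 2 →
  Nonempty (S₁ ≃* Cfsg.PSp m F) → Nonempty (S₂ ≃* Cfsg.PSp m F) → Nonempty (S₃ ≃* Cfsg.PSp m F) →
  Cj S₁ S₂ ∨ Cj S₁ S₃ ∨ Cj S₂ S₃

end Cfsg.Agent.SM.NP
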