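import Cfsg.Agent.SM.NP.Defs
import Cfsg.Agent.S2119

/-!
# SM (S3570), `H` not primitive: the diagonal symmetric group (helper39)
-/

set_option autoImplicit false
set_option linter.unusedSectionVars false

namespace Cfsg.Agent.SM.NP

open Equiv Equiv.Perm Subgroup MulAction

namespace Dg

/-- automorphisms of `S_n`, `n ≠ 6`, are inner on `A_n` -/
theorem inner {n : ℕ} (hn : 4 ≤ n) (h6 : n ≠ 6) (θ : Perm (Fin n) ≃* Perm (Fin n)) :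
    ∃ s : Perm (Fin n), ∀ g : Perm (Fin n), sign g = 1 → θ g = s * g * s⁻¹ := by
  have hsign : ∀ g, sign (θ g) = sign g := fun g => by
    have : Nontrivial (Fin n) := Fin.nontrivial_iff_two_le.2 (by omega)
    have h1 : Function.Surjective ((sign (α := Fin n)).comp θ.toMonoidHom) :=
      (sign_surjective (Fin n)).comp θ.surjective
    exact congrArg (fun f : Perm (Fin n) →* ℤˣ => f g) (eq_sign_of_surjective_hom h1)
  have hmap : (alternatingGroup (Fin n)).map θ.toMonoidHom = alternatingGroup (Fin n) := by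
    ext x
    constructor
    · rintro ⟨y, hy, rfl⟩
      exact mem_alternatingGroup.2 ((hsign y).trans (mem_alternatingGroup.1 hy))
    · intro hx
      refine ⟨θ.symm x, mem_alternatingGroup.2 ?_, θ.apply_symm_apply x⟩
      rw [← hsign, θ.apply_symm_apply]
      exact hx
  obtain ⟨s, hs⟩ := (S2119.result n hn h6).2
    ((θ.subgroupMap (alternatingGroup (Fin n))).trans (MulEquiv.subgroupCongr hmap))
  refine ⟨s, fun g hg => ?_⟩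
  have h1 := congrArg Subtype.val (DFunLike.congr_fun hs (⟨g, mem_alternatingGroup.2 hg⟩ : alternatingGroup (Fin n)))
  exact h1.symm

/-- isomorphisms of symmetric groups come from bijections -/
theorem exists_equiv {α β : Type} [Fintype α] [DecidableEq α] [Fintype β] [DecidableEq β] (h4 : 4 ≤ Fintype.card α)
    (h6 : Fintype.card α ≠ 6) (h : Fintype.card β = Fintype.card α) (φ : Perm α ≃* Perm β) :
    ∃ f : α ≃ β, ∀ g : Perm α, sign g = 1 → ∀ x, φ g (f x) = f (g x) := by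
  let e : α ≃ Fin (Fintype.card α) := Fintype.equivFin α
  let e' : β ≃ Fin (Fintype.card α) := Fintype.equivFinOfCardEq h
  obtain ⟨s, hs⟩ := inner h4 h6 (e.permCongrHom.symm.trans (φ.trans e'.permCongrHom))
  refine ⟨e.trans (s.trans e'.symm), fun g hg x => e'.injective ?_⟩
  have h1 := DFunLike.congr_fun (hs (e.permCongr g) (by rw [sign_permCongr, hg])) (s (e x))
  have h2 : e.symm.permCongr (e.permCongr g) = g := e.permCongr.symm_apply_apply g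
  simpa [h2] using h1

variable {Ω : Type} [Fintype Ω] [DecidableEq Ω] {H : Subgroup (Perm Ω)}

theorem full_ex {C : Set Ω} (h : Full H C) (σ : Perm Ω) (hσ : ∀ a, a ∉ C → σ a = a) :
    ∃ d ∈ H, (∀ a, d a ∈ C ↔ a ∈ C) ∧ ∀ a ∈ C, d a = σ a := by
  obtain ⟨d, hd, h1⟩ := h σ hσ
  have h2 : ∀ a, σ a ∈ C ↔ a ∈ C := fun a => by
    refine ⟨fun h3 => by_contra fun h4 => h4 (hσ a h4 ▸ h3), fun h3 => by_contra fun h4 => ?_⟩
    exact h4 ((σ.injective (hσ _ h4)).symm ▸ h3)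
  refine ⟨d, hd, fun a => ⟨fun h3 => ?_, fun h3 => (h1 a h3).symm ▸ (h2 a).2 h3⟩, h1⟩
  have h4 : σ⁻¹ (d a) ∈ C := (h2 _).1 (by simpa using h3)
  have h5 : σ⁻¹ (d a) = a := d.injective (by rw [h1 _ h4]; simp)
  exact h5 ▸ h4

/-- restriction to an invariant set -/
def res (D : Subgroup (Perm Ω)) (C : Set Ω) (h : ∀ d ∈ D, ∀ a, d a ∈ C ↔ a ∈ C) : D →* Perm C where
  toFun d := (d : Perm Ω).subtypePerm (h d d.2)
  map_one' := rfl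
  map_mul' _ _ := rfl

theorem res_apply {D : Subgroup (Perm Ω)} {C : Set Ω} (h : ∀ d ∈ D, ∀ a, d a ∈ C ↔ a ∈ C) (d : D) (x : C) :
    (res D C h d x : Ω) = (d : Perm Ω) x := rfl

theorem res_surj {D : Subgroup (Perm Ω)} {C : Set Ω} (h : ∀ d ∈ D, ∀ a, d a ∈ C ↔ a ∈ C) (hF : Full H C)
    (hD : ∀ d ∈ H, (∀ a, d a ∈ C ↔ a ∈ C) → d ∈ D) : Function.Surjective (res D C h) := fun σ => by
  classical
  obtain ⟨d, hd, h1, h2⟩ := full_ex hF (ofSubtype σ) fun a ha => ofSubtype_apply_of_not_mem σ ha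
  exact ⟨⟨d, hD d hd h1⟩, Equiv.ext fun x => Subtype.ext ((h2 x x.2).trans (ofSubtype_apply_of_mem σ x.2))⟩

theorem res_inj {D : Subgroup (Perm Ω)} {C : Set Ω} (h : ∀ d ∈ D, ∀ a, d a ∈ C ↔ a ∈ C)
    (hK : ∀ d ∈ D, (∀ a ∈ C, d a = a) → d = 1) : Function.Injective (res D C h) :=
  (injective_iff_map_eq_one _).2 fun d hd =>
    Subtype.ext (hK d d.2 fun a ha => by rw [← res_apply h d ⟨a, ha⟩, hd]; rfl)

end Dg

theorem boxDiag : BoxDiag := by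
  intro Ω _ _ H B h5 h6 hc hB hB' hK hK'
  classical
  have r1 : ∀ d ∈ Sw H B, ∀ a, d a ∈ B ↔ a ∈ B := fun d hd => hd.2
  have r2 : ∀ d ∈ Sw H B, ∀ a, d a ∈ Bᶜ ↔ a ∈ Bᶜ := fun d hd a => (hd.2 a).not
  let e1 : Sw H B ≃* Perm B := MulEquiv.ofBijective (Dg.res _ B r1)
    ⟨Dg.res_inj r1 fun d hd => hK d hd.1, Dg.res_surj r1 hB fun d hd h => ⟨hd, h⟩⟩
  let e2 : Sw H B ≃* Perm ↥Bᶜ := MulEquiv.ofBijective (Dg.res _ Bᶜ r2)
    ⟨Dg.res_inj r2 fun d hd => hK' d hd.1, Dg.res_surj r2 hB' fun d hd h => ⟨hd, fun a => not_iff_not.1 (h a)⟩⟩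
  have hcB : Fintype.card B = B.ncard := by rw [← Nat.card_eq_fintype_card, Nat.card_coe_set_eq]
  obtain ⟨f, hf⟩ := Dg.exists_equiv (α := B) (β := ↥Bᶜ) (by omega) (by omega)
    (by rw [hcB, ← hc, ← Nat.card_eq_fintype_card, Nat.card_coe_set_eq]) (e1.symm.trans e2)
  have hf' : ∀ d : Sw H B, sign (Dg.res _ B r1 d) = 1 → ∀ x : B, (d : Perm Ω) (f x) = f (Dg.res _ B r1 d x) :=
    fun d hd x => by
      have h1 := congrArg Subtype.val (hf (e1 d) hd x)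
      rwa [MulEquiv.trans_apply, e1.symm_apply_apply] at h1
  let t : Ω → Ω := fun a => if h : a ∈ B then (f ⟨a, h⟩ : Ω) else (f.symm ⟨a, h⟩ : Ω)
  have t1 : ∀ a (h : a ∈ B), t a = f ⟨a, h⟩ := fun a h => dif_pos h
  have t2 : ∀ a (h : a ∉ B), t a = f.symm ⟨a, h⟩ := fun a h => dif_neg h
  have t3 : ∀ a ∈ B, t a ∉ B := fun a h => t1 a h ▸ (f ⟨a, h⟩).2
  have t4 : ∀ a, a ∉ B → t a ∈ B := fun a h => t2 a h ▸ (f.symm ⟨a, h⟩).2
  have tt : Function.Involutive t := fun a => by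
    by_cases h : a ∈ B
    · rw [t2 _ (t3 a h)]
      have h1 : (⟨t a, t3 a h⟩ : ↥Bᶜ) = f ⟨a, h⟩ := Subtype.ext (t1 a h)
      rw [h1, f.symm_apply_apply]
    · rw [t1 _ (t4 a h)]
      have h1 : (⟨t a, t4 a h⟩ : B) = f.symm ⟨a, h⟩ := Subtype.ext (t2 a h)
      rw [h1, f.apply_symm_apply]
  have tc : ∀ d : Sw H B, sign (Dg.res _ B r1 d) = 1 → ∀ x ∈ B, (d : Perm Ω) (t x) = t ((d : Perm Ω) x) :=
    fun d hd x hx => by
      rw [t1 x hx, hf' d hd, t1 _ ((r1 d d.2 x).2 hx)]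
      rfl
  refine ⟨tt.toPerm, ⟨fun a h => ?_, tt⟩, ?_⟩
  · by_cases ha : a ∈ B
    · exact t3 a ha ((show t a = a from h).symm ▸ ha)
    · exact ha ((show t a = a from h) ▸ t4 a ha)
  have rep : ∀ a, ∃ a₀ ∈ B, (a₀ = a ∧ t a₀ = t a) ∨ (a₀ = t a ∧ t a₀ = a) := fun a => by
    by_cases ha : a ∈ B
    · exact ⟨a, ha, Or.inl ⟨rfl, rfl⟩⟩
    · exact ⟨t a, t4 a ha, Or.inr ⟨rfl, tt a⟩⟩
  have ne : ∀ {a b a₀ b₀ : Ω}, b ≠ a → b ≠ t a → (a₀ = a ∧ t a₀ = t a) ∨ (a₀ = t a ∧ t a₀ = a) →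
      (b₀ = b ∧ t b₀ = t b) ∨ (b₀ = t b ∧ t b₀ = b) → a₀ ≠ b₀ := by
    rintro a b a₀ b₀ h1 h2 (⟨h3, h4⟩ | ⟨h3, h4⟩) (⟨h5, h6⟩ | ⟨h5, h6⟩) rfl
    · exact h1 (h5.symm.trans h3)
    · exact h2 (h6.symm.trans h4)
    · exact h2 (h5.symm.trans h3)
    · exact h1 (h6.symm.trans h4)
  intro a b c h1 h2 h3 h4 h7 h8
  obtain ⟨a₀, ha, ea⟩ := rep a
  obtain ⟨b₀, hb, eb⟩ := rep b
  obtain ⟨c₀, hc₀, ec⟩ := rep c
  have hab : (⟨a₀, ha⟩ : B) ≠ ⟨b₀, hb⟩ := fun h => ne h1 h2 ea eb (congrArg Subtype.val h)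
  have hac : (⟨a₀, ha⟩ : B) ≠ ⟨c₀, hc₀⟩ := fun h => ne h3 h4 ea ec (congrArg Subtype.val h)
  have hbc : (⟨b₀, hb⟩ : B) ≠ ⟨c₀, hc₀⟩ := fun h => ne h7 h8 eb ec (congrArg Subtype.val h)
  have h3c := isThreeCycle_swap_mul_swap_same hac hab hbc.symm
  obtain ⟨d, hd⟩ := e1.surjective (swap (⟨a₀, ha⟩ : B) ⟨c₀, hc₀⟩ * swap ⟨a₀, ha⟩ ⟨b₀, hb⟩)
  have hd' : Dg.res _ B r1 d = swap (⟨a₀, ha⟩ : B) ⟨c₀, hc₀⟩ * swap ⟨a₀, ha⟩ ⟨b₀, hb⟩ := hd
  have hs := tc d (hd' ▸ h3c.sign)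
  have d1 : (d : Perm Ω) a₀ = b₀ := by
    rw [← Dg.res_apply r1 d ⟨a₀, ha⟩, hd', mul_apply, swap_apply_left, swap_apply_of_ne_of_ne hab.symm hbc]
  have d2 : (d : Perm Ω) (t a₀) = t b₀ := by rw [hs a₀ ha, d1]
  have d3 : ∀ x ∈ B, x ≠ a₀ → x ≠ b₀ → x ≠ c₀ → (d : Perm Ω) x = x := fun x hx k1 k2 k3 => by
    have k4 : (⟨x, hx⟩ : B) ≠ ⟨a₀, ha⟩ := fun h => k1 (congrArg Subtype.val h)
    rw [← Dg.res_apply r1 d ⟨x, hx⟩, hd', mul_apply, swap_apply_of_ne_of_ne k4 fun h => k2 (congrArg Subtype.val h),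
      swap_apply_of_ne_of_ne k4 fun h => k3 (congrArg Subtype.val h)]
  have eb' : (b₀ = b ∨ b₀ = t b) ∧ (t b₀ = b ∨ t b₀ = t b) :=
    eb.elim (fun h => ⟨Or.inl h.1, Or.inr h.2⟩) fun h => ⟨Or.inr h.1, Or.inl h.2⟩
  have out : ∀ {x a a₀ : Ω}, x ≠ a → x ≠ t a → (a₀ = a ∧ t a₀ = t a) ∨ (a₀ = t a ∧ t a₀ = a) → x ≠ a₀ ∧ t x ≠ a₀ := by
    rintro x a a₀ k1 k2 (⟨k3, k4⟩ | ⟨k3, k4⟩)
    · exact ⟨k3 ▸ k1, fun h => k2 (by rw [← k4, ← h, tt x])⟩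
    · exact ⟨k3 ▸ k2, fun h => k1 (by rw [← k4, ← h, tt x])⟩
  refine ⟨d, d.2.1, ?_, ?_, ?_, fun x k1 k2 k3 k4 k5 k6 => ?_⟩
  · have h9 : d ^ 3 = 1 := e1.injective (by rw [map_pow, hd, map_one, ← h3c.orderOf, pow_orderOf_eq_one])
    exact congrArg Subtype.val h9
  · rcases ea with ⟨k, -⟩ | ⟨-, k⟩
    · rw [← k, d1]
      exact eb'.1
    · rw [← k, d2]
      exact eb'.2
  · change (d : Perm Ω) (t a) = b ∨ (d : Perm Ω) (t a) = t b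
    rcases ea with ⟨-, k⟩ | ⟨k, -⟩
    · rw [← k, d2]
      exact eb'.2
    · rw [← k, d1]
      exact eb'.1
  · by_cases hx : x ∈ B
    · exact d3 x hx (out k1 k2 ea).1 (out k3 k4 eb).1 (out k5 k6 ec).1
    · have h9 := hs _ (t4 x hx)
      rwa [d3 _ (t4 x hx) (out k1 k2 ea).2 (out k3 k4 eb).2 (out k5 k6 ec).2, tt x] at h9

end Cfsg.Agent.SM.NP
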