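import Cfsg.Agent.SM.NP.Tool

/-!
# SM (S3570), `H` not primitive: counting by classes of socles (helper68)
-/

set_option autoImplicit false
set_option linter.unusedSectionVars false
set_option linter.unusedVariables false

namespace Cfsg.Agent.SM.NP

open Equiv Equiv.Perm Subgroup MulAction

variable {Ω : Type} [Fintype Ω] [DecidableEq Ω] {X H M M' : Subgroup (Perm Ω)}

/-- doubly primitive groups: at most four classes of socles -/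
def BoxT4 : Prop := ∀ (Ω : Type) [Fintype Ω] [DecidableEq Ω], 6 ≤ Fintype.card Ω →
  ∃ R : Finset (Subgroup (Perm Ω)), R.card ≤ 4 ∧ ∀ M : Subgroup (Perm Ω), IsMultiplyPreprimitive M Ω 2 →
    ¬ alternatingGroup Ω ≤ M → ∃ S, Nor M S ∧ S ≠ ⊥ ∧ ∃ T ∈ R, Cj S T

namespace E

theorem conj_X (s : Sec X H) (g x : Perm Ω) : x ∈ X ↔ g * x * g⁻¹ ∈ X := by
  rcases eq_alt_or_top s.five s.alt with h | h
  · rw [h, mem_alternatingGroup, mem_alternatingGroup, map_mul, map_mul, map_inv, mul_right_comm, mul_inv_cancel,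
      one_mul]
  · simp [h]

/-- conjugate normal subgroups give conjugate members of `Ov` -/
theorem cj_of_nor (s : Sec X H) (hM : M ∈ Ov X H) (hM' : M' ∈ Ov X H) {S S' : Subgroup (Perm Ω)} (n1 : Nor M S)
    (n2 : Nor M' S') (h1 : S ≠ ⊥) (h2 : S' ≠ ⊥) (h : Cj S S') : Cj M M' := by
  obtain ⟨g, hg⟩ := h
  refine ⟨g, fun x => ?_⟩
  rw [s.eq_normalizer hM n1 h1, s.eq_normalizer hM' n2 h2, mem_inf, mem_inf, ← conj_X s, mem_normalizer_iff,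
    mem_normalizer_iff]
  refine and_congr_right fun _ => ⟨fun h y => ?_, fun h y => ?_⟩
  · have h3 := h (g⁻¹ * y * g)
    rw [hg, hg] at h3
    simpa [mul_assoc] using h3
  · have h3 := h (g * y * g⁻¹)
    rw [hg y, hg (x * y * x⁻¹)]
    simpa [mul_assoc] using h3

theorem Sw_lt (s : Sec X H) {D : Set Ω} (h1 : D.Nonempty) (h2 : 2 ≤ Dᶜ.ncard) : Sw X D < X := by
  refine lt_of_le_of_ne (Sw_le X D) fun e => ?_
  obtain ⟨a, ha⟩ := h1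
  obtain ⟨b, hb, c, hc, hbc⟩ := (Set.one_lt_ncard (Set.toFinite Dᶜ)).1 (by omega)
  have hab : a ≠ b := fun e => hb (e ▸ ha)
  have hac : a ≠ c := fun e => hc (e ▸ ha)
  have h3 : swap a b * swap a c ∈ Sw X D := e.symm ▸ s.alt (swap_mul_mem_alt hab hac)
  have h4 := (h3.2 a).2 ha
  rw [Perm.mul_apply, swap_apply_left, swap_apply_of_ne_of_ne hac.symm hbc.symm] at h4
  exact hc h4

/-- `H` is self-normalising in the stabiliser of `D` -/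
theorem mem_of_norm (s : Sec X H) {D : Set Ω} (h1 : D.Nonempty) (hD : 5 ≤ Dᶜ.ncard) (hH : H ≤ Sw X D) (hsm : ¬ Sm H)
    (hmv : ∃ h ∈ H, ∃ u, u ∉ D ∧ h u ≠ u) {g : Perm Ω} (hg : g ∈ Sw X D) (hn : ∀ x, x ∈ H ↔ g * x * g⁻¹ ∈ H) :
    g ∈ H := by
  rcases eq_of_chain s (le_inf hH le_normalizer) (inf_le_left : Sw X D ⊓ normalizer (H : Set (Perm Ω)) ≤ _)
    (Sw_lt s h1 (by omega)) with h | h
  · exact h ▸ (⟨hg, mem_normalizer_iff.2 hn⟩ : g ∈ Sw X D ⊓ normalizer (H : Set (Perm Ω)))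
  exfalso
  have hN : ∀ t, Sp Dᶜ t → sign t = 1 → ∀ p ∈ H, t * p * t⁻¹ ∈ H := fun t ht he p hp =>
    (mem_normalizer_iff.1 (inf_eq_left.1 h (⟨mem_X_of_even s he, ht.pv_compl⟩ : t ∈ Sw X D)) p).1 hp
  obtain ⟨h0, hh, u, hu, hne⟩ := hmv
  have hv : h0 u ∉ D := fun e => hu (((hH hh).2 u).1 e)
  obtain ⟨w, hw, hw1, hw2, hw3⟩ : ∃ w, w ∉ D ∧ w ≠ u ∧ w ≠ h0 u ∧ w ≠ h0⁻¹ u := by
    by_contra hc
    have h3 : Dᶜ ⊆ {u, h0 u, h0⁻¹ u} := fun w hw => by_contra fun h4 => by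
      simp only [Set.mem_insert_iff, Set.mem_singleton_iff, not_or] at h4
      exact hc ⟨w, hw, h4⟩
    have h4 := (Set.ncard_le_ncard h3 (Set.toFinite _)).trans (Set.ncard_insert_le _ _)
    have h5 := Set.ncard_insert_le (h0 u) {h0⁻¹ u}
    rw [Set.ncard_singleton] at h5
    omega
  -- `c` fixes `h0⁻¹ u` or not; the commutator of `h0` with the 3-cycle `c = (u, h0 u, w)`-type element is not trivial
  obtain ⟨w', hw', hw1', hw2', hw3'⟩ : ∃ w', w' ∉ D ∧ w' ≠ u ∧ w' ≠ h0 u ∧ w' ≠ w := by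
    by_contra hc
    have h3 : Dᶜ ⊆ {u, h0 u, w} := fun w hw => by_contra fun h4 => by
      simp only [Set.mem_insert_iff, Set.mem_singleton_iff, not_or] at h4
      exact hc ⟨w, hw, h4⟩
    have h4 := (Set.ncard_le_ncard h3 (Set.toFinite _)).trans (Set.ncard_insert_le _ _)
    have h5 := Set.ncard_insert_le (h0 u) {w}
    rw [Set.ncard_singleton] at h5
    omega
  let c := swap (h0 u) w * swap (h0 u) w'
  have hc : Sp Dᶜ c := (Sp.swap hv hw).mul (Sp.swap hv hw')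
  have hce : sign c = 1 := mem_alternatingGroup.1 (swap_mul_mem_alt hw2.symm hw2'.symm)
  have h3 : c * h0 * c⁻¹ * h0⁻¹ ∈ H := H.mul_mem (hN c hc hce h0 hh) (H.inv_mem hh)
  have h4 : Sp Dᶜ (c * h0 * c⁻¹ * h0⁻¹) := by
    have := hc.mul (hc.inv.conj (g := h0) (Pv.compl (hH hh).2))
    simpa [mul_assoc] using this
  refine hsm (sm_of_norm hD (fun t ht he p hp _ => hN t ht he p hp) h3 h4 fun e => ?_)
  have h5 : c * h0 = h0 * c := by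
    rw [mul_inv_eq_one, mul_inv_eq_iff_eq_mul] at e
    exact e
  have h6 := congrArg (fun f : Perm Ω => f u) h5
  have h7 : c u = u := by
    simp only [c, Perm.mul_apply]
    rw [swap_apply_of_ne_of_ne hne.symm hw1'.symm, swap_apply_of_ne_of_ne hne.symm hw1.symm]
  have h8 : c (h0 u) = w' := by
    simp only [c, Perm.mul_apply]
    rw [swap_apply_left, swap_apply_of_ne_of_ne hw2' hw3']
  simp only [Perm.mul_apply] at h6
  rw [h7, h8] at h6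
  exact hw2' h6

/-- **at most two groups in a class** -/
theorem ncard_le_cls (s : Sec X H) {D : Set Ω} (h1 : D.Nonempty) (hD : 5 ≤ Dᶜ.ncard) (hH : H ≤ Sw X D) (hsm : ¬ Sm H)
    (hmv : ∃ h ∈ H, ∃ u, u ∉ D ∧ h u ≠ u) {𝓜 : Set (Subgroup (Perm Ω))} (h𝓜 : 𝓜 ⊆ Ov X H)
    (htr : ∀ M ∈ 𝓜, ∀ g : Perm Ω, ∃ m ∈ M, Pv D (m * g)) (hnot : ∀ M ∈ 𝓜, M ⊓ Sw X D = H)
    (R : Finset (Subgroup (Perm Ω))) (hR : ∀ M ∈ 𝓜, ∃ S, Nor M S ∧ S ≠ ⊥ ∧ ∃ T ∈ R, Cj S T) :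
    𝓜.ncard ≤ R.card * 2 := by
  classical
  have hsel : ∀ T : Subgroup (Perm Ω), ∃ M₀ : Subgroup (Perm Ω),
      (∃ M ∈ 𝓜, ∃ S, Nor M S ∧ S ≠ ⊥ ∧ Cj S T) → M₀ ∈ 𝓜 ∧ ∃ S, Nor M₀ S ∧ S ≠ ⊥ ∧ Cj S T := fun T => by
    by_cases h : ∃ M ∈ 𝓜, ∃ S, Nor M S ∧ S ≠ ⊥ ∧ Cj S T
    · obtain ⟨M, hM⟩ := h
      exact ⟨M, fun _ => hM⟩
    · exact ⟨⊥, fun h' => absurd h' h⟩
  choose M₀ hM₀ using hsel
  have hcard : (R ×ˢ (Finset.univ : Finset ℤˣ)).card = R.card * 2 := by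
    rw [Finset.card_product, Finset.card_univ, Fintype.card_units_int]
  rw [← hcard]
  refine ncard_le_of_labels s h𝓜 _
    (fun M i => ∃ g : Perm Ω, Pv D g ∧ (∀ x, x ∈ M₀ i.1 ↔ g * x * g⁻¹ ∈ M) ∧ sign g = i.2) (fun M hM => ?_) ?_
  · obtain ⟨S, n1, h2, T, hT, h3⟩ := hR M hM
    obtain ⟨h4, S₀, n0, h5, h6⟩ := hM₀ T ⟨M, hM, S, n1, h2, h3⟩
    obtain ⟨g, hg⟩ := cj_of_nor s (h𝓜 h4) (h𝓜 hM) n0 n1 h5 h2 (h6.trans h3.symm)
    obtain ⟨m, hm, h7⟩ := htr M hM g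
    refine ⟨(T, sign (m * g)), Finset.mem_product.2 ⟨hT, Finset.mem_univ _⟩, m * g, h7, fun x => ?_, rfl⟩
    rw [hg]
    refine ⟨fun h => ?_, fun h => ?_⟩
    · simpa [mul_assoc] using (Nor.refl M).conj m hm _ h
    · simpa [mul_assoc] using (Nor.refl M).conj m⁻¹ (M.inv_mem hm) _ h
  · rintro M hM M' hM' i - ⟨g, g1, g2, g3⟩ ⟨k, k1, k2, k3⟩
    have h2 : ∀ x, x ∈ M ↔ k * g⁻¹ * x * (k * g⁻¹)⁻¹ ∈ M' := fun x => by
      have h3 := g2 (g⁻¹ * x * g)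
      have h4 := k2 (g⁻¹ * x * g)
      rw [h4] at h3
      simpa [mul_assoc] using h3.symm
    have h3 : k * g⁻¹ ∈ Sw X D := ⟨mem_X_of_even s (by rw [map_mul, map_inv, g3, k3, mul_inv_cancel]), k1.mul g1.inv⟩
    have h4 : k * g⁻¹ ∈ H := mem_of_norm s h1 hD hH hsm hmv h3 fun x => by
      have e1 : x ∈ H ↔ x ∈ M ∧ x ∈ Sw X D := by rw [← hnot M hM]; rfl
      have e2 : ∀ y, y ∈ H ↔ y ∈ M' ∧ y ∈ Sw X D := fun y => by rw [← hnot M' hM']; rfl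
      rw [e1, e2, ← h2]
      refine and_congr_right fun _ => ⟨fun h => (Nor.refl _).conj _ h3 _ h, fun h => ?_⟩
      simpa [mul_assoc] using (Nor.refl _).conj _ ((Sw X D).inv_mem h3) _ h
    ext x
    rw [h2]
    refine ⟨fun h => ?_, fun h => (Nor.refl M').conj _ ((h𝓜 hM').2 h4) _ h⟩
    simpa [mul_assoc] using (Nor.refl M').conj _ (M'.inv_mem ((h𝓜 hM').2 h4)) _ h

theorem three_of (h : IsMultiplyPretransitive M Ω 3) {a b c a' b' c' : Ω} (h1 : a ≠ b) (h2 : a ≠ c) (h3 : b ≠ c)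
    (h1' : a' ≠ b') (h2' : a' ≠ c') (h3' : b' ≠ c') : ∃ g ∈ M, g a = a' ∧ g b = b' ∧ g c = c' := by
  have inj : ∀ {a b c : Ω}, a ≠ b → a ≠ c → b ≠ c → Function.Injective ![a, b, c] := fun h1 h2 h3 i j e => by
    fin_cases i <;> fin_cases j <;> simp_all [eq_comm]
  obtain ⟨g, hg⟩ := h.exists_smul_eq ⟨![a, b, c], inj h1 h2 h3⟩ ⟨![a', b', c'], inj h1' h2' h3'⟩
  exact ⟨g, g.2, congrArg (fun f : Fin 3 ↪ Ω => f 0) hg, congrArg (fun f : Fin 3 ↪ Ω => f 1) hg,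
    congrArg (fun f : Fin 3 ↪ Ω => f 2) hg⟩

theorem ncard_compl (D : Set Ω) : D.ncard + Dᶜ.ncard = Fintype.card Ω := by
  rw [Set.ncard_add_ncard_compl, Nat.card_eq_fintype_card]

/-- the common part of the two boxes -/
theorem main (T : BoxT4) (s : Sec X H) {D : Set Ω} (h1 : D.Nonempty) (hD : 5 ≤ Dᶜ.ncard) (hH : H ≤ Sw X D)
    {𝓜 : Set (Subgroup (Perm Ω))} (h𝓜 : 𝓜 ⊆ Ov X H) (h2 : ∀ M ∈ 𝓜, IsMultiplyPreprimitive M Ω 2)
    (htr : ∀ M ∈ 𝓜, ∀ g : Perm Ω, ∃ m ∈ M, Pv D (m * g))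
    (hmv : ∀ M ∈ 𝓜, ∃ m ∈ M, Pv D m ∧ ∃ u, u ∉ D ∧ m u ≠ u) : 𝓜.ncard ≤ 9 := by
  rcases Set.eq_empty_or_nonempty 𝓜 with rfl | ⟨M₀, hM₀⟩
  · simp
  have hn := ncard_compl D
  have hpos : 0 < D.ncard := (Set.ncard_pos (Set.toFinite D)).2 h1
  have hp : ∀ M ∈ 𝓜, IsPreprimitive M Ω := fun M hM =>
    isPreprimitive_of_is_two_pretransitive (h2 M hM).isMultiplyPretransitive
  have hsm : ¬ Sm H := fun h => not_sm s ⟨h𝓜 hM₀, hp M₀ hM₀⟩ (h.mono (h𝓜 hM₀).2)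
  have hnot : ∀ M ∈ 𝓜, M ⊓ Sw X D = H := fun M hM => by
    rcases s.eq_or_eq (h𝓜 hM) (le_inf (h𝓜 hM).2 hH) inf_le_left with h | h
    · exact h
    · exfalso
      obtain ⟨a, ha⟩ := h1
      obtain ⟨b, hb⟩ := (Set.ncard_pos (Set.toFinite Dᶜ)).1 (by omega)
      obtain ⟨g, hg, rfl⟩ := tr_iff.2 (hp M hM).toIsPretransitive a b
      exact hb (((inf_eq_left.1 h hg).2 a).2 ha)
  obtain ⟨R, hR, hR'⟩ := T Ω (by omega)
  obtain ⟨m, m1, m2, m3⟩ := hmv M₀ hM₀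
  have := ncard_le_cls s h1 hD hH hsm ⟨m, hnot M₀ hM₀ ▸ (⟨m1, (h𝓜 hM₀).1.le m1, m2⟩ : m ∈ M₀ ⊓ Sw X D), m3⟩ h𝓜 htr
    hnot R fun M hM => hR' M (h2 M hM) (s.not_alt_le (h𝓜 hM))
  omega

end E

open E

theorem boxE1_of (T : BoxT4) : BoxE1 := by
  intro Ω _ _ X H α s h6 hα
  have hn := ncard_compl ({α} : Set Ω)
  rw [Set.ncard_singleton] at hn
  have key : ∀ g : Perm Ω, g α = α → Pv {α} g := fun g hg => Pv.of_maps fun x hx => by
    rw [Set.mem_singleton_iff] at hx ⊢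
    rw [hx, hg]
  refine main T s (Set.singleton_nonempty α) (by omega) (fun g hg => ⟨s.lt.le hg, key g (hα g hg)⟩)
    (fun M hM => hM.1) (fun M hM => hM.2) (fun M hM g => ?_) fun M hM => ?_
  · obtain ⟨m, hm, e⟩ := tr_iff.2
      (isPreprimitive_of_is_two_pretransitive hM.2.isMultiplyPretransitive).toIsPretransitive (g α) α
    exact ⟨m, hm, key _ e⟩
  · obtain ⟨u, hu, v, hv, huv⟩ := (Set.one_lt_ncard (Set.toFinite ({α} : Set Ω)ᶜ)).1 (by omega)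
    obtain ⟨m, hm, e1, e2⟩ := tr2_iff.2 hM.2.isMultiplyPretransitive α u α v (Ne.symm hu) (Ne.symm hv)
    exact ⟨m, hm, key m e1, u, hu, e2 ▸ huv.symm⟩

theorem boxE2_of (T : BoxT4) : BoxE2 := by
  intro Ω _ _ X H x y s h7 hxy hH
  have hn := ncard_compl ({x, y} : Set Ω)
  rw [Set.ncard_pair hxy] at hn
  have key : ∀ g : Perm Ω, g x = x → g y = y → Pv {x, y} g := fun g h1 h2 => Pv.of_maps fun z hz => by
    rcases hz with rfl | rfl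
    · exact Or.inl h1
    · exact Or.inr h2
  have h2 : ∀ M : Subgroup (Perm Ω), IsMultiplyPretransitive M Ω 3 → IsMultiplyPreprimitive M Ω 2 := fun M hM =>
    isMultiplyPreprimitive_of_isMultiplyPretransitive_succ M Ω (n := 2) (by
      rw [ENat.card_eq_coe_fintype_card]
      exact_mod_cast (by omega : 3 ≤ Fintype.card Ω))
  refine main T s ⟨x, Or.inl rfl⟩ (by omega) hH (fun M hM => hM.1) (fun M hM => h2 M hM.2) (fun M hM g => ?_)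
    fun M hM => ?_
  · obtain ⟨m, hm, e1, e2⟩ := tr2_iff.2 (h2 M hM.2).isMultiplyPretransitive (g x) (g y) x y
      (g.injective.ne hxy) hxy
    exact ⟨m, hm, key _ e1 e2⟩
  · obtain ⟨u, hu, v, hv, huv⟩ := (Set.one_lt_ncard (Set.toFinite ({x, y} : Set Ω)ᶜ)).1 (by omega)
    simp only [Set.mem_compl_iff, Set.mem_insert_iff, Set.mem_singleton_iff, not_or] at hu hv
    obtain ⟨m, hm, e1, e2, e3⟩ := three_of hM.2 hxy (Ne.symm hu.1) (Ne.symm hu.2) hxy (Ne.symm hv.1) (Ne.symm hv.2)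
    refine ⟨m, hm, key m e1 e2, u, ?_, e3 ▸ huv.symm⟩
    rintro (h | h)
    exacts [hu.1 h, hu.2 h]

end Cfsg.Agent.SM.NP
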