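import Cfsg.Agent.SM.NP.Defs

/-!
# SM (S3570), `H` not primitive: restrictions to a subset, normal subgroups of `Sym(B)` (helper68)
-/

set_option autoImplicit false
set_option linter.unusedSectionVars false
set_option linter.unusedVariables false

namespace Cfsg.Agent.SM.NP

open Equiv Equiv.Perm Subgroup MulAction

variable {Ω : Type} [Fintype Ω] [DecidableEq Ω]

/-- `σ` moves only points of `B` -/
def Sp (B : Set Ω) (σ : Perm Ω) : Prop := ∀ x, x ∉ B → σ x = x

/-- `g` preserves `B` -/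
def Pv (B : Set Ω) (g : Perm Ω) : Prop := ∀ x, g x ∈ B ↔ x ∈ B

variable {B : Set Ω} {g k σ : Perm Ω}

theorem Sp.one : Sp B 1 := fun _ _ => rfl

theorem Sp.mul (h1 : Sp B g) (h2 : Sp B k) : Sp B (g * k) := fun x hx => by
  rw [Perm.mul_apply, h2 x hx, h1 x hx]

theorem Sp.inv (h1 : Sp B g) : Sp B g⁻¹ := fun x hx => by
  rw [Perm.inv_eq_iff_eq, h1 x hx]

theorem Sp.pv (h : Sp B σ) : Pv B σ := fun x => by
  refine ⟨fun h1 => ?_, fun h1 => ?_⟩
  · by_contra h2
    exact h2 (h x h2 ▸ h1)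
  · by_contra h2
    exact h2 ((σ.injective (h _ h2)).symm ▸ h1)

theorem Sp.swap {a b : Ω} (ha : a ∈ B) (hb : b ∈ B) : Sp B (swap a b) := fun x hx =>
  swap_apply_of_ne_of_ne (fun e => hx (e ▸ ha)) (fun e => hx (e ▸ hb))

theorem Pv.one : Pv B 1 := fun _ => Iff.rfl

theorem Pv.mul (h1 : Pv B g) (h2 : Pv B k) : Pv B (g * k) := fun x => (h1 _).trans (h2 x)

theorem Pv.inv (h1 : Pv B g) : Pv B g⁻¹ := fun x => by
  have := h1 (g⁻¹ x)
  simpa using this.symm

theorem Pv.compl (h1 : Pv B g) : Pv Bᶜ g := fun x => not_congr (h1 x)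

theorem Sp.pv_compl (h : Sp Bᶜ σ) : Pv B σ := fun x => by
  have := h.pv.compl x
  simpa using this

theorem Sp.conj (h : Sp B σ) (hg : Pv B g) : Sp B (g * σ * g⁻¹) := fun x hx => by
  rw [Perm.mul_apply, Perm.mul_apply, h _ fun h1 => hx ((hg.inv x).1 h1)]
  simp

/-- a permutation of a finite set that maps `B` into `B` preserves `B` -/
theorem Pv.of_maps (h : ∀ x ∈ B, g x ∈ B) : Pv B g := fun x => by
  refine ⟨fun h1 => ?_, h x⟩
  have h2 : ∀ n : ℕ, ∀ y ∈ B, (g ^ n) y ∈ B := fun n => by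
    induction n with
    | zero => exact fun y hy => hy
    | succ n ih => exact fun y hy => by rw [pow_succ, Perm.mul_apply]; exact ih _ (h y hy)
  have h3 := h2 (orderOf g - 1) _ h1
  rwa [← Perm.mul_apply, ← pow_succ, Nat.sub_add_cancel (orderOf_pos g), pow_orderOf_eq_one] at h3

open Classical in
/-- the restriction of `g` to `B`, extended by the identity -/
noncomputable def res (B : Set Ω) (g : Perm Ω) : Perm Ω :=
  if h : Pv B g then ofSubtype (g.subtypePerm h) else 1

theorem res_mem (h : Pv B g) {x : Ω} (hx : x ∈ B) : res B g x = g x := by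
  classical
  rw [res, dif_pos h]
  exact ofSubtype_subtypePerm_of_mem _ hx

theorem res_sp (B : Set Ω) (g : Perm Ω) : Sp B (res B g) := fun x hx => by
  classical
  unfold res
  split_ifs with h
  · exact ofSubtype_apply_of_not_mem _ hx
  · rfl

theorem Sp.ext (h1 : Sp B g) (h2 : Sp B k) (h : ∀ x ∈ B, g x = k x) : g = k := by
  ext x
  by_cases hx : x ∈ B
  · exact h x hx
  · rw [h1 x hx, h2 x hx]

theorem res_eq (h : Sp B σ) (hg : ∀ x ∈ B, g x = σ x) : res B g = σ := by
  have h1 : Pv B g := Pv.of_maps fun x hx => hg x hx ▸ (h.pv x).2 hx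
  exact (res_sp B g).ext h fun x hx => (res_mem h1 hx).trans (hg x hx)

theorem Sp.res (h : Sp B σ) : res B σ = σ := res_eq h fun _ _ => rfl

theorem res_eq_one (hg : ∀ x ∈ B, g x = x) : res B g = 1 := res_eq Sp.one hg

theorem res_mul (h1 : Pv B g) (h2 : Pv B k) : res B (g * k) = res B g * res B k :=
  res_eq ((res_sp B g).mul (res_sp B k)) fun x hx => by
    rw [Perm.mul_apply, Perm.mul_apply, res_mem h2 hx, res_mem h1 ((h2 x).2 hx)]

theorem res_inv (h1 : Pv B g) : res B g⁻¹ = (res B g)⁻¹ := by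
  rw [eq_inv_iff_mul_eq_one, ← res_mul h1.inv h1, inv_mul_cancel]
  exact Sp.one.res

theorem res_congr (h1 : Pv B k) (h : ∀ x ∈ B, g x = k x) : res B g = res B k :=
  res_eq (res_sp B k) fun x hx => (h x hx).trans (res_mem h1 hx).symm

/-- conjugation carries the restriction to `B` to the restriction to `B'` -/
theorem res_conj {B' : Set Ω} (hk : ∀ x, k x ∈ B' ↔ x ∈ B) (hg : Pv B g) :
    res B' (k * g * k⁻¹) = k * res B g * k⁻¹ := by
  have h1 : ∀ x, k⁻¹ x ∈ B ↔ x ∈ B' := fun x => by rw [← hk]; simp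
  refine res_eq (fun x hx => ?_) fun x hx => ?_
  · rw [Perm.mul_apply, Perm.mul_apply, res_sp B g _ fun h => hx ((h1 x).1 h)]
    simp
  · simp only [Perm.mul_apply]
    rw [res_mem hg ((h1 x).2 hx)]

/-- a normal subgroup of a symmetric group with a 3-cycle contains the alternating group -/
theorem alt_le_of_three {β : Type} [Fintype β] [DecidableEq β] (P : Subgroup (Perm β)) [hP : P.Normal] {c : Perm β}
    (hc : c.IsThreeCycle) (h : c ∈ P) : alternatingGroup β ≤ P := by
  rw [← closure_three_cycles_eq_alternating, closure_le]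
  intro d hd
  obtain ⟨u, hu⟩ := isConj_iff.1 (isConj_iff_cycleType_eq.2 (hc.trans (Eq.symm hd)))
  exact hu ▸ hP.conj_mem c h u

/-- a normal subgroup of a symmetric group with an odd element is everything -/
theorem eq_top_of_odd {β : Type} [Fintype β] [DecidableEq β] (P : Subgroup (Perm β)) [hP : P.Normal] {u : Perm β}
    (hu : u ∈ P) (ho : sign u = -1) : P = ⊤ := by
  have fin : ∀ c ∈ P, c.IsThreeCycle → P = ⊤ := fun c h hc => by
    rw [eq_top_iff]
    intro g _
    rcases Int.units_eq_one_or (sign g) with h1 | h1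
    · exact alt_le_of_three P hc h (mem_alternatingGroup.2 h1)
    · have h2 : g * u⁻¹ ∈ P := alt_le_of_three P hc h (mem_alternatingGroup.2 (by simp [h1, ho]))
      simpa using P.mul_mem h2 hu
  have com : ∀ a b, swap (u a) (u b) * swap a b ∈ P := fun a b => by
    have h1 := P.mul_mem hu (hP.conj_mem _ (P.inv_mem hu) (swap a b))
    rwa [swap_inv, ← mul_assoc, ← mul_assoc, ← swap_apply_apply] at h1
  by_cases h2 : ∀ a, u (u a) = a
  swap
  · obtain ⟨a, ha⟩ := not_forall.1 h2
    have h3 : u a ≠ a := fun e => ha (by rw [e, e])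
    refine fin _ (com a (u a)) ?_
    rw [swap_comm a]
    exact isThreeCycle_swap_mul_swap_same (fun e => h3 (u.injective e).symm) h3 ha
  obtain ⟨a, ha⟩ : ∃ a, u a ≠ a := by
    by_contra h
    have : u = 1 := Equiv.ext fun a => by_contra fun h1 => h ⟨a, h1⟩
    rw [this, map_one] at ho
    exact absurd ho (by decide)
  by_cases h3 : ∀ c, c ≠ a → c ≠ u a → u c = c
  · have h4 : u = swap a (u a) := Equiv.ext fun x => by
      by_cases h5 : x = a
      · rw [h5, swap_apply_left]
      by_cases h6 : x = u a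
      · rw [h6, swap_apply_right, h2]
      rw [swap_apply_of_ne_of_ne h5 h6, h3 x h5 h6]
    rw [eq_top_iff, ← closure_isSwap, closure_le]
    rintro _ ⟨x, y, hxy, rfl⟩
    obtain ⟨v, hv⟩ := isConj_iff.1 (isConj_swap ha.symm hxy)
    exact hv ▸ hP.conj_mem _ (h4 ▸ hu) v
  push Not at h3
  obtain ⟨c, hca, hcb, hc⟩ := h3
  have hda : u c ≠ a := fun e => hcb (by rw [← e, h2])
  have hdb : u c ≠ u a := fun e => hca (u.injective e)
  obtain ⟨e, he1, he2, he3, he4⟩ : ∃ e, e ≠ a ∧ e ≠ u a ∧ e ≠ c ∧ e ≠ u c := by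
    by_contra h
    push Not at h
    have h4 : u = swap a (u a) * swap c (u c) := Equiv.ext fun x => by
      rw [Perm.mul_apply]
      by_cases h5 : x = a
      · rw [h5, swap_apply_of_ne_of_ne hca.symm hda.symm, swap_apply_left]
      by_cases h6 : x = u a
      · rw [h6, swap_apply_of_ne_of_ne hcb.symm hdb.symm, swap_apply_right, h2]
      by_cases h7 : x = c
      · rw [h7, swap_apply_left, swap_apply_of_ne_of_ne hda hdb]
      rw [h x h5 h6 h7, swap_apply_right, swap_apply_of_ne_of_ne hca hcb, h2]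
    rw [h4, map_mul, sign_swap ha.symm, sign_swap hc.symm] at ho
    exact absurd ho (by decide)
  have h5 := com a c
  have h6 := hP.conj_mem _ h5 (swap (u c) e)
  have h7 : swap (u c) e * (swap (u a) (u c) * swap a c) * (swap (u c) e)⁻¹ = swap (u a) e * swap a c := by
    have h8 : swap (u c) e * (swap (u a) (u c) * swap a c) * (swap (u c) e)⁻¹ =
        (swap (u c) e * swap (u a) (u c) * (swap (u c) e)⁻¹) * (swap (u c) e * swap a c * (swap (u c) e)⁻¹) := by group
    rw [h8, ← swap_apply_apply, ← swap_apply_apply, swap_apply_left, swap_apply_of_ne_of_ne hdb.symm he2.symm,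
      swap_apply_of_ne_of_ne hda.symm he1.symm, swap_apply_of_ne_of_ne hc.symm he3.symm]
  rw [h7] at h6
  have h9 := P.mul_mem h5 (P.inv_mem h6)
  have h10 : swap (u a) (u c) * swap a c * (swap (u a) e * swap a c)⁻¹ = swap (u a) (u c) * swap (u a) e := by
    rw [mul_inv_rev, swap_inv, swap_inv, mul_assoc, ← mul_assoc (swap a c), swap_mul_self, one_mul]
  rw [h10] at h9
  exact fin _ h9 (isThreeCycle_swap_mul_swap_same hdb.symm he2.symm he4.symm)

theorem Sp.exists_ofSubtype [DecidablePred (· ∈ B)] (h : Sp B σ) : ∃ u : Perm B, ofSubtype u = σ :=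
  ⟨σ.subtypePerm h.pv, ofSubtype_subtypePerm _ fun x hx => by_contra fun h1 => hx (h x h1)⟩

theorem sp_ofSubtype [DecidablePred (· ∈ B)] (u : Perm B) : Sp B (ofSubtype u) := fun x hx =>
  ofSubtype_apply_of_not_mem _ hx

/-- a group whose part on `B` is normal in `Sym(B)` and has an odd element contains `Sym(B)` -/
theorem mem_of_odd (P : Subgroup (Perm Ω)) (hn : ∀ s, Sp B s → ∀ p ∈ P, Sp B p → s * p * s⁻¹ ∈ P) {u : Perm Ω}
    (hu : u ∈ P) (hB : Sp B u) (ho : sign u = -1) (hσ : Sp B σ) : σ ∈ P := by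
  classical
  let P' : Subgroup (Perm B) := P.comap ofSubtype
  have hP' : P'.Normal := ⟨fun p hp s => by
    rw [mem_comap, map_mul, map_mul, map_inv]
    exact hn _ (sp_ofSubtype s) _ hp (sp_ofSubtype p)⟩
  obtain ⟨u', rfl⟩ := hB.exists_ofSubtype
  obtain ⟨s', rfl⟩ := hσ.exists_ofSubtype
  have h := eq_top_of_odd P' (u := u') hu (by rwa [sign_ofSubtype] at ho)
  exact (h.symm ▸ mem_top s' : s' ∈ P')

/-- a group with all the 3-cycles on `B` contains `Alt(B)` -/
theorem mem_of_three (P : Subgroup (Perm Ω)) (h : ∀ c, Sp B c → c.IsThreeCycle → c ∈ P) (hσ : Sp B σ)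
    (he : sign σ = 1) : σ ∈ P := by
  classical
  obtain ⟨s', rfl⟩ := hσ.exists_ofSubtype
  have h1 : alternatingGroup B ≤ P.comap ofSubtype := by
    rw [← closure_three_cycles_eq_alternating, closure_le]
    intro c hc
    exact h _ (sp_ofSubtype c) ((cycleType_ofSubtype).trans hc)
  exact h1 (mem_alternatingGroup.2 (by rwa [sign_ofSubtype] at he))

theorem exists_three_mem (h : 3 ≤ B.ncard) : ∃ a ∈ B, ∃ b ∈ B, ∃ c ∈ B, a ≠ b ∧ a ≠ c ∧ b ≠ c := by
  obtain ⟨a, b, c, ha, hb, hc, h1⟩ := (Set.two_lt_ncard_iff (Set.toFinite B)).1 (by omega)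
  exact ⟨a, ha, b, hb, c, hc, h1⟩

/-- a group whose part on `B` is non-trivial and normalised by `Alt(B)` has a 3-cycle -/
theorem sm_of_norm {H : Subgroup (Perm Ω)} (h5 : 5 ≤ B.ncard)
    (hn : ∀ s, Sp B s → sign s = 1 → ∀ p ∈ H, Sp B p → s * p * s⁻¹ ∈ H) {u : Perm Ω} (hu : u ∈ H) (hB : Sp B u)
    (h1 : u ≠ 1) : Sm H := by
  classical
  let P' : Subgroup (Perm B) := H.comap ofSubtype
  obtain ⟨u', rfl⟩ := hB.exists_ofSubtype
  have hc : 5 ≤ Fintype.card B := by rwa [← Nat.card_eq_fintype_card, Nat.card_coe_set_eq]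
  have h2 : P' ≠ ⊥ := fun e => h1 (by
    have : u' ∈ P' := hu
    rw [e, mem_bot] at this
    rw [this, map_one])
  have h3 := alt_le_of_conj hc h2 fun s hs p hp => by
    rw [mem_comap, map_mul, map_mul, map_inv]
    exact hn _ (sp_ofSubtype s) (by rw [sign_ofSubtype]; exact mem_alternatingGroup.1 hs) _ hp (sp_ofSubtype p)
  obtain ⟨a, ha, b, hb, c, hc, hab, hac, hbc⟩ := exists_three_mem (B := B) (by omega)
  have h4 : (swap (⟨a, ha⟩ : B) ⟨b, hb⟩ * swap (⟨a, ha⟩ : B) ⟨c, hc⟩).IsThreeCycle :=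
    isThreeCycle_swap_mul_swap_same (by simpa using hab) (by simpa using hac) (by simpa using hbc)
  exact ⟨_, h3 h4.mem_alternatingGroup, Or.inl ((cycleType_ofSubtype).trans h4)⟩

/-- one direction is enough -/
theorem mem_St_of_inv {X : Subgroup (Perm Ω)} {E : Setoid Ω} (hg : g ∈ X) (h : ∀ a b, E a b → E (g a) (g b)) :
    g ∈ St X E := by
  refine ⟨hg, fun a b => ⟨fun h1 => ?_, h a b⟩⟩
  have h2 : ∀ n : ℕ, ∀ x y, E x y → E ((g ^ n) x) ((g ^ n) y) := fun n => by
    induction n with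
    | zero => exact fun x y hy => hy
    | succ n ih => exact fun x y hy => by rw [pow_succ, Perm.mul_apply, Perm.mul_apply]; exact ih _ _ (h x y hy)
  have h3 := h2 (orderOf g - 1) _ _ h1
  rwa [← Perm.mul_apply, ← Perm.mul_apply, ← pow_succ, Nat.sub_add_cancel (orderOf_pos g), pow_orderOf_eq_one] at h3

/-- a permutation that fixes every class preserves the relation -/
theorem mem_St_of_fix {X : Subgroup (Perm Ω)} {E : Setoid Ω} (hg : g ∈ X) (h : ∀ a, E a (g a)) : g ∈ St X E :=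
  mem_St_of_inv hg fun a b hab => E.trans' (E.symm' (h a)) (E.trans' hab (h b))

/-- no chain -/
theorem eq_of_chain {X H K K' : Subgroup (Perm Ω)} (s : Sec X H) (h1 : H ≤ K) (h2 : K ≤ K') (h3 : K' < X) :
    K = H ∨ K = K' := by
  rcases h1.eq_or_lt with h | h
  · exact Or.inl h.symm
  · exact Or.inr (Sec.eq_of_le (s.mem_ov h (h2.trans_lt h3)) (s.mem_ov (h.trans_le h2) h3) h2)

theorem mem_X_of_even {X H : Subgroup (Perm Ω)} (s : Sec X H) (h : sign g = 1) : g ∈ X :=
  s.alt (mem_alternatingGroup.2 h)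

theorem exists_notMem_of_card {T : Finset Ω} (h : T.card < Fintype.card Ω) : ∃ x, x ∉ T := by
  by_contra hc
  have h1 : (Finset.univ : Finset Ω) ⊆ T := fun x _ => by_contra fun h2 => hc ⟨x, h2⟩
  have h2 := Finset.card_le_card h1
  rw [Finset.card_univ] at h2
  omega

end Cfsg.Agent.SM.NP
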