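import Cfsg.Agent.SM.NP.TT
import Cfsg.Agent.SM.NP.Tool

/-!
# SM (S3570), `H` not primitive: `H` fixes a point or a pair (helper59)
-/

set_option autoImplicit false
set_option linter.unusedSectionVars false
set_option linter.unusedVariables false

namespace Cfsg.Agent.SM.NP.E12

open Equiv Equiv.Perm Subgroup MulAction

variable {Ω : Type} [Fintype Ω] [DecidableEq Ω] {X H M M' : Subgroup (Perm Ω)}

theorem tr_of_two (h : IsMultiplyPretransitive M Ω 2) (h2 : 2 ≤ Fintype.card Ω) : NP.Tr M := fun a b => by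
  have : Nontrivial Ω := Fintype.one_lt_card_iff_nontrivial.1 (by omega)
  obtain ⟨x, hx⟩ := exists_ne a
  obtain ⟨y, hy⟩ := exists_ne b
  obtain ⟨g, hg, e, -⟩ := tr2_iff.2 h a x b y hx.symm hy.symm
  exact ⟨g, hg, e⟩

theorem conj_le (s : Sec X H) (hM : M ∈ Ov X H) (hM' : M' ∈ Ov X H) {S S' : Subgroup (Perm Ω)} (n1 : Nor M S)
    (n2 : Nor M' S') (h0 : S' ≠ ⊥) {k : Perm Ω} (hk : k ∈ X) (h : ∀ x, x ∈ S ↔ k * x * k⁻¹ ∈ S') {m : Perm Ω} (hm : m ∈ M) :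
    k * m * k⁻¹ ∈ M' := by
  rw [s.eq_normalizer hM' n2 h0]
  refine ⟨(Nor.refl X).conj k hk m (hM.1.le hm), mem_normalizer_iff.2 fun y => ?_⟩
  have h1 := h (k⁻¹ * y * k)
  have h2 := h (m * (k⁻¹ * y * k) * m⁻¹)
  rw [show k * (k⁻¹ * y * k) * k⁻¹ = y by group] at h1
  rw [show k * (m * (k⁻¹ * y * k) * m⁻¹) * k⁻¹ = k * m * k⁻¹ * y * (k * m * k⁻¹)⁻¹ by group] at h2
  exact h1.symm.trans ((mem_normalizer_iff.1 (n1.le_normalizer hm) _).trans h2)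

theorem main (s : Sec X H) {A : Set Ω} (hA : A.Nonempty) (h5 : 5 ≤ Aᶜ.ncard) (hH : H ≤ Sw X A)
    {𝓜 : Set (Subgroup (Perm Ω))} (h1 : 𝓜 ⊆ Ov X H) (h2 : ∀ M ∈ 𝓜, IsMultiplyPreprimitive M Ω 2)
    (h3 : ∀ M ∈ 𝓜, ∀ g : Perm Ω, ∃ m ∈ M, Pv A (g * m)) (h4 : ∀ M ∈ 𝓜, ∃ u ∈ M, Sp Aᶜ u ∧ u ≠ 1) : 𝓜.ncard ≤ 8 := by
  classical
  have n5 := s.five
  obtain ⟨R, hR, hT⟩ := boxTT' Ω (by omega)
  have nle : ∀ M ∈ 𝓜, ¬ M ≤ Sw X A := fun M hM hle => by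
    obtain ⟨a, ha⟩ := hA
    obtain ⟨b, hb⟩ : Aᶜ.Nonempty := Set.nonempty_of_ncard_ne_zero (by omega)
    obtain ⟨g, hg, rfl⟩ := tr_of_two (h2 M hM).isMultiplyPretransitive (by omega) a b
    exact hb (((hle hg).2 a).2 ha)
  have inf : ∀ M ∈ 𝓜, M ⊓ Sw X A = H := fun M hM =>
    (s.eq_or_eq (h1 hM) (le_inf (h1 hM).2 hH) inf_le_left).resolve_right fun e => nle M hM (inf_eq_left.1 e)
  refine le_trans (ncard_le_of_labels s h1 (R ×ˢ (Finset.univ : Finset ℤˣ)) (fun M i => ∃ S g, Nor M S ∧ S ≠ ⊥ ∧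
    (∀ x, x ∈ S ↔ g * x * g⁻¹ ∈ i.1) ∧ Pv A g ∧ sign g = i.2) (fun M hM => ?_) ?_) ?_
  · obtain ⟨S, n1, n0, T, hTR, g, hg⟩ := hT M (h2 M hM) (s.not_alt_le (h1 hM))
    obtain ⟨m, hm, hp⟩ := h3 M hM g
    refine ⟨(T, sign (g * m)), Finset.mem_product.2 ⟨hTR, Finset.mem_univ _⟩, S, g * m, n1, n0, fun x => ?_, hp, rfl⟩
    rw [show g * m * x * (g * m)⁻¹ = g * (m * x * m⁻¹) * g⁻¹ by group, ← hg]
    exact mem_normalizer_iff.1 (n1.le_normalizer hm) x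
  · rintro M hM M' hM' i - ⟨S, g, n1, n0, c1, p1, e1⟩ ⟨S', g', n2, n0', c2, p2, e2⟩
    have kX : g'⁻¹ * g ∈ X := mem_X_of_even s (by rw [map_mul, sign_inv, e1, e2, Int.units_mul_self])
    have kS : g'⁻¹ * g ∈ Sw X A := ⟨kX, p2.inv.mul p1⟩
    have kc : ∀ x, x ∈ S ↔ g'⁻¹ * g * x * (g'⁻¹ * g)⁻¹ ∈ S' := fun x => by
      rw [c1, c2, show g' * (g'⁻¹ * g * x * (g'⁻¹ * g)⁻¹) * g'⁻¹ = g * x * g⁻¹ by group]
    generalize g'⁻¹ * g = k at kX kS kc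
    have kc' : ∀ x, x ∈ S' ↔ k⁻¹ * x * k⁻¹⁻¹ ∈ S := fun x => by
      rw [kc, show k * (k⁻¹ * x * k⁻¹⁻¹) * k⁻¹ = x by group]
    have f1 := fun m hm => conj_le s (h1 hM) (h1 hM') n1 n2 n0' kX kc (m := m) hm
    have f2 := fun m hm => conj_le s (h1 hM') (h1 hM) n2 n1 n0 (X.inv_mem kX) kc' (m := m) hm
    have kN : k ∈ normalizer (H : Set (Perm Ω)) := mem_normalizer_iff.2 fun x => ⟨fun hx => by
      rw [← inf M' hM']
      exact ⟨f1 x ((h1 hM).2 hx), (Nor.refl _).conj k kS x (hH hx)⟩, fun hx => by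
      rw [← inf M hM, show x = k⁻¹ * (k * x * k⁻¹) * k⁻¹⁻¹ by group]
      exact ⟨f2 _ ((h1 hM').2 hx), (Nor.refl _).conj _ ((Sw X A).inv_mem kS) _ (hH hx)⟩⟩
    have lt : Sw X A < X := lt_of_le_of_ne (Sw_le X A) fun e => nle M hM (e.symm ▸ (h1 hM).1.le)
    rcases eq_of_chain s (K := normalizer (H : Set (Perm Ω)) ⊓ Sw X A) (le_inf le_normalizer hH) inf_le_right lt with e | e
    · have kH : k ∈ H := e ▸ (⟨kN, kS⟩ : k ∈ normalizer (H : Set (Perm Ω)) ⊓ Sw X A)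
      refine Sec.eq_of_le (h1 hM) (h1 hM') fun m hm => ?_
      have h6 := (Nor.refl M').conj _ (M'.inv_mem ((h1 hM').2 kH)) _ (f1 m hm)
      rwa [show k⁻¹ * (k * m * k⁻¹) * k⁻¹⁻¹ = m by group] at h6
    · exfalso
      obtain ⟨u, hu, u1, u2⟩ := h4 M hM
      have uH : u ∈ H := inf M hM ▸ (⟨hu, (h1 hM).1.le hu, u1.pv_compl⟩ : u ∈ M ⊓ Sw X A)
      have sm : Sm H := sm_of_norm h5 (fun t ht he p hp _ => (mem_normalizer_iff.1 (inf_eq_right.1 e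
        (⟨mem_X_of_even s he, ht.pv_compl⟩ : t ∈ Sw X A)) p).1 hp) uH u1 u2
      exact s.not_alt_le (h1 hM) ((sm.mono (h1 hM).2).alt_le
        (isPreprimitive_of_is_two_pretransitive (h2 M hM).isMultiplyPretransitive))
  · rw [Finset.card_product, Finset.card_univ, Fintype.card_units_int]
    omega

theorem ncard_compl (A : Set Ω) : Aᶜ.ncard = Fintype.card Ω - A.ncard := by
  have := Set.ncard_add_ncard_compl A
  rw [Nat.card_eq_fintype_card] at this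
  omega

theorem three (h : IsMultiplyPretransitive M Ω 3) {a b c x y z : Ω} (h1 : a ≠ b) (h2 : a ≠ c) (h3 : b ≠ c) (k1 : x ≠ y)
    (k2 : x ≠ z) (k3 : y ≠ z) : ∃ g ∈ M, g a = x ∧ g b = y ∧ g c = z := by
  have inj : ∀ {a b c : Ω}, a ≠ b → a ≠ c → b ≠ c → Function.Injective ![a, b, c] := fun {a b c} h1 h2 h3 i j e => by
    fin_cases i <;> fin_cases j <;> simp_all [eq_comm]
  obtain ⟨g, hg⟩ := h.exists_smul_eq ⟨_, inj h1 h2 h3⟩ ⟨_, inj k1 k2 k3⟩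
  exact ⟨g, g.2, DFunLike.congr_fun hg 0, DFunLike.congr_fun hg 1, DFunLike.congr_fun hg 2⟩

end Cfsg.Agent.SM.NP.E12

namespace Cfsg.Agent.SM.NP

open Equiv Equiv.Perm Subgroup MulAction

theorem boxE1 : BoxE1 := fun Ω _ _ X H α s h6 hα => by
  have c5 : 5 ≤ ({α}ᶜ : Set Ω).ncard := by
    rw [E12.ncard_compl, Set.ncard_singleton]
    omega
  have pv : ∀ g : Perm Ω, g α = α → Pv {α} g := fun g hg => Pv.of_maps fun x hx => by
    rw [Set.mem_singleton_iff.1 hx]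
    exact hg
  refine le_trans (E12.main s (Set.singleton_nonempty α) c5 (fun g hg => ⟨s.lt.le hg, pv g (hα g hg)⟩) (fun M hM => hM.1)
    (fun M hM => hM.2) (fun M hM g => ?_) fun M hM => ?_) (by norm_num)
  · obtain ⟨m, hm, e⟩ := E12.tr_of_two hM.2.isMultiplyPretransitive (by omega) α (g⁻¹ α)
    exact ⟨m, hm, pv _ (by simp [e])⟩
  · obtain ⟨a, ha, b, hb, c, hc, hab, -, -⟩ := exists_three_mem (B := ({α}ᶜ : Set Ω)) (by omega)
    obtain ⟨u, hu, e1, e2⟩ := tr2_iff.2 hM.2.isMultiplyPretransitive α a α b (fun e => ha e.symm) fun e => hb e.symm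
    refine ⟨u, hu, fun x hx => ?_, fun e => hab (by rw [← e2, e]; rfl)⟩
    rw [show x = α by simpa using hx]
    exact e1

theorem boxE2 : BoxE2 := fun Ω _ _ X H x y s h7 hxy hH => by
  have c5 : 5 ≤ ({x, y}ᶜ : Set Ω).ncard := by
    rw [E12.ncard_compl, Set.ncard_pair hxy]
    omega
  refine le_trans (E12.main s (Set.insert_nonempty x {y}) c5 hH (fun M hM => hM.1) (fun M hM => ?_) (fun M hM g => ?_)
    fun M hM => ?_) (by norm_num)
  · have := hM.2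
    refine isMultiplyPreprimitive_of_isMultiplyPretransitive_succ M Ω (n := 2) ?_
    rw [ENat.card_eq_coe_fintype_card]
    exact_mod_cast (by omega : 3 ≤ Fintype.card Ω)
  · have := hM.2
    have h2 : IsMultiplyPretransitive M Ω 2 :=
      isMultiplyPretransitive_of_le (n := 3) (by norm_num) (by rw [Nat.card_eq_fintype_card]; omega)
    obtain ⟨m, hm, e1, e2⟩ := tr2_iff.2 h2 x y (g⁻¹ x) (g⁻¹ y) hxy fun e => hxy (g⁻¹.injective e)
    refine ⟨m, hm, Pv.of_maps fun z hz => ?_⟩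
    rcases hz with rfl | rfl
    · simp [e1]
    · simp [e2]
  · obtain ⟨a, ha, b, hb, c, hc, hab, -, -⟩ := exists_three_mem (B := ({x, y}ᶜ : Set Ω)) (by omega)
    simp only [Set.mem_compl_iff, Set.mem_insert_iff, Set.mem_singleton_iff, not_or] at ha hb
    obtain ⟨u, hu, e1, e2, e3⟩ := E12.three hM.2 hxy (Ne.symm ha.1) (Ne.symm ha.2) hxy (Ne.symm hb.1) (Ne.symm hb.2)
    refine ⟨u, hu, fun z hz => ?_, fun e => hab (by rw [← e3, e]; rfl)⟩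
    rcases (not_not.1 hz : z = x ∨ z = y) with rfl | rfl
    · exact e1
    · exact e2

end Cfsg.Agent.SM.NP
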