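import Cfsg.Agent.SM.NP.DefsIm

/-!
# SM (S3570), `H` transitive and imprimitive: the box `I1` (helper60)
-/

set_option autoImplicit false
set_option linter.unusedSectionVars false
set_option linter.unusedVariables false

namespace Cfsg.Agent.SM.NP

open Equiv Equiv.Perm Subgroup MulAction

variable {Ω : Type} [Fintype Ω] [DecidableEq Ω]

namespace I1

variable {X H : Subgroup (Perm Ω)} {E E' E0 : Setoid Ω}

/-- the meet of all the systems -/
def meet (H : Subgroup (Perm Ω)) : Setoid Ω where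
  r x y := ∀ E, Sys H E → E x y
  iseqv := ⟨fun x E _ => E.refl' x, fun h E hE => E.symm' (h E hE), fun h h' E hE => E.trans' (h E hE) (h' E hE)⟩

theorem meet_le (h : Sys H E) {x y : Ω} (e : meet H x y) : E x y := e E h

theorem sys_meet (h : Sys H E) {a b : Ω} (hab : a ≠ b) (e : ∀ E, Sys H E → E a b) : Sys H (meet H) :=
  ⟨fun g hg x y hxy F hF => hF.inv g hg x y (hxy F hF), ⟨a, b, hab, e⟩, by
    obtain ⟨x, y, hxy⟩ := h.nt
    exact ⟨x, y, fun h1 => hxy (h1 E h)⟩⟩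

/-- a permutation supported on a class fixes every class -/
theorem rel_of_sp {a : Ω} {σ : Perm Ω} (hσ : Sp (cl E a) σ) (x : Ω) : E x (σ x) := by
  by_cases hx : x ∈ cl E a
  · exact E.trans' (E.symm' hx) ((Sp.pv hσ x).2 hx)
  · rw [hσ x hx]

/-- `H` is the stabiliser of two different comparable systems -/
theorem mem_of_two (s : Sec X H) (ht : Tr H) (h0 : Sys H E0) (h : Sys H E) (hle : ∀ x y, E0 x y → E x y) {p q : Ω}
    (e : E p q) (ne : ¬ E0 p q) {g : Perm Ω} (g0 : g ∈ St X E0) (g1 : g ∈ St X E) : g ∈ H := by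
  rcases eq_of_chain s (K := St X E0 ⊓ St X E) (le_inf (h0.le_St s.lt.le) (h.le_St s.lt.le)) inf_le_right
    (h.St_lt s) with h1 | h1
  · exact h1 ▸ (⟨g0, g1⟩ : g ∈ St X E0 ⊓ St X E)
  exfalso
  obtain ⟨p', hp, ep⟩ := h0.exists_mate ht p
  obtain ⟨q', hq, eq⟩ := h0.exists_mate ht q
  have hpq : p ≠ q := fun e1 => ne (e1 ▸ E0.refl' p)
  have h2 : swap p p' * swap p q ∈ St X E :=
    mem_St_of_fix (s.alt (swap_mul_mem_alt hp.symm hpq)) (rel_of_sp (a := p)
      ((Sp.swap (self_mem_cl E p) (hle _ _ ep)).mul (Sp.swap (self_mem_cl E p) e)))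
  have h3 : swap p p' * swap p q ∈ St X E0 := (h1.symm ▸ h2 : swap p p' * swap p q ∈ St X E0 ⊓ St X E).1
  have h4 := (h3.2 q q').2 eq
  have h5 : q' ≠ p := fun e1 => ne (E0.symm' (e1 ▸ eq))
  have h6 : q' ≠ p' := fun e1 => ne (E0.trans' ep (E0.symm' (e1 ▸ eq)))
  rw [Perm.mul_apply, Perm.mul_apply, swap_apply_right, swap_apply_left, swap_apply_of_ne_of_ne h5 hq,
    swap_apply_of_ne_of_ne h5 h6] at h4
  exact ne (E0.trans' ep (E0.trans' h4 (E0.symm' eq)))

/-- `σ` exchanges the classes of `p` and `q` and fixes the other points -/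
structure Exch (E : Setoid Ω) (p q : Ω) (σ : Perm Ω) : Prop where
  pq : ∀ x, E p x → E q (σ x)
  qp : ∀ x, E q x → E p (σ x)
  fix : ∀ x, ¬ E p x → ¬ E q x → σ x = x

theorem exists_exch0 (ht : Tr H) (h : Sys H E) {p q : Ω} (ne : ¬ E p q) : ∃ σ, Exch E p q σ := by
  classical
  obtain ⟨g, hg, rfl⟩ := ht p q
  have a1 : ∀ x, E p x → E (g p) (g x) := fun x hx => h.inv g hg p x hx
  have a2 : ∀ x, E (g p) x → E p (g⁻¹ x) := fun x hx => (h.iff hg p _).1 (by simpa using hx)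
  have a3 : ∀ x, E (g p) x → ¬ E p x := fun x h1 h2 => ne (E.trans' h2 (E.symm' h1))
  let f : Ω → Ω := fun x => if E p x then g x else if E (g p) x then g⁻¹ x else x
  have f1 : ∀ x, E p x → f x = g x := fun x hx => if_pos hx
  have f2 : ∀ x, E (g p) x → f x = g⁻¹ x := fun x hx => (if_neg (a3 x hx)).trans (if_pos hx)
  have f3 : ∀ x, ¬ E p x → ¬ E (g p) x → f x = x := fun x h1 h2 => (if_neg h1).trans (if_neg h2)
  have hinv : Function.Involutive f := fun x => by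
    by_cases h1 : E p x
    · rw [f1 x h1, f2 _ (a1 x h1)]
      simp
    by_cases h2 : E (g p) x
    · rw [f2 x h2, f1 _ (a2 x h2)]
      simp
    · rw [f3 x h1 h2, f3 x h1 h2]
  refine ⟨hinv.toPerm f, fun x hx => ?_, fun x hx => ?_, f3⟩
  · have : (hinv.toPerm f) x = g x := f1 x hx
    rw [this]
    exact a1 x hx
  · have : (hinv.toPerm f) x = g⁻¹ x := f2 x hx
    rw [this]
    exact a2 x hx

theorem exists_exch (ht : Tr H) (h : Sys H E) {p q : Ω} (ne : ¬ E p q) : ∃ σ, sign σ = 1 ∧ Exch E p q σ := by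
  obtain ⟨σ, hσ⟩ := exists_exch0 ht h ne
  rcases Int.units_eq_one_or (sign σ) with e | e
  · exact ⟨σ, e, hσ⟩
  obtain ⟨p', hp, ep⟩ := h.exists_mate ht p
  have hs : Sp (cl E p) (swap p p') := Sp.swap (self_mem_cl E p) ep
  refine ⟨σ * swap p p', by rw [map_mul, e, sign_swap hp.symm]; rfl, fun x hx => ?_, fun x hx => ?_, fun x h1 h2 => ?_⟩
  · exact hσ.pq _ (E.trans' hx (rel_of_sp hs x))
  · exact hσ.qp _ (E.trans' hx (rel_of_sp hs x))
  · rw [Perm.mul_apply, hs x h1, hσ.fix x h1 h2]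

theorem Exch.inv {p q : Ω} {σ : Perm Ω} (hσ : Exch E p q σ) (a b : Ω) (e : E a b) : E (σ a) (σ b) := by
  by_cases h1 : E p a
  · exact E.trans' (E.symm' (hσ.pq a h1)) (hσ.pq b (E.trans' h1 e))
  by_cases h2 : E q a
  · exact E.trans' (E.symm' (hσ.qp a h2)) (hσ.qp b (E.trans' h2 e))
  rw [hσ.fix a h1 h2, hσ.fix b (fun h3 => h1 (E.trans' h3 (E.symm' e))) fun h3 => h2 (E.trans' h3 (E.symm' e))]
  exact e

theorem Exch.rel {p q : Ω} {σ : Perm Ω} (hσ : Exch E0 p q σ) (hle : ∀ x y, E0 x y → E x y) (e : E p q) (a : Ω) :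
    E a (σ a) := by
  by_cases h1 : E0 p a
  · exact E.trans' (E.symm' (hle _ _ h1)) (E.trans' e (hle _ _ (hσ.pq a h1)))
  by_cases h2 : E0 q a
  · exact E.trans' (E.symm' (hle _ _ h2)) (E.trans' (E.symm' e) (hle _ _ (hσ.qp a h2)))
  rw [hσ.fix a h1 h2]

/-- two systems strictly above `E0` are comparable -/
theorem le_of_ne (s : Sec X H) (ht : Tr H) (h0 : Sys H E0) (h : Sys H E) (h' : Sys H E')
    (hle : ∀ x y, E0 x y → E x y) (hle' : ∀ x y, E0 x y → E' x y) (hne : E' ≠ E0) (p q : Ω) (e : E p q) : E' p q := by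
  by_cases ne : E0 p q
  · exact hle' p q ne
  obtain ⟨σ, s1, hσ⟩ := exists_exch ht h0 ne
  have hX := mem_X_of_even s s1
  have hH : σ ∈ H := mem_of_two s ht h0 h hle e ne (mem_St_of_inv hX hσ.inv) (mem_St_of_fix hX (hσ.rel hle e))
  obtain ⟨c, c1, c2⟩ : ∃ c, E' p c ∧ ¬ E0 p c := by
    by_contra hc
    exact hne (Setoid.ext fun x y =>
      ⟨h'.le_of_pt h0 ht (a := p) (fun z hz => by_contra fun h1 => hc ⟨z, hz, h1⟩) x y, hle' x y⟩)
  by_cases c3 : E0 q c
  · exact E'.trans' c1 (E'.symm' (hle' _ _ c3))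
  have h1 := h'.inv σ hH p c c1
  rw [hσ.fix c c2 c3] at h1
  exact E'.trans' c1 (E'.symm' (E'.trans' (hle' _ _ (hσ.pq p (E0.refl' p))) h1))

end I1

theorem boxI1 : BoxI1 := by
  intro Ω _ _ X H a b s ht hab e
  refine (ncard_Np_le s (Finset.univ : Finset Bool) (fun E i => (i = true ↔ E = I1.meet H)) (fun E hE => ?_) ?_).trans
    (by simp)
  · by_cases h : E = I1.meet H
    · exact ⟨true, Finset.mem_univ _, by simp [h]⟩
    · exact ⟨false, Finset.mem_univ _, by simp [h]⟩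
  · intro E E' h h' i _ l l'
    have h0 := I1.sys_meet h hab e
    cases i
    · have n : E ≠ I1.meet H := fun e1 => by simpa using l.2 e1
      have n' : E' ≠ I1.meet H := fun e1 => by simpa using l'.2 e1
      exact Setoid.ext fun x y =>
        ⟨I1.le_of_ne s ht h0 h h' (fun _ _ => I1.meet_le h) (fun _ _ => I1.meet_le h') n' x y,
          I1.le_of_ne s ht h0 h' h (fun _ _ => I1.meet_le h') (fun _ _ => I1.meet_le h) n x y⟩
    · exact (l.1 rfl).trans (l'.1 rfl).symm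

end Cfsg.Agent.SM.NP
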