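import Cfsg.Agent.SM.NP.DefsIm

/-!
# SM / NP: `BoxI2`, `BoxI3` (helper70)
-/

set_option autoImplicit false
set_option linter.unusedSectionVars false
set_option linter.unusedVariables false

namespace Cfsg.Agent.SM.NP

open Equiv Equiv.Perm Subgroup

namespace I23

variable {Ω : Type} [Fintype Ω] [DecidableEq Ω] {H : Subgroup (Perm Ω)} {E : Setoid Ω}

/-- an element that moves a class moves at least four points -/
theorem four (h : Sys H E) (ht : Tr H) {g : Perm Ω} (hg : g ∈ H) {a : Ω} (ha : ¬ E a (g a)) : 4 ≤ g.support.card := by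
  obtain ⟨x, hx, e⟩ := h.exists_mate ht a
  have e' := h.inv g hg a x e
  have h1 : a ≠ g a := fun h => ha (h ▸ E.refl' a)
  have h2 : x ≠ g a := fun h => ha (h ▸ e)
  have h3 : a ≠ g x := fun h => ha (E.symm' (h ▸ e'))
  have h4 : x ≠ g x := fun h => ha (E.trans' e (E.symm' (h ▸ e')))
  have h5 : g a ≠ g x := fun h => hx (g.injective h).symm
  have h6 : ({a, x, g a, g x} : Finset Ω) ⊆ g.support := by
    intro y hy
    simp only [Finset.mem_insert, Finset.mem_singleton] at hy
    rw [mem_support]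
    rcases hy with rfl | rfl | rfl | rfl
    exacts [h1.symm, h4.symm, fun h => h1 (g.injective h).symm, fun h => h4 (g.injective h).symm]
  have h7 := Finset.card_le_card h6
  rwa [Finset.card_insert_of_notMem (by simp [hx.symm, h1, h3]), Finset.card_insert_of_notMem (by simp [h2, h4]),
    Finset.card_pair h5] at h7

theorem swap_rel {u v : Ω} (h : E u v) (x : Ω) : E x (swap u v x) := by
  rw [swap_apply_def]
  split_ifs with h3 h4
  · exact h3 ▸ h
  · exact h4 ▸ E.symm' h
  · exact E.refl' x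

theorem swap_swap_rel {u v u' v' : Ω} (h : E u v) (h' : E u' v') (x : Ω) : E x ((swap u v * swap u' v') x) :=
  E.trans' (swap_rel h' x) (swap_rel h _)

end I23

open I23

theorem boxI2 : BoxI2 := fun Ω _ _ H h5 ht h => by
  rcases h with ⟨g, hg, h⟩ | ⟨τ, t1, t2, t3⟩
  · have h1 : 0 < g.support.card ∧ g.support.card < 4 := by
      rcases h with h | h
      · rw [h.card_support]; omega
      · rw [card_support_eq_two.2 h]; omega
    obtain ⟨a, ha⟩ := Finset.card_pos.1 h1.1
    exact ⟨a, g a, (mem_support.1 ha).symm, fun E hE => by_contra fun h2 => by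
      have := four hE ht hg h2
      omega⟩
  · obtain ⟨a, -⟩ := exists_notMem_of_card (T := (∅ : Finset Ω)) (by rw [Finset.card_empty]; omega)
    obtain ⟨b, hb⟩ := exists_notMem_of_card (T := {a, τ a}) (lt_of_le_of_lt Finset.card_le_two (by omega))
    obtain ⟨c, hc⟩ := exists_notMem_of_card (T := {a, τ a, b, τ b}) (lt_of_le_of_lt Finset.card_le_four (by omega))
    simp only [Finset.mem_insert, Finset.mem_singleton, not_or] at hb hc
    refine ⟨a, τ a, (t1.ne a).symm, fun E hE => by_contra fun h2 => ?_⟩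
    obtain ⟨x, hx, e⟩ := hE.exists_mate ht a
    have key : ∀ b, b ≠ a → b ≠ τ a → x = b ∨ x = τ b := fun b h3 h4 => by
      by_contra h5
      rw [not_or] at h5
      have h6 := hE.inv _ (t3 a b h3 h4) a x e
      have h7 : a ≠ τ b := fun h => h4 (by rw [h, t1.inv])
      rw [mul_apply, mul_apply, swap_apply_of_ne_of_ne h3.symm h7, swap_apply_left, swap_apply_of_ne_of_ne h5.1 h5.2,
        swap_apply_of_ne_of_ne hx (fun h : x = τ a => h2 (h ▸ e))] at h6
      exact h2 (E.trans' e (E.symm' h6))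
    rcases key b hb.1 hb.2 with h3 | h3 <;> rcases key c hc.1 hc.2.1 with h4 | h4
    · exact hc.2.2.1 (h4.symm.trans h3)
    · exact hc.2.2.2 (by rw [← h3, h4, t1.inv])
    · exact hc.2.2.2 (h4.symm.trans h3)
    · exact hc.2.2.1 (τ.injective (h4.symm.trans h3))

theorem boxI3 : BoxI3 := fun Ω _ _ X H s ht ⟨E, E', hE, hE', hle, p, q, e', hpq⟩ => by
  obtain ⟨p', hp, ep⟩ := hE.exists_mate ht p
  obtain ⟨q', hq, eq⟩ := hE.exists_mate ht q
  have n1 : p ≠ q := fun h => hpq (h ▸ E.refl' p)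
  have n2 : p' ≠ q := fun h => hpq (h ▸ ep)
  have n3 : p ≠ q' := fun h => hpq (E.symm' (h ▸ eq))
  have n4 : p' ≠ q' := fun h => hpq (E.trans' ep (E.symm' (h ▸ eq)))
  constructor
  · obtain ⟨r, hr⟩ := hE'.exists_out p
    have h1 : ({p, p', q, q'} : Set Ω) ⊆ cl E' p := by
      rintro z (rfl | rfl | rfl | rfl)
      exacts [E'.refl' _, hle _ _ ep, e', E'.trans' e' (hle _ _ eq)]
    have h2 := Set.ncard_le_ncard h1 (Set.toFinite _)
    rw [Set.ncard_insert_of_notMem (by simp [hp.symm, n1, n3]), Set.ncard_insert_of_notMem (by simp [n2, n4]),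
      Set.ncard_pair hq.symm] at h2
    have h3 : Disjoint (cl E' p) (cl E' r) := Set.disjoint_left.2 fun z h4 h5 => hr (E'.trans' h4 (E'.symm' h5))
    have h4 := Set.ncard_le_ncard (Set.subset_univ (cl E' p ∪ cl E' r)) (Set.toFinite _)
    rw [Set.ncard_union_eq h3, Set.ncard_univ, Nat.card_eq_fintype_card, hE'.ncard_cl ht r p] at h4
    omega
  have hH : ∀ g ∈ alternatingGroup Ω, (∀ a, E a (g a)) → g ∈ H := fun g hg h => by
    rcases eq_of_chain s (le_inf (hE.le_St s.lt.le) (hE'.le_St s.lt.le)) inf_le_right (hE'.St_lt s) with e | e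
    · exact e ▸ ⟨mem_St_of_fix (s.alt hg) h, mem_St_of_fix (s.alt hg) fun a => hle _ _ (h a)⟩
    · exfalso
      have h1 : swap p q * swap p p' ∈ St X E ⊓ St X E' :=
        e.symm ▸ mem_St_of_fix (s.alt (swap_mul_mem_alt n1 hp.symm)) (swap_swap_rel e' (hle _ _ ep))
      have h2 := (h1.1.2 p p').2 ep
      rw [mul_apply, mul_apply, swap_apply_left, swap_apply_right, swap_apply_left,
        swap_apply_of_ne_of_ne hp n2] at h2
      exact hpq (E.trans' ep h2)
  by_cases h3 : 3 ≤ (cl E p).ncard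
  · obtain ⟨a, ha, b, hb, c, hc, h1, h2, h4⟩ := exists_three_mem h3
    exact Or.inl ⟨_, hH _ (swap_mul_mem_alt h1 h2)
      (swap_swap_rel (E.trans' (E.symm' ha) hb) (E.trans' (E.symm' ha) hc)),
      Or.inl (isThreeCycle_swap_mul_swap_same h1 h2 h4)⟩
  · obtain ⟨τ, t1, t2, t3⟩ := hE.exists_mat ht (a := p) (by omega)
    exact Or.inr ⟨τ, t1, t2, fun a b _ _ => hH _ (swap_mul_mem_alt (t1.ne a).symm (t1.ne b).symm)
      (swap_swap_rel ((t3 _ _).2 (Or.inr rfl)) ((t3 _ _).2 (Or.inr rfl)))⟩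

end Cfsg.Agent.SM.NP
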