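import Cfsg.Agent.SM.NP.DefsIm

/-!
# SM (S3570), `H` transitive and imprimitive: the box `I5` (helper79)
-/

set_option autoImplicit false
set_option linter.unusedSectionVars false
set_option maxHeartbeats 400000

namespace Cfsg.Agent.SM.NP

open Equiv Equiv.Perm Subgroup MulAction

namespace I5

variable {Ω : Type} [Fintype Ω] [DecidableEq Ω] {X H : Subgroup (Perm Ω)} {E : Setoid Ω}

theorem glue (s : Sec X H) (hl : ∀ g ∈ X, Lc H E g → g ∈ H) {a : Ω} {g h : Perm Ω} (hg : Sp (cl E a) g) (he : sign g = 1)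
    (hh : h ∈ H) (e : ∀ x ∈ cl E a, g x = h x) : g ∈ H := by
  refine hl g (mem_X_of_even s he) fun y => ?_
  by_cases hy : E a y
  · exact ⟨h, hh, fun x hx => e x (E.trans' hy hx)⟩
  · exact ⟨1, H.one_mem, fun x hx => hg x fun k => hy (E.trans' k (E.symm' hx))⟩

theorem pv (h : Sys H E) {a x : Ω} {g : Perm Ω} (hg : g ∈ H) (hx : x ∈ cl E a) (hx' : g x ∈ cl E a) : Pv (cl E a) g :=
  Pv.of_maps fun y hy => E.trans' hx' (h.inv g hg x y (E.trans' (E.symm' hx) hy))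

/-- the stabiliser of a class is primitive on it -/
theorem prim (I : Im X H E) (a : Ω) (E' : Setoid Ω)
    (h : ∀ g ∈ H, Pv (cl E a) g → ∀ x ∈ cl E a, ∀ y ∈ cl E a, E' x y → E' (g x) (g y)) :
    (∀ x ∈ cl E a, ∀ y ∈ cl E a, E' x y) ∨ ∀ x ∈ cl E a, ∀ y ∈ cl E a, E' x y → x = y := by
  let R : Setoid Ω := ⟨fun x y => E x y ∧ ∀ g ∈ H, g x ∈ cl E a → E' (g x) (g y), fun x => ⟨E.refl' x, fun _ _ _ => E'.refl' _⟩,
    fun {x y} k => ⟨E.symm' k.1, fun g hg e => E'.symm' (k.2 g hg (E.trans' e (I.sys.inv g hg _ _ (E.symm' k.1))))⟩,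
    fun {x y z} k k' => ⟨E.trans' k.1 k'.1, fun g hg e =>
      E'.trans' (k.2 g hg e) (k'.2 g hg (E.trans' e (I.sys.inv g hg _ _ k.1)))⟩⟩
  refine or_iff_not_imp_right.2 fun k x hx y hy => ?_
  simp only [not_forall] at k
  obtain ⟨u, hu, v, hv, e, huv⟩ := k
  have hR : Sys H R := by
    refine ⟨fun g hg x y k => ⟨I.sys.inv g hg x y k.1, fun g' hg' => k.2 (g' * g) (H.mul_mem hg' hg)⟩,
      ⟨u, v, huv, E.trans' (E.symm' hu) hv, fun g hg k => h g hg (pv I.sys hg hu k) u hu v hv e⟩, ?_⟩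
    obtain ⟨x, y, k⟩ := I.sys.nt
    exact ⟨x, y, fun k' => k k'.1⟩
  have h1 : R x y := by
    rw [hR.eq_of_le I.sys I.ncmp fun x y k => k.1]
    exact E.trans' (E.symm' hx) hy
  exact h1.2 1 H.one_mem hx

/-- a class is a Jordan set -/
theorem jordan (I : Im X H E) (hl : ∀ g ∈ X, Lc H E g → g ∈ H) (a : Ω) :
    ∀ x ∈ cl E a, ∀ y ∈ cl E a, ∃ g ∈ H, g x = y ∧ Sp (cl E a) g := by
  let R : Setoid Ω := ⟨fun x y => ∃ g ∈ H, g x = y ∧ Sp (cl E a) g, fun x => ⟨1, H.one_mem, rfl, Sp.one⟩,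
    fun ⟨g, hg, e, k⟩ => ⟨g⁻¹, H.inv_mem hg, Perm.inv_eq_iff_eq.2 e.symm, k.inv⟩,
    fun ⟨g, hg, e, k⟩ ⟨g', hg', e', k'⟩ => ⟨g' * g, H.mul_mem hg' hg, by rw [Perm.mul_apply, e, e'], k'.mul k⟩⟩
  refine (prim I a R ?_).resolve_right fun k => ?_
  · rintro g hg hp x - y - ⟨h, hh, e, k⟩
    exact ⟨g * h * g⁻¹, H.mul_mem (H.mul_mem hg hh) (H.inv_mem hg), by simp [e], k.conj hp⟩
  · have ev : ∀ g ∈ H, ∀ x ∈ cl E a, g x ∈ cl E a → sign (res (cl E a) g) = 1 → x = g x := fun g hg x hx hx' e =>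
      k x hx _ hx' ⟨_, glue I.sec hl (res_sp _ g) e hg fun y hy => res_mem (pv I.sys hg hx hx') hy,
        res_mem (pv I.sys hg hx hx') hx, res_sp _ g⟩
    obtain ⟨x, hx, y, hy, z, hz, xy, xz, yz⟩ := exists_three_mem (I.big a)
    obtain ⟨g, hg, rfl⟩ := I.tr x y
    obtain ⟨h, hh, rfl⟩ := I.tr x z
    have o1 := (Int.units_eq_one_or _).resolve_left fun e => xy (ev g hg x hx hy e)
    have o2 := (Int.units_eq_one_or _).resolve_left fun e => xz (ev h hh x hx hz e)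
    have p1 := pv I.sys hg hx hy
    have p2 := pv I.sys hh hx hz
    have := ev (h * g⁻¹) (H.mul_mem hh (H.inv_mem hg)) (g x) hy (by simpa using hz)
      (by rw [res_mul p2 p1.inv, res_inv p1, map_mul, map_inv, o1, o2]; rfl)
    exact yz (by simpa using this)

theorem sys_eq (I : Im X H E) (hl : ∀ g ∈ X, Lc H E g → g ∈ H) {E' : Setoid Ω} (h : Sys H E') : E' = E := by
  obtain ⟨a, -⟩ := I.sys.nb
  by_cases k : ∀ u, E' a u → E a u
  · exact h.eq_of_le I.sys I.ncmp (h.le_of_pt I.sys I.tr k)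
  · simp only [not_forall] at k
    obtain ⟨u, e, hu⟩ := k
    refine (I.sys.eq_of_le h I.ncmp (I.sys.le_of_pt h I.tr (a := a) fun x hx => ?_)).symm
    obtain ⟨g, hg, rfl, k⟩ := jordan I hl a a (self_mem_cl E a) x hx
    have := h.inv g hg a u e
    rw [k u hu] at this
    exact E'.trans' e (E'.symm' this)

theorem lt_St (I : Im X H E) : H < St X E := by
  refine lt_of_le_of_ne (I.sys.le_St I.sec.lt.le) fun e => I.nsm ?_
  obtain ⟨a, -⟩ := I.sys.nb
  obtain ⟨x, hx, y, hy, z, hz, xy, xz, yz⟩ := exists_three_mem (I.big a)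
  have c := isThreeCycle_swap_mul_swap_same xy xz yz
  have sp := (Sp.swap hx hy).mul (Sp.swap hx hz)
  refine ⟨_, e.symm ▸ mem_St_of_fix (mem_X_of_even I.sec c.sign) fun t => ?_, Or.inl c⟩
  by_cases ht : t ∈ cl E a
  · exact E.trans' (E.symm' ht) ((sp.pv t).2 ht)
  · rw [sp t ht]

end I5

open I5

theorem boxI5_of (J3 : BoxJ3) (J2 : BoxJ2) : BoxI5 := fun Ω _ _ X H E I hl => by
  have h1 : (Np X H).ncard ≤ 1 := ncard_Np_le I.sec {()} (fun _ _ => True) (fun _ _ => ⟨(), by simp, trivial⟩)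
    fun E' E'' h h' _ _ _ _ => (sys_eq I hl h).trans (sys_eq I hl h').symm
  have h2 : Pr X H = ∅ := Set.eq_empty_of_forall_notMem fun M hM => I.sec.not_alt_le hM.1 (by
    obtain ⟨a, b, hab⟩ := I.sys.nt
    have hb := I.big a
    have hJ : ∀ x ∈ cl E a, ∀ y ∈ cl E a, ∃ g ∈ M, g x = y ∧ ∀ z, z ∉ cl E a → g z = z := fun x hx y hy => by
      obtain ⟨g, hg, k⟩ := jordan I hl a x hx y hy
      exact ⟨g, hM.1.2 hg, k⟩
    by_cases h3 : ∀ c, ¬ E a c → E b c
    · obtain ⟨h, hh, rfl⟩ := I.tr a b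
      refine J2 Ω M (cl E a) hb ⟨h, hM.1.2 hh, fun x => ⟨fun k k' => ?_, fun k => ?_⟩⟩ hJ
        (fun E' k => prim I a E' fun g hg => k g (hM.1.2 hg)) (fun g hg σ e k sp => hM.1.2 ?_) hM.2
      · exact hab (E.trans' k (E.symm' (I.sys.inv h hh a x k')))
      · by_contra k'
        exact k ((I.sys.iff hh a x).1 (h3 _ k'))
      · have p : Pv (cl E a) g := Pv.of_maps fun x hx => k x hx ▸ (Sp.pv sp x).2 hx
        have w : g ∈ St X E := mem_St_of_inv (hM.1.1.le hg) fun x y hxy => by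
          by_cases hx : x ∈ cl E a
          · exact E.trans' (E.symm' ((p x).2 hx)) ((p y).2 (E.trans' hx hxy))
          · exact E.trans' (E.symm' (h3 _ fun k => hx ((p x).1 k)))
              (h3 _ fun k => hx (E.trans' ((p y).1 k) (E.symm' hxy)))
        have ne : M ≠ St X E := fun k => (I.sys.St X).not_prim (k ▸ hM.2)
        have := I.sec.inf_eq hM.1 (I.sec.mem_ov (lt_St I) (I.sys.St_lt I.sec)) ne
        exact glue I.sec hl sp e (this ▸ (⟨hg, w⟩ : g ∈ M ⊓ St X E)) k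
    · simp only [not_forall] at h3
      obtain ⟨c, hac, hbc⟩ := h3
      refine J3 Ω M (cl E a) (by omega) ?_ hJ hM.2
      have d : Disjoint (cl E a) (cl E b) := Set.disjoint_left.2 fun x k k' => hab (E.trans' k (E.symm' k'))
      have h4 : (cl E a ∪ cl E b).ncard < (Set.univ : Set Ω).ncard :=
        Set.ncard_lt_ncard (Set.ssubset_univ_iff.2 fun k => by
          rcases (k.symm ▸ Set.mem_univ c : c ∈ cl E a ∪ cl E b) with k | k
          exacts [hac k, hbc k])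
      rw [Set.ncard_union_eq d, I.sys.ncard_cl I.tr b a, Set.ncard_univ, Nat.card_eq_fintype_card] at h4
      omega)
  have h3 := ncard_Ov X H
  rw [h2, Set.ncard_empty] at h3
  omega

end Cfsg.Agent.SM.NP
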