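import Cfsg.Agent.SM.NP.DefsIm

/-!
# SM (S3570), `H` transitive and imprimitive: at least three classes, `H` locally everything (helper68)
-/

set_option autoImplicit false
set_option linter.unusedSectionVars false
set_option linter.unusedVariables false

namespace Cfsg.Agent.SM.NP

open Equiv Equiv.Perm Subgroup MulAction

variable {Ω : Type} [Fintype Ω] [DecidableEq Ω] {X H : Subgroup (Perm Ω)} {E : Setoid Ω}

namespace I7

/-- the permutations that fix every class -/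
def Fx (E : Setoid Ω) : Subgroup (Perm Ω) where
  carrier := {k | ∀ x, E x (k x)}
  one_mem' := fun x => E.refl' x
  mul_mem' := fun {g k} hg hk x => E.trans' (hk x) (hg _)
  inv_mem' := fun {g} hg x => E.symm' (by simpa using hg (g⁻¹ x))

theorem Fx_pv {k : Perm Ω} (h : k ∈ Fx E) (a : Ω) : Pv (cl E a) k := fun x =>
  ⟨fun h1 => E.trans' h1 (E.symm' (h x)), fun h1 => E.trans' h1 (h x)⟩

theorem Fx_sp {a : Ω} {σ : Perm Ω} (h : Sp (cl E a) σ) : σ ∈ Fx E := fun x => by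
  by_cases hx : x ∈ cl E a
  · exact E.trans' (E.symm' hx) ((h.pv x).2 hx)
  · rw [h x hx]

theorem Fx_conj (h : Sys H E) {g k : Perm Ω} (hg : g ∈ H) (hk : k ∈ Fx E) : g * k * g⁻¹ ∈ Fx E := fun x => by
  simpa using h.inv g hg _ _ (hk (g⁻¹ x))

/-- the permutations that preserve `B` and are even on it -/
def Ev (B : Set Ω) : Subgroup (Perm Ω) where
  carrier := {k | Pv B k ∧ sign (res B k) = 1}
  one_mem' := ⟨Pv.one, by rw [Sp.one.res, map_one]⟩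
  mul_mem' := fun {g k} hg hk => ⟨hg.1.mul hk.1, by rw [res_mul hg.1 hk.1, map_mul, hg.2, hk.2, one_mul]⟩
  inv_mem' := fun {g} hg => ⟨hg.1.inv, by rw [res_inv hg.1, map_inv, hg.2, inv_one]⟩

/-- the permutations that are trivial on `C` -/
def Tv (C : Set Ω) : Subgroup (Perm Ω) where
  carrier := {k | ∀ x ∈ C, k x = x}
  one_mem' := fun _ _ => rfl
  mul_mem' := fun {g k} hg hk x hx => by rw [Perm.mul_apply, hk x hx, hg x hx]
  inv_mem' := fun {g} hg x hx => by rw [Perm.inv_eq_iff_eq, hg x hx]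

theorem Tv_conj {C : Set Ω} {g k : Perm Ω} (hg : Pv C g) (hk : k ∈ Tv C) : g * k * g⁻¹ ∈ Tv C := fun x hx => by
  rw [Perm.mul_apply, Perm.mul_apply, hk _ ((hg.inv x).2 hx)]
  simp

/-- the restrictions to a class -/
def Rs (K : Subgroup (Perm Ω)) (E : Setoid Ω) (a : Ω) : Subgroup (Perm Ω) where
  carrier := {σ | ∃ k ∈ K, k ∈ Fx E ∧ res (cl E a) k = σ}
  one_mem' := ⟨1, K.one_mem, (Fx E).one_mem, Sp.one.res⟩
  mul_mem' := by
    rintro _ _ ⟨g, g1, g2, rfl⟩ ⟨k, k1, k2, rfl⟩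
    exact ⟨g * k, K.mul_mem g1 k1, (Fx E).mul_mem g2 k2, res_mul (Fx_pv g2 a) (Fx_pv k2 a)⟩
  inv_mem' := by
    rintro _ ⟨g, g1, g2, rfl⟩
    exact ⟨g⁻¹, K.inv_mem g1, (Fx E).inv_mem g2, res_inv (Fx_pv g2 a)⟩

theorem res_cj {B : Set Ω} {d k : Perm Ω} (hd : Pv B d) (hk : Pv B k) :
    res B (d * k * d⁻¹) = res B d * res B k * (res B d)⁻¹ := by
  rw [res_mul (hd.mul hk) hd.inv, res_mul hd hk, res_inv hd]

theorem res_other {a b : Ω} (hab : ¬ E a b) {σ : Perm Ω} (h : Sp (cl E a) σ) : res (cl E b) σ = 1 :=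
  res_eq_one fun x hx => h x fun h1 => hab (E.trans' h1 (E.symm' hx))

theorem three (I : Im X H E) (a : Ω) : ∃ x y z, x ∈ cl E a ∧ y ∈ cl E a ∧ (swap x y * swap x z).IsThreeCycle ∧
    Sp (cl E a) (swap x y * swap x z) ∧
    swap x y * swap x z * swap x y * (swap x y * swap x z)⁻¹ * (swap x y)⁻¹ = (swap x y * swap x z)⁻¹ := by
  obtain ⟨x, hx, y, hy, z, hz, h1, h2, h3⟩ := exists_three_mem (I.big a)
  refine ⟨x, y, z, hx, hy, isThreeCycle_swap_mul_swap_same h1 h2 h3, (Sp.swap hx hy).mul (Sp.swap hx hz), ?_⟩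
  have h4 := (isThreeCycle_swap_mul_swap_same h1 h2 h3).orderOf ▸ pow_orderOf_eq_one (swap x y * swap x z)
  have h5 : swap x y * swap x z * swap x y * (swap x y * swap x z)⁻¹ * (swap x y)⁻¹ =
      (swap x y * swap x z) ^ 3 * (swap x y * swap x z)⁻¹ := by
    simp [pow_succ, mul_assoc]
  rw [h5, h4, one_mul]

/-- every element of the stabiliser is in `H` up to even restrictions -/
theorem fac (I : Im X H E) {w : Perm Ω} (hw : w ∈ Fx E) (he : sign w = 1) :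
    ∃ h ∈ H, h ∈ Fx E ∧ ∀ a, sign (res (cl E a) h) = sign (res (cl E a) w) := by
  have s := I.sec
  obtain ⟨a, -⟩ := I.sys.nb
  obtain ⟨x, y, z, -, -, h1, h2, -⟩ := three I a
  have hc : swap x y * swap x z ∉ H := fun h => I.nsm ⟨_, h, Or.inl h1⟩
  have hX : swap x y * swap x z ∈ X := mem_X_of_even s h1.sign
  have hW : St X E ∈ Ov X H := s.mem_ov (lt_of_le_of_ne (I.sys.le_St s.lt.le) fun e =>
    hc (e ▸ mem_St_of_fix hX (Fx_sp h2))) (I.sys.St_lt s)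
  let N : Subgroup (Perm Ω) := X ⊓ Fx E ⊓ ⨅ b, Ev (cl E b)
  have hN : ∀ g, g ∈ N ↔ (g ∈ X ∧ g ∈ Fx E) ∧ ∀ b, g ∈ Ev (cl E b) := fun g => by
    simp only [N, mem_inf, mem_iInf]
  have hcj : ∀ g ∈ H, ∀ k ∈ N, g * k * g⁻¹ ∈ N := fun g hg k hk => by
    obtain ⟨⟨k0, k1⟩, k2⟩ := (hN k).1 hk
    have h3 := Fx_conj I.sys hg k1
    refine (hN _).2 ⟨⟨(Nor.refl X).conj g (s.lt.le hg) k k0, h3⟩, fun b => ⟨Fx_pv h3 b, ?_⟩⟩
    rw [res_conj (B := cl E (g⁻¹ b)) (fun y => by simpa [mem_cl] using I.sys.iff hg (g⁻¹ b) y) (Fx_pv k1 _),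
      map_mul, map_mul, (k2 _).2, map_inv, mul_one, mul_inv_cancel]
  rcases s.le_or_mul hW (N := N) (fun g hg => mem_St_of_fix ((hN g).1 hg).1.1 ((hN g).1 hg).1.2)
    hcj with h | h
  · refine absurd (h ((hN _).2 ⟨⟨hX, Fx_sp h2⟩, fun b => ⟨Fx_pv (Fx_sp h2) b, ?_⟩⟩)) hc
    by_cases hab : E a b
    · rw [← cl_eq hab, h2.res, h1.sign]
    · rw [res_other hab h2, map_one]
  · obtain ⟨h, hh, k, hk, rfl⟩ := h w (mem_St_of_fix (mem_X_of_even s he) hw)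
    obtain ⟨⟨-, k1⟩, k2⟩ := (hN k).1 hk
    have h3 : h ∈ Fx E := by simpa using (Fx E).mul_mem hw ((Fx E).inv_mem k1)
    refine ⟨h, hh, h3, fun b => ?_⟩
    rw [res_mul (Fx_pv h3 b) (Fx_pv k1 b), map_mul, (k2 b).2, mul_one]

/-- odd on one class, even on another one -/
theorem odd_even (I : Im X H E) {b c d : Ω} (hbc : ¬ E b c) (hbd : ¬ E b d) (hcd : ¬ E c d) :
    ∃ h ∈ H, h ∈ Fx E ∧ sign (res (cl E b) h) = -1 ∧ sign (res (cl E c) h) = 1 := by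
  obtain ⟨b', b1, b2⟩ := I.sys.exists_mate I.tr b
  obtain ⟨d', d1, d2⟩ := I.sys.exists_mate I.tr d
  have h1 : Sp (cl E b) (swap b b') := Sp.swap (self_mem_cl E b) b2
  have h2 : Sp (cl E d) (swap d d') := Sp.swap (self_mem_cl E d) d2
  obtain ⟨h, hh, h3, h4⟩ := fac I ((Fx E).mul_mem (Fx_sp h1) (Fx_sp h2))
    (mem_alternatingGroup.1 (swap_mul_mem_alt b1.symm d1.symm))
  refine ⟨h, hh, h3, ?_, ?_⟩
  · rw [h4, res_mul (Fx_pv (Fx_sp h1) b) (Fx_pv (Fx_sp h2) b), h1.res, res_other (fun e => hbd (E.symm' e)) h2, mul_one,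
      sign_swap b1.symm]
  · rw [h4, res_mul (Fx_pv (Fx_sp h1) c) (Fx_pv (Fx_sp h2) c), res_other hbc h1,
      res_other (fun e => hcd (E.symm' e)) h2, mul_one, map_one]

/-- the kernel on the classes induces the symmetric group on a class -/
theorem full (I : Im X H E) (hl : ∀ g ∈ St X E, Lc H E g) {b c d : Ω} (hbc : ¬ E b c) (hbd : ¬ E b d) (hcd : ¬ E c d)
    {σ : Perm Ω} (hσ : Sp (cl E b) σ) : σ ∈ Rs H E b := by
  obtain ⟨h, hh, h1, h2, -⟩ := odd_even I hbc hbd hcd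
  refine mem_of_odd _ ?_ ⟨h, hh, h1, rfl⟩ (res_sp _ h) h2 hσ
  rintro t ht _ ⟨k, k1, k2, rfl⟩ -
  obtain ⟨g, hg, h3⟩ := full_of_lc I.sec I.tr I.sys hl b t ht
  have h4 : Pv (cl E b) g := Pv.of_maps fun x hx => h3 x hx ▸ (ht.pv x).2 hx
  exact ⟨g * k * g⁻¹, (Nor.refl H).conj g hg k k1, Fx_conj I.sys hg k2, by rw [res_cj h4 (Fx_pv k2 b), res_eq ht h3]⟩

/-- the same for the elements that are trivial on a second class -/
theorem full2 (I : Im X H E) (hl : ∀ g ∈ St X E, Lc H E g) {b c d : Ω} (hbc : ¬ E b c) (hbd : ¬ E b d)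
    (hcd : ¬ E c d) {σ : Perm Ω} (hσ : Sp (cl E b) σ) : σ ∈ Rs (H ⊓ Tv (cl E c)) E b := by
  obtain ⟨h, hh, h1, h2, h3⟩ := odd_even I hbc hbd hcd
  have h4 : res (cl E c) h ∈ Rs (H ⊓ Ev (cl E b)) E c := by
    refine mem_of_three _ (fun t ht t3 => ?_) (res_sp _ h) h3
    obtain ⟨k, k1, k2, k3⟩ := full I hl (fun e => hbc (E.symm' e)) hcd hbd ht
    refine ⟨(k * k)⁻¹, inv_mem ⟨H.mul_mem k1 k1, (Fx_pv k2 b).mul (Fx_pv k2 b), ?_⟩,
      inv_mem (mul_mem k2 k2), ?_⟩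
    · rw [res_mul (Fx_pv k2 b) (Fx_pv k2 b), map_mul, Int.units_mul_self]
    · rw [res_inv ((Fx_pv k2 c).mul (Fx_pv k2 c)), res_mul (Fx_pv k2 c) (Fx_pv k2 c), k3, inv_eq_iff_mul_eq_one,
        mul_assoc, ← pow_three, ← t3.orderOf, pow_orderOf_eq_one]
  obtain ⟨k, ⟨k1, k4⟩, k2, k3⟩ := h4
  have h5 : h * k⁻¹ ∈ Fx E := mul_mem h1 (inv_mem k2)
  refine mem_of_odd _ ?_ ⟨h * k⁻¹, ⟨H.mul_mem hh (H.inv_mem k1), fun x hx => ?_⟩, h5, rfl⟩ (res_sp _ _) ?_ hσ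
  · rintro t ht _ ⟨q, ⟨q1, q4⟩, q2, rfl⟩ -
    obtain ⟨g, g1, g2, rfl⟩ := full I hl hbc hbd hcd ht
    exact ⟨g * q * g⁻¹, ⟨(Nor.refl H).conj g g1 q q1, Tv_conj (Fx_pv g2 c) q4⟩, Fx_conj I.sys g1 q2,
      res_cj (Fx_pv g2 b) (Fx_pv q2 b)⟩
  · rw [← res_mem (Fx_pv h5 c) hx, res_mul (Fx_pv h1 c) (Fx_pv k2 c).inv, res_inv (Fx_pv k2 c), k3, mul_inv_cancel]
    rfl
  · rw [res_mul (Fx_pv h1 b) (Fx_pv k2 b).inv, res_inv (Fx_pv k2 b), map_mul, map_inv, h2, k4.2, inv_one, mul_one]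

end I7

open I7

theorem boxI7 : BoxI7 := by
  intro Ω _ _ X H E I hl p q r hpq hpr
  by_contra hqr
  have third : ∀ c, ¬ E p c → ∃ d, ¬ E p d ∧ ¬ E c d := fun c hc => by
    by_cases h : E c q
    · exact ⟨r, hpr, fun e => hqr (E.trans' (E.symm' h) e)⟩
    · exact ⟨q, hpq, h⟩
  obtain ⟨x, y, z, hx, hy, h1, h2, h3⟩ := three I p
  have key : ∀ T : Finset Ω, ∃ k ∈ H, k ∈ Fx E ∧ res (cl E p) k = swap x y * swap x z ∧
      ∀ t ∈ T, ¬ E p t → k ∈ Tv (cl E t) := fun T => by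
    induction T using Finset.induction_on with
    | empty =>
      obtain ⟨k, k1, k2, k3⟩ := full I hl hpq hpr hqr h2
      exact ⟨k, k1, k2, k3, by simp⟩
    | insert t T _ ih =>
      obtain ⟨k, k1, k2, k3, k4⟩ := ih
      by_cases ht : E p t
      · refine ⟨k, k1, k2, k3, fun u hu hpu => k4 u ((Finset.mem_insert.1 hu).resolve_left ?_) hpu⟩
        rintro rfl
        exact hpu ht
      obtain ⟨d, d1, d2⟩ := third t ht
      obtain ⟨v, ⟨v1, v4⟩, v2, v3⟩ := full2 I hl ht d1 d2 (Sp.swap hx hy)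
      refine ⟨(k * v * k⁻¹ * v⁻¹)⁻¹, inv_mem (mul_mem (mul_mem (mul_mem k1 v1) (inv_mem k1)) (inv_mem v1)),
        inv_mem (mul_mem (mul_mem (mul_mem k2 v2) (inv_mem k2)) (inv_mem v2)), ?_, fun u hu hpu => inv_mem ?_⟩
      · have a1 := Fx_pv k2 p
        have a2 := Fx_pv v2 p
        rw [res_inv (((a1.mul a2).mul a1.inv).mul a2.inv), res_mul ((a1.mul a2).mul a1.inv) a2.inv, res_cj a1 a2,
          res_inv a2, k3, v3, h3, inv_inv]
      · rcases Finset.mem_insert.1 hu with rfl | hu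
        · exact mul_mem (Tv_conj (Fx_pv k2 u) v4) (inv_mem v4)
        · have := mul_mem (k4 u hu hpu) (Tv_conj (Fx_pv v2 u) (inv_mem (k4 u hu hpu)))
          simpa only [mul_assoc] using this
  obtain ⟨k, k1, k2, k3, k4⟩ := key Finset.univ
  have h4 : Sp (cl E p) k := fun u hu => k4 u (Finset.mem_univ u) hu u (self_mem_cl E u)
  exact I.nsm ⟨k, k1, Or.inl (h4.res ▸ k3 ▸ h1)⟩

end Cfsg.Agent.SM.NP
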