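import Cfsg.Agent.SM.NP.DefsIm

/-!
# SM (S3570), `H` transitive and imprimitive: two classes (helper47)
-/

set_option autoImplicit false

namespace Cfsg.Agent.SM.NP

open Equiv Equiv.Perm Subgroup MulAction

namespace I8

variable {Ω : Type} [Fintype Ω] [DecidableEq Ω] {X H : Subgroup (Perm Ω)} {B : Set Ω}

/-- the two halves -/
def hv (B : Set Ω) : Setoid Ω := ⟨fun x y => x ∈ B ↔ y ∈ B, fun _ => Iff.rfl, Iff.symm, Iff.trans⟩

theorem lift (h : Full H B) {σ : Perm Ω} (hσ : Sp B σ) : ∃ d ∈ H, Pv B d ∧ ∀ a ∈ B, d a = σ a := by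
  obtain ⟨d, hd, h1⟩ := h σ hσ
  exact ⟨d, hd, Pv.of_maps fun x hx => (h1 x hx).symm ▸ (hσ.pv x).2 hx, h1⟩

theorem np_le (s : Sec X H) (ht : Tr H) (hc : ¬ Cmp H) (h3 : 3 ≤ B.ncard) (h1 : Bᶜ.Nonempty) (hf : Hf H B)
    (hB : Full H B) : (Np X H).ncard ≤ 2 := by
  obtain ⟨a, ha, p, hp, q, hq, hap, haq, hpq⟩ := exists_three_mem h3
  have h0 : Sys H (hv B) := ⟨fun g hg x y e => (hf g hg).elim (fun k => (k x).trans (Iff.trans e (k y).symm))
    fun k => (k x).trans ((not_congr e).trans (k y).symm), ⟨a, p, hap, iff_of_true ha hp⟩,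
    h1.elim fun u hu => ⟨a, u, fun e => hu (Iff.mp e ha)⟩⟩
  have k : ∀ {E}, Sys H E → E ≠ hv B → ∀ {x y}, E x y → (x ∈ B ↔ y ∈ B) → x = y := fun hE hn x y e e' =>
    by_contra fun h2 => hn (hE.eq_of_pair h0 hc h2 e e')
  refine ncard_Np_le s (Finset.univ : Finset Bool) (fun E i => i = true ↔ E = hv B) (fun E _ => ?_)
    fun E E' hE hE' i _ e e' => ?_
  · by_cases h2 : E = hv B
    · exact ⟨true, Finset.mem_univ _, iff_of_true rfl h2⟩
    · exact ⟨false, Finset.mem_univ _, iff_of_false Bool.false_ne_true h2⟩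
  by_cases h2 : E = hv B
  · exact h2.trans (e'.1 (e.2 h2)).symm
  have h2' : E' ≠ hv B := fun h4 => h2 (e.1 (e'.2 h4))
  obtain ⟨u, hu, eu⟩ := hE.exists_mate ht a
  obtain ⟨v, hv', ev⟩ := hE'.exists_mate ht a
  have mu : u ∉ B := fun h4 => hu (k hE h2 eu (iff_of_true ha h4)).symm
  have mv : v ∉ B := fun h4 => hv' (k hE' h2' ev (iff_of_true ha h4)).symm
  obtain ⟨b, hb, eb⟩ := hE'.exists_mate ht u
  have mb : b ∈ B := by_contra fun h4 => hb (k hE' h2' eb (iff_of_false mu h4)).symm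
  by_cases hab : b = a
  · exact hE.eq_of_pair hE' hc hu.symm eu (E'.symm' (hab ▸ eb))
  obtain ⟨c, mc, hca, hcb⟩ : ∃ c ∈ B, c ≠ a ∧ c ≠ b := by
    by_cases h4 : p = b
    · exact ⟨q, hq, haq.symm, h4 ▸ hpq.symm⟩
    · exact ⟨p, hp, hap.symm, h4⟩
  obtain ⟨d, hd, pd, ed⟩ := lift hB (Sp.swap mb mc)
  have e1 := hE.inv d hd a u eu
  rw [ed a ha, swap_apply_of_ne_of_ne (Ne.symm hab) hca.symm] at e1
  have e2 := hE'.inv d hd u b eb
  rw [← k hE h2 (E.trans' (E.symm' eu) e1) (iff_of_false mu fun h4 => mu ((pd u).1 h4)), ed b mb, swap_apply_left] at e2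
  exact absurd (k hE' h2' (E'.trans' (E'.symm' e2) eb) (iff_of_true mc mb)) hcb

theorem triv (hs : ¬ Sm H) (h5 : 5 ≤ B.ncard) (hB : Full H B) {d : Perm Ω} (hd : d ∈ H) (h : Sp B d) : d = 1 :=
  by_contra fun h1 => hs (sm_of_norm h5 (fun s hs _ p hp hp' => by
    obtain ⟨k, hk, pk, ek⟩ := lift hB hs
    have h2 : s * p * s⁻¹ = k * p * k⁻¹ := (hp'.conj hs.pv).ext (hp'.conj pk) fun x hx => by
      have h3 := (hs.pv.inv x).2 hx
      have h4 : k⁻¹ x = s⁻¹ x := by rw [Perm.inv_eq_iff_eq, ek _ h3, ← Perm.mul_apply, mul_inv_cancel, Perm.one_apply]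
      rw [Perm.mul_apply, Perm.mul_apply, Perm.mul_apply, Perm.mul_apply, h4, ek _ ((hp'.pv _).2 h3)]
    exact h2 ▸ mul_mem (mul_mem hk hp) (inv_mem hk)) hd h h1)

theorem six (h12 : Fintype.card Ω = 12) (h6 : Bᶜ.ncard = 6) {d c : Perm Ω} (h3 : d ^ 3 = 1) (hc : c.IsThreeCycle)
    (e : ∀ a ∈ B, d a = c a) {a : Ω} (ha : a ∉ B) (h : d a = a) : d.support.card ≤ 6 := by
  classical
  have : Fact (Nat.Prime 3) := ⟨Nat.prime_three⟩
  have h1 := card_compl_support_modEq (p := 3) (n := 1) (σ := d) h3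
  have h2 := Finset.card_compl d.support
  have h4 := Finset.card_le_univ d.support
  have h5 : d.support ⊆ c.support ∪ (Bᶜ.toFinset.erase a) := fun x hx => by
    rw [mem_support] at hx
    by_cases h7 : x ∈ B
    · exact Finset.mem_union_left _ (mem_support.2 (e x h7 ▸ hx))
    · exact Finset.mem_union_right _ (Finset.mem_erase.2 ⟨fun h8 => hx (h8 ▸ h), Set.mem_toFinset.2 h7⟩)
  have h7 := (Finset.card_le_card h5).trans (Finset.card_union_le _ _)
  rw [hc.card_support, Finset.card_erase_of_mem (Set.mem_toFinset.2 ha), ← Set.ncard_eq_toFinset_card', h6] at h7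
  rw [Nat.ModEq, h2, h12] at h1
  omega

end I8

open I8 in
/-- **two classes** -/
theorem boxI8_of (N8c : BoxN8c) (N8b : BoxN8b) (D : BoxDiag) (P4 : BoxP4) (X12 : BoxX12) (S6 : BoxS6) : BoxI8 := by
  intro Ω _ _ X H B s ht hs hc h4 hn hf hB hB'
  have h1 := np_le s ht hc (by omega) (Set.nonempty_of_ncard_ne_zero (by omega)) hf hB
  have h2 := ncard_Ov X H
  have h3 := Set.ncard_add_ncard_compl B
  rw [Nat.card_eq_fintype_card] at h3
  suffices (Pr X H).ncard ≤ 9 by omega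
  by_cases h5 : B.ncard = 4
  · obtain ⟨k1, k2⟩ := (N8c Ω X H B s (by omega) h5 hf).resolve_left hs
    exact N8b Ω X H B s (by omega) h5 hf k1 k2
  have t1 : ∀ d ∈ H, (∀ a ∈ B, d a = a) → d = 1 := fun d hd h =>
    triv hs (by omega) hB' hd fun x hx => h x (not_not.1 hx)
  have k0 : (∀ M ∈ Pr X H, alternatingGroup Ω ≤ M) → (Pr X H).ncard ≤ 9 := fun h => by
    rw [Set.eq_empty_of_forall_notMem fun M hM => s.not_alt_le hM.1 (h M hM), Set.ncard_empty]
    omega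
  by_cases h6 : B.ncard = 6
  swap
  · obtain ⟨τ, k1, k2⟩ := D Ω H B (by omega) h6 hn hB hB' t1 fun d hd h => triv hs (by omega) hB hd h
    exact k0 fun M hM => P4 Ω M τ (by omega) k1 (fun a b c h1 h2 h3 h4 h5 h6 =>
      (k2 a b c h1 h2 h3 h4 h5 h6).imp fun r hr => ⟨hM.1.2 hr.1, hr.2⟩) hM.2
  by_cases h7 : ∀ d ∈ H, ∀ c : Perm Ω, c.IsThreeCycle → (∀ a, a ∉ B → c a = a) → (∀ a ∈ B, d a = c a) →
      ∀ a, a ∉ B → d a ≠ a
  · exact X12 Ω X H B s (by omega) h6 ht hf hB h7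
  simp only [not_forall, not_not] at h7
  obtain ⟨d, hd, c, hc3, sc, e, a, ha, h8⟩ := h7
  have pc := Sp.pv sc
  have h9 : d ^ 3 = 1 := t1 _ (pow_mem hd 3) fun x hx => by
    have k := congrArg (fun f : Perm Ω => f x) (hc3.orderOf ▸ pow_orderOf_eq_one c)
    simp only [pow_three, Perm.mul_apply, Perm.one_apply] at k ⊢
    rw [e x hx, e _ ((pc x).2 hx), e _ ((pc _).2 ((pc x).2 hx)), k]
  refine k0 fun M hM => S6 Ω M d (by omega) (hM.1.2 hd) h9 (fun h => hc3.ne_one ?_)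
    (six (by omega) (by omega) h9 hc3 e ha h8) hM.2
  exact Sp.ext sc Sp.one fun x hx => by rw [← e x hx, h]

end Cfsg.Agent.SM.NP
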