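import Cfsg.Agent.SM.NP.Young

/-!
# SM (S3570), `H` intransitive: the reduction to Young subgroups and to two orbits (helper31)
-/

set_option autoImplicit false
set_option linter.unusedSectionVars false
set_option linter.unusedVariables false
set_option maxHeartbeats 400000

namespace Cfsg.Agent.SM.NP

open Equiv Equiv.Perm Subgroup MulAction

namespace Yg

variable {Ω : Type} [Fintype Ω] [DecidableEq Ω] {X H M : Subgroup (Perm Ω)}

theorem Sw_compl (X : Subgroup (Perm Ω)) (A : Set Ω) : Sw X Aᶜ = Sw X A :=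
  Subgroup.ext fun g => and_congr_right fun _ => forall_congr' fun a => not_iff_not

/-- two points other than `b` on the same side of `A` -/
theorem exists_pair (h5 : 5 ≤ Fintype.card Ω) (A : Set Ω) (b : Ω) :
    ∃ p q, p ≠ q ∧ b ≠ p ∧ b ≠ q ∧ (p ∈ A ↔ q ∈ A) := by
  classical
  obtain ⟨p, hp, q, hq, hpq, e⟩ := Finset.exists_ne_map_eq_of_card_lt_of_maps_to
    (s := (Finset.univ : Finset Ω).erase b) (t := (Finset.univ : Finset Bool))
    (by rw [Finset.card_erase_of_mem (Finset.mem_univ _)]; simp; omega) (f := fun x => decide (x ∈ A))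
    (fun _ _ => Finset.mem_univ _)
  exact ⟨p, q, hpq, (Finset.ne_of_mem_erase hp).symm, (Finset.ne_of_mem_erase hq).symm, decide_eq_decide.1 e⟩

/-- the partition `{A, Aᶜ}` -/
def side (A : Set Ω) : Setoid Ω where
  r x y := x ∈ A ↔ y ∈ A
  iseqv := ⟨fun _ => Iff.rfl, Iff.symm, Iff.trans⟩

theorem side_iff {A : Set Ω} {x y : Ω} : side A x y ↔ (x ∈ A ↔ y ∈ A) := Iff.rfl

/-- the stabiliser of a half is not maximal -/
theorem not_half (s : Sec X H) {A : Set Ω} (h : A.ncard = Aᶜ.ncard) {a b : Ω} (ha : a ∈ A) (hb : b ∉ A)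
    (hlt : H < Sw X A) : False := by
  classical
  obtain ⟨e⟩ : Nonempty ({x // x ∈ A} ≃ {x // x ∈ Aᶜ}) := Finite.card_eq.1 h
  obtain ⟨p, q, hpq, -, -, k⟩ := exists_pair s.five A a
  obtain ⟨g, hg, hA⟩ : ∃ g ∈ alternatingGroup Ω, ∀ x, g x ∈ A ↔ x ∉ A := by
    have h1 : ∀ x, e.extendSubtype x ∈ A ↔ x ∉ A := fun x =>
      ⟨fun h1 h2 => e.extendSubtype_mem x h2 h1, fun h1 => not_not.1 (e.extendSubtype_not_mem x h1)⟩
    rcases Int.units_eq_one_or (sign e.extendSubtype) with h2 | h2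
    · exact ⟨_, mem_alternatingGroup.2 h2, h1⟩
    · refine ⟨e.extendSubtype * swap p q, ?_, fun x => (h1 _).trans (not_congr (swap_mem k x))⟩
      rw [mem_alternatingGroup, map_mul, h2, sign_swap hpq]
      rfl
  have hS : Sys (Sw X A) (side A) :=
    ⟨fun g hg x y h => (hg.2 x).trans (Iff.trans h (hg.2 y).symm), ⟨p, q, hpq, k⟩, ⟨a, b, fun h => hb (h.1 ha)⟩⟩
  refine nochain s hlt (SetLike.lt_iff_le_and_exists.2 ⟨hS.le_St (Sw_le X A), g, mem_St.2 ⟨s.alt hg, fun x y => ?_⟩,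
    fun h1 => ?_⟩) (hS.St_lt s)
  · rw [side_iff, side_iff, hA, hA]
    exact not_iff_not
  · exact (hA a).1 ((h1.2 a).2 ha) ha

theorem two_le (h2 : BoxTwoNp) (t1 : BoxTwo1) (t2 : BoxTwo2) (t3 : BoxTwo3) (s : Sec X H) {A : Set Ω}
    (t : Two X H A) : (Ov X H).ncard ≤ 11 := by
  have h1 := ncard_Ov X H
  have h3 := h2 Ω X H A s t
  have h4 := (Set.ncard_pos (Set.toFinite A)).2 t.ne
  have h5 : (Pr X H).ncard ≤ 9 := by
    rcases (by omega : A.ncard = 1 ∨ A.ncard = 2 ∨ 3 ≤ A.ncard) with h | h | h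
    · exact t1 Ω X H A s t h
    · exact t2 Ω X H A s t h
    · exact t3 Ω X H A s t h
  omega

theorem exists_col (X : Subgroup (Perm Ω)) {A B : Set Ω} (hAB : ∀ x ∈ A, x ∉ B) :
    ∃ f : Ω → Fin 3, ∀ g, g ∈ Sw X A ⊓ Sw X B ↔ g ∈ X ∧ ∀ x, f (g x) = f x := by
  classical
  refine ⟨fun x => if x ∈ A then 0 else if x ∈ B then 1 else 2, fun g =>
    ⟨fun hg => ⟨hg.1.1, fun x => ?_⟩, fun hg => ⟨⟨hg.1, fun x => ?_⟩, hg.1, fun x => ?_⟩⟩⟩
  · simp only [hg.1.2 x, hg.2.2 x]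
  · have h1 := hg.2 x
    by_cases k1 : g x ∈ A <;> by_cases k2 : x ∈ A <;> by_cases k3 : g x ∈ B <;> by_cases k4 : x ∈ B <;>
      simp_all
  · have h1 := hg.2 x
    have h3 := hAB x
    have h4 := hAB (g x)
    by_cases k1 : g x ∈ A <;> by_cases k2 : x ∈ A <;> by_cases k3 : g x ∈ B <;> by_cases k4 : x ∈ B <;>
      simp_all

end Yg

open Yg in
theorem boxIn_of (hY : BoxYoung) (h2 : BoxTwoNp) (t1 : BoxTwo1) (t2 : BoxTwo2) (t3 : BoxTwo3) : BoxIn :=
    fun Ω _ _ X H s ht => by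
  classical
  obtain ⟨a, b, hab⟩ : ∃ a b, ¬ orb H a b := by
    simp only [Tr, not_forall] at ht
    exact ht
  let A : Set Ω := {x | orb H a x}
  let B : Set Ω := {x | orb H b x}
  have ha : a ∈ A := (orb H).refl' a
  have hb : b ∈ B := (orb H).refl' b
  have hAB : ∀ x ∈ A, x ∉ B := fun x h1 h2 => hab ((orb H).trans' h1 ((orb H).symm' h2))
  have hbA : b ∉ A := hab
  have inv : ∀ c, H ≤ Sw X {x | orb H c x} := fun c g hg => ⟨s.lt.le hg, fun x =>
    ⟨fun h => (orb H).trans' h ((orb H).symm' ⟨g, hg, rfl⟩), fun h => (orb H).trans' h ⟨g, hg, rfl⟩⟩⟩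
  have hle : H ≤ Sw X A ⊓ Sw X B := le_inf (inv a) (inv b)
  rcases hle.eq_or_lt with e | hlt
  · obtain ⟨f, hf⟩ := exists_col X hAB
    exact hY Ω X H f s fun g => (SetLike.ext_iff.1 e g).trans (hf g)
  have hX := Sw_lt s ha hbA
  have hB : ∀ c, c ∉ A → c ∈ B := fun c hc => by
    by_contra hc'
    obtain ⟨p, q, hpq, n1, n2, k⟩ := exists_pair s.five A b
    have n3 : b ≠ c := fun e => hc' (e ▸ hb)
    refine nochain s hlt (SetLike.lt_iff_le_and_exists.2 ⟨inf_le_left, _,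
      mem_Sw_swaps s n3 hpq (iff_of_false hbA hc) k, fun h => ?_⟩) hX
    have h1 := (h.2.2 b).2 hb
    rw [mul_apply, swap_apply_of_ne_of_ne n1 n2, swap_apply_left] at h1
    exact hc' h1
  have hlt' : H < Sw X A := hlt.trans_le inf_le_left
  have hov := s.mem_ov hlt' hX
  have trA : ∀ x ∈ A, ∀ y ∈ A, ∃ g ∈ H, g x = y := fun x hx y hy => (orb H).trans' ((orb H).symm' hx) hy
  have trB : ∀ x, x ∉ A → ∀ y, y ∉ A → ∃ g ∈ H, g x = y := fun x hx y hy =>
    (orb H).trans' ((orb H).symm' (hB x hx)) (hB y hy)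
  rcases lt_trichotomy A.ncard Aᶜ.ncard with h | h | h
  · exact two_le h2 t1 t2 t3 s ⟨hov, ⟨a, ha⟩, h, trA, trB⟩
  · exact (not_half s h ha hbA hlt').elim
  · refine two_le h2 t1 t2 t3 s (A := Aᶜ) ⟨(Sw_compl X A).symm ▸ hov, ⟨b, hbA⟩, by rwa [compl_compl], trB,
      fun x hx y hy => trA x (not_not.1 hx) y (not_not.1 hy)⟩

/-- with the two boxes of `Young.lean` -/
theorem boxIn_of' (t1 : BoxTwo1) (t2 : BoxTwo2) (t3 : BoxTwo3) : BoxIn := boxIn_of boxYoung boxTwoNp t1 t2 t3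

end Cfsg.Agent.SM.NP
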