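import Cfsg.Agent.SM.NP.Defs

/-!
# SM (S3570), `BoxJ2`: a Jordan set of half of the points (helper40)
-/

set_option autoImplicit false
set_option linter.unusedSectionVars false
set_option linter.unusedVariables false

namespace Cfsg.Agent.SM.NP

open Equiv Equiv.Perm Subgroup MulAction

variable {Ω : Type} [Fintype Ω] [DecidableEq Ω]

namespace J2

theorem ai (g : Perm Ω) (z : Ω) : g (g⁻¹ z) = z := g.apply_symm_apply z

theorem ia (g : Perm Ω) (z : Ω) : g⁻¹ (g z) = z := g.symm_apply_apply z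

/-- a permutation supported on `G` preserves `G` -/
theorem mem_iff {G : Set Ω} {y : Perm Ω} (hy : ∀ x, x ∉ G → y x = x) (x : Ω) : y x ∈ G ↔ x ∈ G := by
  constructor
  · intro h
    by_contra hx
    exact hx (hy x hx ▸ h)
  · intro h
    by_contra hx
    have := y.injective (hy _ hx)
    exact hx (this.symm ▸ h)

theorem inv_fix {G : Set Ω} {y : Perm Ω} (hy : ∀ x, x ∉ G → y x = x) (x : Ω) (hx : x ∉ G) : y⁻¹ x = x := by
  rw [Perm.inv_eq_iff_eq, hy x hx]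

/-- the commutator of two permutations whose supports meet in one point is a 3-cycle -/
theorem three_of_comm {B C : Set Ω} {x y : Perm Ω} {u : Ω} (hx : ∀ z, z ∉ C → x z = z) (hy : ∀ z, z ∉ B → y z = z)
    (hu : ∀ z, z ∈ B → z ∈ C → z = u) (hxu : x u ≠ u) (hyu : y u ≠ u) : (x * y * x⁻¹ * y⁻¹).IsThreeCycle := by
  have uC : u ∈ C := by
    by_contra h
    exact hxu (hx u h)
  have uB : u ∈ B := by
    by_contra h
    exact hyu (hy u h)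
  have hx' := inv_fix hx
  have hy' := inv_fix hy
  have vB : x u ∉ B := fun h => hxu (hu _ h ((mem_iff hx u).2 uC))
  have wC : y u ∉ C := fun h => hyu (hu _ ((mem_iff hy u).2 uB) h)
  have hvw : y u ≠ x u := fun h => vB (h ▸ (mem_iff hy u).2 uB)
  have e : x * y * x⁻¹ * y⁻¹ = swap u (y u) * swap u (x u) := by
    ext z
    simp only [Perm.mul_apply]
    by_cases h1 : z = u
    · subst h1
      have h2 : y⁻¹ z ∉ C := fun h => hyu (by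
        have h3 := hu _ ((mem_iff hy' z).2 uB) h
        rw [Perm.inv_eq_iff_eq] at h3
        exact h3.symm)
      rw [hx' _ h2, ai, swap_apply_left, swap_apply_of_ne_of_ne hxu hvw.symm]
    by_cases h2 : z = x u
    · subst h2
      rw [hy' _ vB, ia, hx _ wC, swap_apply_right, swap_apply_left]
    by_cases h3 : z = y u
    · subst h3
      have h4 : x⁻¹ u ∉ B := fun h => hxu (by
        have h3 := hu _ h ((mem_iff hx' u).2 uC)
        rw [Perm.inv_eq_iff_eq] at h3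
        exact h3.symm)
      rw [ia, hy _ h4, ai, swap_apply_of_ne_of_ne h1 h2, swap_apply_right]
    rw [swap_apply_of_ne_of_ne h1 h2, swap_apply_of_ne_of_ne h1 h3]
    by_cases h4 : z ∈ B
    · have h5 : z ∉ C := fun h => h1 (hu z h4 h)
      have h6 : y⁻¹ z ∉ C := fun h => h3 (by
        have h7 := hu _ ((mem_iff hy' z).2 h4) h
        rwa [Perm.inv_eq_iff_eq] at h7)
      rw [hx' _ h6, ai, hx _ h5]
    · have h6 : x⁻¹ z ∉ B := fun h => by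
        by_cases h7 : x⁻¹ z ∈ C
        · have h8 := hu _ h h7
          rw [Perm.inv_eq_iff_eq] at h8
          exact h2 h8
        · have h8 := hx _ h7
          rw [ai] at h8
          exact h4 (h8 ▸ h)
      rw [hy' _ h4, hy _ h6, ai]
  rw [e]
  exact isThreeCycle_swap_mul_swap_same hyu.symm hxu.symm hvw

/-- the elements of `M` supported on `G` are transitive on `G` -/
def Jt (M : Subgroup (Perm Ω)) (G : Set Ω) : Prop := ∀ a ∈ G, ∀ b ∈ G, ∃ g ∈ M, g a = b ∧ ∀ x, x ∉ G → g x = x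

theorem Jt.pre {M : Subgroup (Perm Ω)} {B : Set Ω} (h : Jt M B) {g : Perm Ω} (hg : g ∈ M) : Jt M (g ⁻¹' B) := by
  intro a ha b hb
  obtain ⟨j, hj, e, hf⟩ := h _ ha _ hb
  refine ⟨g⁻¹ * j * g, M.mul_mem (M.mul_mem (M.inv_mem hg) hj) hg, by simp [e], fun x hx => ?_⟩
  simp [hf _ hx]

theorem ncard_pre (g : Perm Ω) (B : Set Ω) : (g ⁻¹' B).ncard = B.ncard :=
  Set.ncard_preimage_of_injective_subset_range g.injective (by rw [g.surjective.range_eq]; exact Set.subset_univ _)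

/-- the difference of two closest translates is a block -/
theorem block {M : Subgroup (Perm Ω)} {B G : Set Ω} {g y : Perm Ω} {d : ℕ}
    (hd : ∀ g ∈ M, ∀ k ∈ M, g ⁻¹' B ≠ k ⁻¹' B → d ≤ (g ⁻¹' B \ k ⁻¹' B).ncard) (hg : g ∈ M)
    (hD : (G \ g ⁻¹' B).ncard = d) (hy : y ∈ M) (hf : ∀ x, x ∉ G → y x = x) :
    (∀ x, y x ∈ G \ g ⁻¹' B ↔ x ∈ G \ g ⁻¹' B) ∨ ∀ x ∈ G \ g ⁻¹' B, y x ∉ G \ g ⁻¹' B := by
  by_cases h : (g * y : Perm Ω) ⁻¹' B = g ⁻¹' B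
  · left
    intro x
    have h1 : g (y x) ∈ B ↔ g x ∈ B := Set.ext_iff.1 h x
    simp only [Set.mem_diff, Set.mem_preimage, mem_iff hf, h1]
  · right
    have h1 := hd _ (M.mul_mem hg hy) _ hg h
    have h2 : (g * y : Perm Ω) ⁻¹' B \ g ⁻¹' B ⊆ G \ g ⁻¹' B := fun x hx => ⟨by
      by_contra h3
      have h4 : g (y x) ∈ B := hx.1
      rw [hf x h3] at h4
      exact hx.2 h4, hx.2⟩
    have h3 := Set.eq_of_subset_of_ncard_le h2 (hD ▸ h1) (Set.toFinite _)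
    intro x hx h4
    rw [← h3] at hx
    exact h4.2 hx.1

/-- the parity of the restriction to `B` -/
theorem exists_eps {M : Subgroup (Perm Ω)} {B : Set Ω}
    (hE : ∀ g ∈ M, ∀ σ : Perm Ω, sign σ = 1 → (∀ x ∈ B, σ x = g x) → (∀ x, x ∉ B → σ x = x) → σ ∈ M) :
    ∃ ε : Sw M B →* ℤˣ, ∀ g : Sw M B, ε g = 1 → ∃ j ∈ M, (∀ x, x ∉ B → j x = x) ∧ ∀ x ∈ B, j x = g.1 x := by
  classical
  refine ⟨MonoidHom.mk' (fun g => sign (g.1.subtypePerm (p := (· ∈ B)) g.2.2)) fun g k => ?_, fun g hg => ?_⟩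
  · rw [← map_mul]
    rfl
  · have h1 : ∀ x ∈ B, ofSubtype (g.1.subtypePerm (p := (· ∈ B)) g.2.2) x = g.1 x := fun x hx =>
      ofSubtype_subtypePerm_of_mem _ hx
    have h2 : ∀ x, x ∉ B → ofSubtype (g.1.subtypePerm (p := (· ∈ B)) g.2.2) x = x := fun x hx =>
      ofSubtype_apply_of_not_mem _ hx
    refine ⟨_, hE g.1 g.2.1 _ ?_ h1 h2, h2, h1⟩
    rw [sign_ofSubtype]
    exact hg

/-- the case of a block with at least two points -/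
theorem big {M : Subgroup (Perm Ω)} {B C D : Set Ω} (hJ : Jt M B)
    (hP : ∀ E : Setoid Ω, (∀ g ∈ M, (∀ x, g x ∈ B ↔ x ∈ B) → ∀ a ∈ B, ∀ b ∈ B, E a b → E (g a) (g b)) →
      (∀ a ∈ B, ∀ b ∈ B, E a b) ∨ ∀ a ∈ B, ∀ b ∈ B, E a b → a = b)
    (hE : ∀ g ∈ M, ∀ σ : Perm Ω, sign σ = 1 → (∀ x ∈ B, σ x = g x) → (∀ x, x ∉ B → σ x = x) → σ ∈ M)
    (hD : ∀ z, z ∈ D ↔ z ∈ B ∧ z ∈ C)
    (hb : ∀ y ∈ M, (∀ x, x ∉ B → y x = x) → (∀ x, y x ∈ D ↔ x ∈ D) ∨ ∀ x ∈ D, y x ∉ D)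
    {x : Perm Ω} (hxM : x ∈ M) (hx : ∀ z, z ∉ C → x z = z) (hxD : ∀ z, x z ∈ D ↔ z ∈ D) {u v₀ : Ω} (uD : u ∈ D)
    (hxu : x u ≠ u) (hv₀ : v₀ ∈ B) (hv₀' : v₀ ∉ D) : False := by
  classical
  have DB : ∀ z ∈ D, z ∈ B := fun z hz => ((hD z).1 hz).1
  have uB := DB u uD
  have u'D : x u ∈ D := (hxD u).2 uD
  have u'B := DB _ u'D
  let r : Setoid Ω := ⟨fun a b => ∀ j ∈ M, (∀ x, x ∉ B → j x = x) → (j a ∈ D ↔ j b ∈ D), fun _ _ _ _ => Iff.rfl,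
    fun h j hj hf => (h j hj hf).symm, fun h h' j hj hf => (h j hj hf).trans (h' j hj hf)⟩
  have r1 : ∀ a b, r a b → (a ∈ D ↔ b ∈ D) := fun a b h => h 1 M.one_mem fun _ _ => rfl
  have rD : ∀ a ∈ D, ∀ b ∈ D, r a b := fun a ha b hb' j hj hf => by
    rcases hb j hj hf with h | h
    · exact iff_of_true ((h a).2 ha) ((h b).2 hb')
    · exact iff_of_false (h a ha) (h b hb')
  have rJ0 : ∀ j ∈ M, (∀ x, x ∉ B → j x = x) → ∀ a b, r a b → r (j a) (j b) := fun j hj hf a b h k hk hkf =>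
    h (k * j) (M.mul_mem hk hj) fun z hz => by rw [Perm.mul_apply, hf z hz, hkf z hz]
  have rJ : ∀ j ∈ M, (∀ x, x ∉ B → j x = x) → ∀ a b, r (j a) (j b) ↔ r a b := fun j hj hf a b =>
    ⟨fun h => by simpa using rJ0 j⁻¹ (M.inv_mem hj) (inv_fix hf) _ _ h, rJ0 j hj hf a b⟩
  obtain ⟨ε, hε⟩ := exists_eps hE
  have key1 : ∀ g : Sw M B, ε g = 1 → ∀ a ∈ B, ∀ b ∈ B, r (g.1 a) (g.1 b) ↔ r a b := fun g hg a ha b hb' => by
    obtain ⟨j, hj, hf, he⟩ := hε g hg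
    rw [← he a ha, ← he b hb']
    exact rJ j hj hf a b
  have key : ∀ g k : Sw M B, ε g = ε k → ∀ a ∈ B, ∀ b ∈ B, r (g.1 a) (g.1 b) ↔ r (k.1 a) (k.1 b) :=
    fun g k hg a ha b hb' => by
      have := key1 (g * k⁻¹) (by rw [map_mul, map_inv, hg, mul_inv_cancel]) _ ((k.2.2 a).2 ha) _ ((k.2.2 b).2 hb')
      simpa using this
  obtain ⟨q, hq⟩ : ∃ q : Sw M B, ε q ≠ 1 := by
    by_contra hc
    push Not at hc
    rcases hP r (fun g hg hB a ha b hb' h => (key1 ⟨g, hg, hB⟩ (hc _) a ha b hb').2 h) with h | h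
    · exact hv₀' ((r1 _ _ (h u uB v₀ hv₀)).1 uD)
    · exact hxu (h _ u'B _ uB (rD _ u'D _ uD))
  have qB : ∀ a ∈ B, q.1 a ∈ B := fun a ha => (q.2.2 a).2 ha
  have sw : ∀ g ∈ M, (∀ x, g x ∈ B ↔ x ∈ B) →
      (∀ a ∈ B, ∀ b ∈ B, (r (g a) (g b) ↔ r a b) ∧ (r (q.1 (g a)) (q.1 (g b)) ↔ r (q.1 a) (q.1 b))) ∨
      ∀ a ∈ B, ∀ b ∈ B, (r (g a) (g b) ↔ r (q.1 a) (q.1 b)) ∧ (r (q.1 (g a)) (q.1 (g b)) ↔ r a b) := by
    intro g hg hB
    have hq' : ε q = -1 := (Int.units_eq_one_or _).resolve_left hq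
    obtain ⟨G, rfl⟩ : ∃ G : Sw M B, G.1 = g := ⟨⟨g, hg, hB⟩, rfl⟩
    rcases Int.units_eq_one_or (ε G) with h | h
    · have h1 := key (q * G) q (by rw [map_mul, h, mul_one])
      exact Or.inl fun a ha b hb' => ⟨key1 G h a ha b hb', h1 a ha b hb'⟩
    · have h1 := key1 (q * G) (by rw [map_mul, h, hq']; rfl)
      exact Or.inr fun a ha b hb' => ⟨key G q (h.trans hq'.symm) a ha b hb', h1 a ha b hb'⟩
  have meet : ∀ a ∈ B, ∀ b ∈ B, r a b → r (q.1 a) (q.1 b) → a = b := by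
    rcases hP ⟨fun a b => r a b ∧ r (q.1 a) (q.1 b), fun a => ⟨r.refl' _, r.refl' _⟩,
      fun h => ⟨r.symm' h.1, r.symm' h.2⟩, fun h h' => ⟨r.trans' h.1 h'.1, r.trans' h.2 h'.2⟩⟩
      (fun g hg hB a ha b hb' h => by
        rcases sw g hg hB with h1 | h1
        · exact ⟨(h1 a ha b hb').1.2 h.1, (h1 a ha b hb').2.2 h.2⟩
        · exact ⟨(h1 a ha b hb').1.2 h.2, (h1 a ha b hb').2.2 h.1⟩) with h | h
    · exact absurd ((r1 _ _ (h u uB v₀ hv₀).1).1 uD) hv₀'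
    · exact fun a ha b hb' h1 h2 => h a ha b hb' ⟨h1, h2⟩
  obtain ⟨e, eB, eD, he⟩ : ∃ e ∈ B, e ∉ D ∧ r (q.1 u) (q.1 e) := by
    obtain ⟨j, hj, hju, hf⟩ := hJ u uB _ (qB u uB)
    have h1 : q.1⁻¹ (j (x u)) ∈ B := (q.2.2 _).1 (by simpa using (mem_iff hf _).2 u'B)
    have h2 : r (q.1 u) (q.1 (q.1⁻¹ (j (x u)))) := by
      rw [ai, ← hju]
      exact rJ0 j hj hf _ _ (rD _ uD _ u'D)
    refine ⟨_, h1, fun h => hxu ?_, h2⟩
    have h3 := meet _ uB _ h1 (rD _ uD _ h) h2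
    rw [Perm.eq_inv_iff_eq, ← hju] at h3
    exact (j.injective h3).symm
  have two : ∀ v ∈ B, v ∉ D → r v e := by
    intro v hv hvD
    obtain ⟨y, hy, hyu, hf⟩ := hJ u uB v hv
    have hf' := inv_fix hf
    have hx' := inv_fix hx
    have h1 : ∀ z ∈ D, y z ∉ D := (hb y hy hf).resolve_left fun h => hvD (hyu ▸ (h u).2 uD)
    have nC : ∀ z ∈ B, z ∉ D → z ∉ C := fun z hz h2 h3 => h2 ((hD z).2 ⟨hz, h3⟩)
    by_cases h2 : y⁻¹ e ∈ D
    · have h3 := rJ0 y hy hf _ _ (rD _ uD _ h2)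
      rwa [hyu, ai] at h3
    exfalso
    have aM : x * y * x⁻¹ * y⁻¹ ∈ M := M.mul_mem (M.mul_mem (M.mul_mem hxM hy) (M.inv_mem hxM)) (M.inv_mem hy)
    have au : (x * y * x⁻¹ * y⁻¹) u = x u := by
      have h3 : y⁻¹ u ∉ D := fun h => h1 _ h (by simpa using uD)
      simp only [Perm.mul_apply]
      rw [hx' _ (nC _ ((mem_iff hf' u).2 uB) h3), ai]
    have ae : (x * y * x⁻¹ * y⁻¹) e = e := by
      simp only [Perm.mul_apply]
      rw [hx' _ (nC _ ((mem_iff hf' e).2 eB) h2), ai, hx _ (nC e eB eD)]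
    have af : ∀ z, z ∉ B → (x * y * x⁻¹ * y⁻¹) z = z := fun z hz => by
      have h3 : x⁻¹ z ∉ B := fun h => by
        by_cases h4 : x⁻¹ z ∈ D
        · exact hz (DB z (by simpa using (hxD _).2 h4))
        · have h5 := hx _ (nC _ h h4)
          rw [ai] at h5
          exact hz (h5 ▸ h)
      simp only [Perm.mul_apply]
      rw [hf' z hz, hf _ h3, ai]
    have h4 := rJ0 (q.1 * (x * y * x⁻¹ * y⁻¹) * q.1⁻¹) (M.mul_mem (M.mul_mem q.2.1 aM) (M.inv_mem q.2.1))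
      (fun z hz => by
        rw [Perm.mul_apply, Perm.mul_apply, af, ai]
        exact fun h => hz (by simpa using qB _ h)) _ _ he
    rw [Perm.mul_apply, Perm.mul_apply, ia, au, Perm.mul_apply _ q.1⁻¹, ia,
      Perm.mul_apply q.1, ae] at h4
    exact hxu (meet _ u'B _ uB (rD _ u'D _ uD) (r.trans' h4 (r.symm' he)))
  have rB : ∀ a ∈ B, ∀ b ∈ B, r a b ↔ (a ∈ D ↔ b ∈ D) := fun a ha b hb' => ⟨r1 a b, fun h => by
    by_cases h1 : a ∈ D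
    · exact rD a h1 b (h.1 h1)
    · exact r.trans' (two a ha h1) (r.symm' (two b hb' fun h2 => h1 (h.2 h2)))⟩
  have E3 : ∀ a ∈ B, ∀ b ∈ B, ((a ∈ D ↔ q.1 a ∈ D) ↔ (b ∈ D ↔ q.1 b ∈ D)) ↔ (r a b ↔ r (q.1 a) (q.1 b)) :=
    fun a ha b hb' => by
      rw [rB a ha b hb', rB _ (qB a ha) _ (qB b hb')]
      tauto
  rcases hP ⟨fun a b => (a ∈ D ↔ q.1 a ∈ D) ↔ (b ∈ D ↔ q.1 b ∈ D), fun _ => Iff.rfl, Iff.symm, Iff.trans⟩
    (fun g hg hB a ha b hb' h => by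
      have h1 := (E3 a ha b hb').1 h
      refine (E3 _ ((hB a).2 ha) _ ((hB b).2 hb')).2 ?_
      rcases sw g hg hB with h2 | h2
      · rw [(h2 a ha b hb').1, (h2 a ha b hb').2]
        exact h1
      · rw [(h2 a ha b hb').1, (h2 a ha b hb').2]
        exact h1.symm) with h | h
  · exact hxu (meet _ u'B _ uB (rD _ u'D _ uD) (((E3 _ u'B _ uB).1 (h _ u'B _ uB)).1 (rD _ u'D _ uD)))
  · have h1 : ¬ ((x u ∈ D ↔ q.1 (x u) ∈ D) ↔ (u ∈ D ↔ q.1 u ∈ D)) := fun h1 => hxu (h _ u'B _ uB h1)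
    have h2 : ¬ ((u ∈ D ↔ q.1 u ∈ D) ↔ (e ∈ D ↔ q.1 e ∈ D)) := fun h1 => eD (h _ uB _ eB h1 ▸ uD)
    have h3 : ¬ ((x u ∈ D ↔ q.1 (x u) ∈ D) ↔ (e ∈ D ↔ q.1 e ∈ D)) := fun h1 => eD (h _ u'B _ eB h1 ▸ u'D)
    tauto

end J2

open J2 in
theorem boxJ2 : BoxJ2 := by
  intro Ω _ _ M B h3 ⟨h, hM, hh⟩ hJ hP hE hp
  classical
  have hJ' : Jt M B := hJ
  have h2 : 1 < B.ncard := by omega
  obtain ⟨g₁, hg₁, a₁, ha₁, ha₁', hne₁⟩ : ∃ g ∈ M, ∃ a ∈ B, g a ∈ B ∧ g ⁻¹' B ≠ B := by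
    by_contra hc
    push Not at hc
    have hB : IsBlock M B := by
      rw [isBlock_iff_smul_eq_of_mem]
      intro g a ha hga
      ext z
      rw [Set.mem_smul_set_iff_inv_smul_mem]
      have h1 := Set.ext_iff.1 (hc g.1 g.2 a ha hga) (g.1⁻¹ z)
      simp only [Set.mem_preimage, ai] at h1
      exact h1.symm
    obtain ⟨a, ha, b, hb, hab⟩ := (Set.one_lt_ncard (Set.toFinite B)).1 h2
    rcases hB.subsingleton_or_eq_univ with h1 | h1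
    · exact hab (h1 ha hb)
    · exact (hh a).1 (h1 ▸ Set.mem_univ _) ha
  obtain ⟨g, ⟨hg, hne⟩, hmin⟩ : ∃ g : Perm Ω, (g ∈ M ∧ g ⁻¹' B ≠ B) ∧ ∀ k : Perm Ω, (k ∈ M ∧ k ⁻¹' B ≠ B) →
      (B \ g ⁻¹' B).ncard ≤ (B \ k ⁻¹' B).ncard := by
    obtain ⟨g, h1, h4⟩ := (Finset.univ.filter fun g : Perm Ω => g ∈ M ∧ g ⁻¹' B ≠ B).exists_min_image
      (fun g => (B \ g ⁻¹' B).ncard) ⟨g₁, Finset.mem_filter.2 ⟨Finset.mem_univ _, hg₁, hne₁⟩⟩
    exact ⟨g, (Finset.mem_filter.1 h1).2, fun k hk => h4 k (Finset.mem_filter.2 ⟨Finset.mem_univ _, hk⟩)⟩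
  have hd : ∀ k ∈ M, ∀ l ∈ M, k ⁻¹' B ≠ l ⁻¹' B → (B \ g ⁻¹' B).ncard ≤ (k ⁻¹' B \ l ⁻¹' B).ncard := by
    intro k hk l hl hkl
    have h1 := hmin (l * k⁻¹) ⟨M.mul_mem hl (M.inv_mem hk), fun e => hkl (by
      ext z
      have := Set.ext_iff.1 e (k z)
      simpa using this.symm)⟩
    refine h1.trans (le_of_eq ?_)
    rw [← ncard_pre k]
    congr 1
    ext z
    simp
  obtain ⟨u, uD⟩ : (B \ g ⁻¹' B).Nonempty := by
    rw [Set.nonempty_iff_ne_empty, Ne, Set.diff_eq_empty]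
    exact fun h1 => hne (Set.eq_of_subset_of_ncard_le h1 (ncard_pre g B).le (Set.toFinite _)).symm
  obtain ⟨v₀, hv₀, hv₀'⟩ : ∃ v ∈ B, v ∉ B \ g ⁻¹' B := by
    by_contra hc
    push Not at hc
    have h1 : B \ g ⁻¹' B = B := Set.Subset.antisymm Set.diff_subset hc
    have h4 := hmin g₁ ⟨hg₁, hne₁⟩
    have h5 : (B \ g₁ ⁻¹' B).ncard < B.ncard :=
      Set.ncard_lt_ncard ⟨Set.diff_subset, fun h6 => (h6 ha₁).2 ha₁'⟩ (Set.toFinite _)
    simp only [h1] at h4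
    omega
  have hC : Jt M ((h * g : Perm Ω) ⁻¹' B) := hJ'.pre (M.mul_mem hM hg)
  have hD : ∀ z, z ∈ B \ g ⁻¹' B ↔ z ∈ B ∧ z ∈ (h * g : Perm Ω) ⁻¹' B := fun z => by
    simp only [Set.mem_diff, Set.mem_preimage, Perm.mul_apply, hh]
  have uC := ((hD u).1 uD).2
  by_cases h1 : ∃ u' ∈ B \ g ⁻¹' B, u' ≠ u
  · exfalso
    obtain ⟨u', u'D, hu'⟩ := h1
    obtain ⟨x, hxM, hxu, hx⟩ := hC u uC u' ((hD u').1 u'D).2
    have e : (h * g : Perm Ω) ⁻¹' B \ h ⁻¹' B = B \ g ⁻¹' B := by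
      ext z
      simp only [Set.mem_diff, Set.mem_preimage, Perm.mul_apply, hh]
      tauto
    have hxD := block hd hM (congrArg Set.ncard e) hxM hx
    rw [e] at hxD
    exact big hJ' hP hE hD (fun y hy hf => block hd hg rfl hy hf) hxM hx
      (hxD.resolve_right fun h4 => h4 u uD (hxu ▸ u'D)) uD (hxu ▸ hu') hv₀ hv₀'
  · push Not at h1
    obtain ⟨w, hw, hwu⟩ := Set.exists_ne_of_one_lt_ncard h2 u
    obtain ⟨v, hv, hvu⟩ := Set.exists_ne_of_one_lt_ncard ((ncard_pre (h * g) B).symm ▸ h2) u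
    obtain ⟨x, hxM, hxu, hx⟩ := hC u uC v hv
    obtain ⟨y, hyM, hyu, hy⟩ := hJ u uD.1 w hw
    exact Sm.alt_le ⟨_, M.mul_mem (M.mul_mem (M.mul_mem hxM hyM) (M.inv_mem hxM)) (M.inv_mem hyM),
      Or.inl (three_of_comm hx hy (fun z hz hz' => h1 z ((hD z).2 ⟨hz, hz'⟩)) (hxu ▸ hvu) (hyu ▸ hwu))⟩ hp

end Cfsg.Agent.SM.NP
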