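import Cfsg.Agent.SM.NP.Defs

/-!
# SM / NP: `BoxLink` (helper70)

Three doubly transitive actions of one group on the same set give three linked symmetric designs; two moment counts
exclude them for the parameters `(22, 7, 2)`, `(176, 50, 14)`, `(276, 100, 36)`.
-/

set_option autoImplicit false
set_option linter.unusedSectionVars false
set_option linter.unusedVariables false

namespace Cfsg.Agent.SM.NP

open Equiv Finset

namespace Lk

variable {G Ω : Type} [Group G] [Fintype Ω] [DecidableEq Ω]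

/-- transitive -/
def T1 (φ : G →* Perm Ω) : Prop := ∀ a b : Ω, ∃ g, φ g a = b

/-- doubly transitive -/
def T2 (φ : G →* Perm Ω) : Prop := ∀ a b c d : Ω, a ≠ b → c ≠ d → ∃ g, φ g a = c ∧ φ g b = d

/-- equivalent actions -/
def Eqv (φ ψ : G →* Perm Ω) : Prop := ∃ π : Perm Ω, ∀ g x, π (φ g x) = ψ g (π x)

/-- an invariant relation between the two actions -/
def Iv (φ ψ : G →* Perm Ω) (R : Ω → Finset Ω) : Prop := ∀ g x y, ψ g y ∈ R (φ g x) ↔ y ∈ R x

variable {φ ψ χ : G →* Perm Ω} {R : Ω → Finset Ω}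

theorem T2.t1 (h : T2 φ) : T1 φ := fun a b => by
  by_cases hab : a = b
  · exact ⟨1, by simp [hab]⟩
  · obtain ⟨g, h1, -⟩ := h a b b a hab (Ne.symm hab)
    exact ⟨g, h1⟩

theorem card_of_iff {A B : Finset Ω} (π : Perm Ω) (h : ∀ y, π y ∈ B ↔ y ∈ A) : A.card = B.card :=
  Finset.card_bij (fun y _ => π y) (fun y hy => (h y).2 hy) (fun _ _ _ _ e => π.injective e)
    fun b hb => ⟨π.symm b, (h _).1 (by simpa using hb), by simp⟩

theorem Iv.row (h : Iv φ ψ R) (t : T1 φ) (x x' : Ω) : (R x).card = (R x').card := by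
  obtain ⟨g, rfl⟩ := t x x'
  exact card_of_iff (ψ g) (h g x)

theorem Iv.inter (h : Iv φ ψ R) (t : T2 φ) {a b c d : Ω} (h1 : a ≠ b) (h2 : c ≠ d) :
    (R a ∩ R b).card = (R c ∩ R d).card := by
  obtain ⟨g, rfl, rfl⟩ := t a b c d h1 h2
  exact card_of_iff (ψ g) fun y => by rw [mem_inter, mem_inter, h, h]

/-- the transposed relation -/
def tp (R : Ω → Finset Ω) (y : Ω) : Finset Ω := univ.filter fun x => y ∈ R x

theorem mem_tp {x y : Ω} : x ∈ tp R y ↔ y ∈ R x := by simp [tp]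

theorem Iv.tp (h : Iv φ ψ R) : Iv ψ φ (tp R) := fun g x y => by rw [mem_tp, mem_tp, h]

theorem Iv.compl (h : Iv φ ψ R) : Iv φ ψ fun x => (R x)ᶜ := fun g x y => by rw [mem_compl, mem_compl, h]

/-- the first moment -/
theorem mom1 (S : Finset Ω) (R : Ω → Finset Ω) : ∑ z, (S ∩ tp R z).card = ∑ y ∈ S, (R y).card := by
  have h1 : ∀ z, (S ∩ tp R z).card = ∑ y ∈ S, if z ∈ R y then 1 else 0 := fun z => by
    rw [← card_filter]
    congr 1
    ext y
    simp [mem_tp]
  simp_rw [h1]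
  rw [sum_comm]
  refine sum_congr rfl fun y _ => ?_
  simp

/-- the second moment -/
theorem mom2 (S : Finset Ω) (R : Ω → Finset Ω) :
    ∑ z, (S ∩ tp R z).card * (S ∩ tp R z).card = ∑ y ∈ S, ∑ y' ∈ S, (R y ∩ R y').card := by
  have h1 : ∀ z, (S ∩ tp R z).card = ∑ y ∈ S, if z ∈ R y then 1 else 0 := fun z => by
    rw [← card_filter]
    congr 1
    ext y
    simp [mem_tp]
  have h2 : ∀ y y', (R y ∩ R y').card = ∑ z, (if z ∈ R y then 1 else 0) * (if z ∈ R y' then 1 else 0) := fun y y' => by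
    have : ∀ z, ((if z ∈ R y then 1 else 0) * (if z ∈ R y' then 1 else 0) : ℕ) = if z ∈ R y ∩ R y' then 1 else 0 :=
      fun z => by by_cases h : z ∈ R y <;> by_cases h' : z ∈ R y' <;> simp [h, h']
    simp_rw [this]
    rw [← card_filter, filter_mem_eq_inter, univ_inter]
  simp_rw [h1, h2, sum_mul_sum]
  rw [sum_comm]
  refine sum_congr rfl fun y _ => ?_
  rw [sum_comm]

/-- a sum with one exceptional term -/
theorem sum_one {S : Finset Ω} {x : Ω} (hx : x ∈ S) (f : Ω → ℕ) {l : ℕ} (h : ∀ y ∈ S, y ≠ x → f y = l) :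
    ∑ y ∈ S, f y = f x + (S.card - 1) * l := by
  rw [← add_sum_erase S f hx, sum_congr rfl fun y hy => h y (mem_of_mem_erase hy) (ne_of_mem_erase hy), sum_const,
    card_erase_of_mem hx, smul_eq_mul]

theorem Iv.col (h : Iv φ ψ R) (t : T1 φ) (t' : T1 ψ) (x y : Ω) : (Lk.tp R y).card = (R x).card := by
  have h1 := mom1 univ R
  simp only [univ_inter] at h1
  rw [sum_congr rfl fun z _ => h.tp.row t' z y, sum_congr rfl fun z _ => h.row t z x, sum_const, sum_const,
    smul_eq_mul, smul_eq_mul] at h1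
  exact Nat.eq_of_mul_eq_mul_left (card_pos.2 ⟨x, mem_univ x⟩) h1

/-- the parameters of a symmetric design -/
theorem Iv.design (h : Iv φ ψ R) (t : T2 φ) (t' : T1 ψ) {a b : Ω} (hab : a ≠ b) :
    (R a).card * (R a).card = (R a).card + (Fintype.card Ω - 1) * (R a ∩ R b).card := by
  have h1 := mom1 (R a) (Lk.tp R)
  have h2 : ∀ z, Lk.tp (Lk.tp R) z = R z := fun z => by
    ext y
    rw [mem_tp, mem_tp]
  simp only [h2] at h1
  rw [sum_congr rfl fun z _ => h.col t.t1 t' a z, sum_const, smul_eq_mul,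
    sum_one (mem_univ a) _ fun y _ hy => h.inter t (Ne.symm hy) hab, inter_self, card_univ] at h1
  exact h1.symm

theorem Iv.eqv (h : Iv φ ψ R) (t : T1 φ) (t' : T1 ψ) {a : Ω} (h1 : (R a).card = 1) : Eqv φ ψ := by
  have h2 : ∀ x, ∃ y, R x = {y} := fun x => card_eq_one.1 ((h.row t x a).trans h1)
  choose p hp using h2
  have h3 : ∀ g x, p (φ g x) = ψ g (p x) := fun g x => by
    have := (h g x (p x)).2 (by simp [hp])
    rw [hp, mem_singleton] at this
    exact this.symm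
  have h4 : Function.Surjective p := fun y => by
    obtain ⟨g, hg⟩ := t' (p a) y
    exact ⟨φ g a, (h3 g a).trans hg⟩
  exact ⟨Equiv.ofBijective p (Finite.surjective_iff_bijective.1 h4), h3⟩

/-- a proper invariant relation exists if `v²` does not divide the order of the group -/
theorem exists_rel (t : T1 φ) (hd : ¬ Fintype.card Ω * Fintype.card Ω ∣ Nat.card G) (a : Ω) :
    ∃ R, Iv φ ψ R ∧ (R a).card ≠ 0 ∧ (R a).card ≠ Fintype.card Ω := by
  classical
  have key : Iv φ ψ fun x => univ.filter fun y => ∃ g, φ g a = x ∧ ψ g a = y := fun g x y => by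
    simp only [mem_filter, mem_univ, true_and]
    refine ⟨fun ⟨k, h1, h2⟩ => ⟨g⁻¹ * k, ?_, ?_⟩, fun ⟨k, h1, h2⟩ => ⟨g * k, ?_, ?_⟩⟩ <;> simp [h1, h2]
  refine ⟨_, key, (card_pos.2 ⟨a, by simpa using ⟨1, by simp⟩⟩).ne', fun h => hd ?_⟩
  have h1 : ∀ x y, ∃ g, φ g a = x ∧ ψ g a = y := fun x y => by
    have h2 := eq_univ_of_card _ ((key.row t x a).trans h)
    have h3 := h2 ▸ mem_univ y
    simpa using h3
  let _ : MulAction G (Ω × Ω) :=
    { smul := fun g p => (φ g p.1, ψ g p.2)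
      one_smul := fun p => by
        change (φ 1 p.1, ψ 1 p.2) = p
        simp
      mul_smul := fun g k p => by
        change (φ (g * k) p.1, ψ (g * k) p.2) = (φ g (φ k p.1), ψ g (ψ k p.2))
        simp }
  have : MulAction.IsPretransitive G (Ω × Ω) := MulAction.IsPretransitive.of_orbit (x₀ := (a, a)) fun p => by
    obtain ⟨g, h2, h3⟩ := h1 p.1 p.2
    exact ⟨g, Prod.ext h2 h3⟩
  have h4 := MulAction.index_stabilizer_of_transitive G ((a, a) : Ω × Ω)
  rw [Nat.card_prod, Nat.card_eq_fintype_card] at h4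
  exact h4 ▸ Subgroup.index_dvd_card _

/-- the numerical data -/
structure Par (v K l : ℕ) : Prop where
  ok : ∀ k ≤ v, (k * k - k) % (v - 1) = 0 → k = 0 ∨ k = 1 ∨ k = K ∨ k = v - K ∨ k = v - 1 ∨ k = v
  eq : K * K = K + (v - 1) * l
  pos : 0 < K
  lt : 2 * K < v
  ne : 3 * K ≠ v
  no : ∀ m n, K * m + (v - K) * n = K * K → K * (m * m) + (v - K) * (n * n) ≠ K * (K + (K - 1) * l)

variable {K l : ℕ}

theorem Iv.val (P : Par (Fintype.card Ω) K l) (h : Iv φ ψ R) (t : T2 φ) (t' : T1 ψ) (hn : ¬ Eqv φ ψ) (a : Ω) :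
    (R a).card = 0 ∨ (R a).card = K ∨ (R a).card = Fintype.card Ω - K ∨ (R a).card = Fintype.card Ω := by
  have h0 := P.pos
  have h1 := P.lt
  obtain ⟨b, hb⟩ := Fintype.exists_ne_of_one_lt_card (α := Ω) (by omega) a
  have h2 := h.design t t' hb.symm
  have h3 := P.ok _ (card_le_univ (R a)) (by rw [h2, Nat.add_sub_cancel_left, Nat.mul_mod_right])
  have h4 : (R a).card ≠ 1 := fun e => hn (h.eqv t.t1 t' e)
  have h5 : (R a).card ≠ Fintype.card Ω - 1 := fun e => hn (h.compl.eqv t.t1 t' (a := a) (by rw [card_compl]; omega))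
  omega

theorem exists_K (P : Par (Fintype.card Ω) K l) (t : T2 φ) (t' : T1 ψ) (hn : ¬ Eqv φ ψ)
    (hd : ¬ Fintype.card Ω * Fintype.card Ω ∣ Nat.card G) (a : Ω) : ∃ R, Iv φ ψ R ∧ ∀ x, (R x).card = K := by
  obtain ⟨R, h, h1, h2⟩ := exists_rel (ψ := ψ) t.t1 hd a
  have h3 := P.lt
  rcases h.val P t t' hn a with e | e | e | e
  · exact absurd e h1
  · exact ⟨R, h, fun x => (h.row t.t1 x a).trans e⟩
  · exact ⟨_, h.compl, fun x => (h.compl.row t.t1 x a).trans (by rw [card_compl]; omega)⟩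
  · exact absurd e h2

/-- an invariant function takes one value on the blocks and one value off the blocks -/
theorem two_values (P : Par (Fintype.card Ω) K l) (h : Iv φ ψ R) (t : T2 φ) (t' : T1 ψ) (hn : ¬ Eqv φ ψ) {a : Ω}
    (hK : (R a).card = K) (f : Ω → Ω → ℕ) (hf : ∀ g x y, f (φ g x) (ψ g y) = f x y) :
    ∃ m n, (∀ y ∈ R a, f a y = m) ∧ ∀ y ∈ (R a)ᶜ, f a y = n := by
  have h0 := P.pos
  have h1 := P.lt
  have h1' := P.ne
  have lev : ∀ {T : Ω → Finset Ω}, Iv φ ψ T → ∀ c, Iv φ ψ fun x => (T x).filter fun y => f x y = c :=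
    fun {T} hT c g x y => by rw [mem_filter, mem_filter, hT, hf]
  have hc : (R a)ᶜ.card = Fintype.card Ω - K := by rw [card_compl, hK]
  obtain ⟨y₁, hy₁⟩ : (R a).Nonempty := card_pos.1 (by omega)
  obtain ⟨y₂, hy₂⟩ : (R a)ᶜ.Nonempty := card_pos.1 (by omega)
  refine ⟨f a y₁, f a y₂, ?_, ?_⟩
  · have h2 := (lev h (f a y₁)).val P t t' hn a
    have h3 := card_filter_le (R a) fun y => f a y = f a y₁
    have h4 : 0 < ((R a).filter fun y => f a y = f a y₁).card := card_pos.2 ⟨y₁, by simpa using hy₁⟩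
    exact card_filter_eq_iff.1 (by omega)
  · have h2 := (lev h.compl (f a y₂)).val P t t' hn a
    have h3 := card_filter_le (R a)ᶜ fun y => f a y = f a y₂
    have h4 : 0 < ((R a)ᶜ.filter fun y => f a y = f a y₂).card := card_pos.2 ⟨y₂, by simpa using hy₂⟩
    have h5 : Iv φ ψ fun x => R x ∪ (R x)ᶜ.filter fun y => f x y = f a y₂ := fun g x y => by
      rw [mem_union, mem_union, h, lev h.compl]
    have h6 := h5.val P t t' hn a
    rw [card_union_of_disjoint (disjoint_compl_right.mono_right (filter_subset _ _))] at h6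
    exact card_filter_eq_iff.1 (by omega)

theorem link (P : Par (Fintype.card Ω) K l) (hd : ¬ Fintype.card Ω * Fintype.card Ω ∣ Nat.card G) (t₁ : T2 φ)
    (t₂ : T2 ψ) (t₃ : T2 χ) : Eqv φ ψ ∨ Eqv φ χ ∨ Eqv ψ χ := by
  by_contra hc
  simp only [not_or] at hc
  obtain ⟨n12, n13, n23⟩ := hc
  have h0 := P.pos
  have h1 := P.lt
  obtain ⟨a⟩ : Nonempty Ω := Fintype.card_pos_iff.1 (by omega)
  obtain ⟨A, hA, kA⟩ := exists_K P t₁ t₂.t1 n12 hd a
  obtain ⟨B, hB, kB⟩ := exists_K P t₂ t₃.t1 n23 hd a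
  obtain ⟨C, hC, kC⟩ := exists_K P t₁ t₃.t1 n13 hd a
  obtain ⟨m, n, hm, hn⟩ := two_values P hC t₁ t₃.t1 n13 (kC a) (fun x z => (A x ∩ tp B z).card) fun g x z =>
    (card_of_iff (ψ g) fun y => by rw [mem_inter, mem_inter, hA, hB.tp]).symm
  have hl : ∀ y y', y ≠ y' → (B y ∩ B y').card = l := fun y y' hy => by
    have h2 := hB.design t₂ t₃.t1 hy
    rw [kB, P.eq] at h2
    exact (Nat.eq_of_mul_eq_mul_left (by omega) (Nat.add_left_cancel h2)).symm
  have e1 := mom1 (A a) B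
  have e2 := mom2 (A a) B
  rw [← sum_add_sum_compl (C a), sum_congr rfl hm, sum_congr rfl hn, sum_congr rfl fun y _ => kB y] at e1
  rw [← sum_add_sum_compl (C a), sum_congr rfl fun y hy => congrArg₂ (· * ·) (hm y hy) (hm y hy),
    sum_congr rfl fun y hy => congrArg₂ (· * ·) (hn y hy) (hn y hy),
    sum_congr rfl fun y hy => sum_one hy _ fun y' _ e => hl y y' (Ne.symm e)] at e2
  simp only [inter_self, kB, kA, kC, sum_const, smul_eq_mul, card_compl] at e1 e2
  exact P.no m n e1 e2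

theorem par22 : Par 22 7 2 where
  ok := by decide
  eq := by norm_num
  pos := by norm_num
  lt := by norm_num
  ne := by norm_num
  no := fun m n h1 h2 => by
    obtain rfl : n = 0 := by omega
    obtain rfl : m = 7 := by omega
    omega

theorem par176 : Par 176 50 14 where
  ok := by decide +kernel
  eq := by norm_num
  pos := by norm_num
  lt := by norm_num
  ne := by norm_num
  no := fun m n h1 h2 => by
    obtain rfl : n = 0 := by omega
    obtain rfl : m = 50 := by omega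
    omega

theorem par276 : Par 276 100 36 where
  ok := by decide +kernel
  eq := by norm_num
  pos := by norm_num
  lt := by norm_num
  ne := by norm_num
  no := fun m n h1 h2 => by
    obtain ⟨rfl, rfl⟩ | ⟨rfl, rfl⟩ | ⟨rfl, rfl⟩ : (m = 100 ∧ n = 0) ∨ (m = 56 ∧ n = 25) ∨ (m = 12 ∧ n = 50) := by omega
    all_goals omega

theorem cj_of_eqv {S T : Subgroup (Perm Ω)} (e : G ≃* S) (e' : G ≃* T)
    (h : Eqv (S.subtype.comp e.toMonoidHom) (T.subtype.comp e'.toMonoidHom)) : Cj S T := by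
  obtain ⟨π, hπ⟩ := h
  have h1 : ∀ g, π * (e g : Perm Ω) * π⁻¹ = e' g := fun g => by
    ext x
    simpa using hπ g (π⁻¹ x)
  refine ⟨π, fun x => ⟨fun hx => ?_, fun hx => ?_⟩⟩
  · have := h1 (e.symm ⟨x, hx⟩)
    rw [MulEquiv.apply_symm_apply] at this
    exact this ▸ (e' _).2
  · have := h1 (e'.symm ⟨_, hx⟩)
    rw [MulEquiv.apply_symm_apply] at this
    have h2 : x = e (e'.symm ⟨_, hx⟩) := (mul_left_cancel (mul_right_cancel this)).symm
    exact h2 ▸ (e _).2

theorem t2_of {S : Subgroup (Perm Ω)} (e : G ≃* S) (h : Tr2 S) : T2 (S.subtype.comp e.toMonoidHom) :=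
  fun a b c d h1 h2 => by
    obtain ⟨g, hg, h3⟩ := h a b c d h1 h2
    exact ⟨e.symm ⟨g, hg⟩, by simpa using h3⟩

end Lk

theorem boxLink : BoxLink := fun Ω _ _ S₁ S₂ S₃ h t₁ t₂ t₃ ⟨e₂⟩ ⟨e₃⟩ => by
  have key : ∃ K l, Lk.Par (Fintype.card Ω) K l ∧ ¬ Fintype.card Ω * Fintype.card Ω ∣ Nat.card S₁ := by
    rcases h with ⟨h1, h2⟩ | ⟨h1, h2⟩ | ⟨h1, h2⟩ <;> rw [h1, h2]
    · exact ⟨_, _, Lk.par22, by norm_num⟩
    · exact ⟨_, _, Lk.par176, by norm_num⟩
    · exact ⟨_, _, Lk.par276, by norm_num⟩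
  obtain ⟨K, l, P, hd⟩ := key
  exact (Lk.link P hd (Lk.t2_of (MulEquiv.refl S₁) t₁) (Lk.t2_of e₂ t₂) (Lk.t2_of e₃ t₃)).imp (Lk.cj_of_eqv _ _)
    (Or.imp (Lk.cj_of_eqv _ _) (Lk.cj_of_eqv _ _))

end Cfsg.Agent.SM.NP
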