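import Cfsg.Agent.SM.NP.P2
import Mathlib.Data.ZMod.Basic

/-!
# SM / BoxNP: the box `N8a` (helper22)
-/

set_option autoImplicit false
set_option linter.unusedSectionVars false
set_option linter.unusedVariables false

namespace Cfsg.Agent.SM.NP

open Equiv Equiv.Perm Subgroup MulAction

namespace N8a

open P2

variable {Ω : Type} [Fintype Ω] [DecidableEq Ω] {X H : Subgroup (Perm Ω)} {τ : Perm Ω}

/-- the four edges -/
abbrev B4 : Type := ZMod 2 × ZMod 2

/-- the eight points -/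
abbrev T8 : Type := B4 × ZMod 2

theorem z2 (b : ZMod 2) : b = 0 ∨ b = 1 := by revert b; decide

theorem exists_coord (hτ : Mat τ) (h8 : Fintype.card Ω = 8) : ∃ e : Ω ≃ T8, ∀ x, e (τ x) = ((e x).1, (e x).2 + 1) := by
  obtain ⟨a, p, q, r, -, -, -, hu⟩ := exists_four hτ h8
  let u : B4 → Ω := fun i => if i = (0, 0) then a else if i = (0, 1) then p else if i = (1, 0) then q else r
  let f : T8 → Ω := fun t => if t.2 = 0 then u t.1 else τ (u t.1)
  have hs : Function.Surjective f := fun x => by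
    rcases hu x with rfl | rfl | rfl | rfl | rfl | rfl | rfl | rfl
    exacts [⟨((0, 0), 0), rfl⟩, ⟨((0, 0), 1), rfl⟩, ⟨((0, 1), 0), rfl⟩, ⟨((0, 1), 1), rfl⟩, ⟨((1, 0), 0), rfl⟩,
      ⟨((1, 0), 1), rfl⟩, ⟨((1, 1), 0), rfl⟩, ⟨((1, 1), 1), rfl⟩]
  have hb : Function.Bijective f := (Fintype.bijective_iff_surjective_and_card f).2 ⟨hs, by rw [h8]; rfl⟩
  refine ⟨(Equiv.ofBijective f hb).symm, fun x => ?_⟩
  obtain ⟨⟨i, b⟩, rfl⟩ := (Equiv.ofBijective f hb).surjective x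
  rw [symm_apply_apply, symm_apply_eq]
  rcases z2 b with rfl | rfl
  · rfl
  · exact hτ.inv _

theorem sgn_add (c : ZMod 2) : sign (Equiv.addRight c) = if c = 0 then 1 else -1 := by revert c; decide

theorem sgn_sum (v : B4 → ZMod 2) : (∏ i, if v i = 0 then (1 : ℤˣ) else -1) = 1 ↔ ∑ i, v i = 0 := by revert v; decide

theorem odd_wt (v : B4 → ZMod 2) (h : ∑ i, v i ≠ 0) :
    ∃ i, (∀ j, v j = if j = i then 1 else 0) ∨ ∀ j, v j = if j = i then 0 else 1 := by revert v; decide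

theorem quad (i j k l : B4) (h : i + j = k + l) :
    (i = j ∧ k = l) ∨ (i = k ∧ j = l) ∨ (i = l ∧ j = k) ∨ (Finset.univ : Finset B4).val = {i, j, k, l} := by
  revert i j k l; decide

theorem aff {G : Type} [AddCommGroup G] (h2 : ∀ x : G, x + x = 0) (f : B4 → G) (hf : ∑ i, f i = 0) {i j k l : B4}
    (h : i + j = k + l) : f i + f j = f k + f l := by
  rcases quad i j k l h with ⟨rfl, rfl⟩ | ⟨rfl, rfl⟩ | ⟨rfl, rfl⟩ | e
  · rw [h2, h2]
  · rfl
  · exact add_comm _ _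
  · rw [Finset.sum_eq_multiset_sum, e] at hf
    simp only [Multiset.insert_eq_cons, Multiset.map_cons, Multiset.map_singleton, Multiset.sum_cons,
      Multiset.sum_singleton] at hf
    rw [← add_assoc] at hf
    exact (eq_neg_of_add_eq_zero_left hf).trans (eq_neg_of_add_eq_zero_left (h2 _)).symm

section
variable {e : Ω ≃ T8} (he : ∀ x, e (τ x) = ((e x).1, (e x).2 + 1))
include he

theorem coord {g : Perm Ω} (hg : g * τ = τ * g) : ∃ (π : Perm B4) (v : B4 → ZMod 2),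
    (∀ x, e (g x) = (π (e x).1, (e x).2 + v (e x).1)) ∧ (sign g = 1 ↔ ∑ i, v i = 0) := by
  have h1 : ∀ i b, e (g (e.symm (i, b))) = ((e (g (e.symm (i, 0)))).1, b + (e (g (e.symm (i, 0)))).2) := fun i b => by
    rcases z2 b with rfl | rfl
    · rw [zero_add]
    · have e1 : e.symm (i, 1) = τ (e.symm (i, 0)) := by rw [symm_apply_eq, he]; simp
      rw [e1, ← Perm.mul_apply, hg, Perm.mul_apply, he, add_comm]
  have h2 : Function.Injective fun i : B4 => (e (g (e.symm (i, 0)))).1 := fun i j hij => by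
    have : e (g (e.symm (i, (e (g (e.symm (j, 0)))).2))) = e (g (e.symm (j, (e (g (e.symm (i, 0)))).2))) := by
      refine (h1 i _).trans (Eq.trans ?_ (h1 j _).symm)
      exact Prod.ext hij (add_comm _ _)
    exact congrArg Prod.fst (e.symm.injective (g.injective (e.injective this)))
  refine ⟨Equiv.ofBijective _ (Finite.injective_iff_bijective.1 h2), fun i => (e (g (e.symm (i, 0)))).2, fun x => ?_, ?_⟩
  · have := h1 (e x).1 (e x).2
    rwa [Prod.mk.eta, symm_apply_apply] at this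
  · have h3 : e.permCongr g = (prodCongrLeft fun _ => Equiv.ofBijective _ (Finite.injective_iff_bijective.1 h2)) *
        prodCongrRight fun i => Equiv.addRight (e (g (e.symm (i, 0)))).2 := Equiv.ext fun ⟨i, b⟩ => h1 i b
    rw [← sign_permCongr e g, h3, map_mul, sign_prodCongrLeft, sign_prodCongrRight, Finset.prod_const, Finset.card_univ,
      ZMod.card, Int.units_sq, one_mul]
    simp only [sgn_add]
    exact sgn_sum _

theorem aff_of {g : Perm Ω} (hg : g * τ = τ * g) (hs : sign g = 1) {x y z w : Ω} (h : e x + e y = e z + e w) :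
    e (g x) + e (g y) = e (g z) + e (g w) := by
  obtain ⟨π, v, h1, h2⟩ := coord he hg
  have h3 : (e x).1 + (e y).1 = (e z).1 + (e w).1 := congrArg Prod.fst h
  have h4 : (e x).2 + (e y).2 = (e z).2 + (e w).2 := congrArg Prod.snd h
  rw [h1, h1, h1, h1]
  refine Prod.ext (aff (by decide) π ((Equiv.sum_comp π id).trans (by decide)) h3) ?_
  have h5 := aff (by decide) v (h2.1 hs) h3
  simp only [Prod.snd_add]
  rw [add_add_add_comm, h4, h5, add_add_add_comm]

theorem ed_iff (x y : Ω) : (y = x ∨ y = τ x) ↔ (e y).1 = (e x).1 := by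
  refine ⟨fun h => by rcases h with rfl | rfl <;> simp [he], fun h => ?_⟩
  have : ∀ b c : ZMod 2, b = c ∨ b = c + 1 := by decide
  exact (this (e y).2 (e x).2).imp (fun h' => e.injective (Prod.ext h h')) fun h' =>
    e.injective (by rw [he]; exact Prod.ext h h')

end

/-- the centraliser of the matching -/
def Wc (X : Subgroup (Perm Ω)) (τ : Perm Ω) : Subgroup (Perm Ω) := X ⊓ centralizer {τ}

theorem mem_Wc {g : Perm Ω} : g ∈ Wc X τ ↔ g ∈ X ∧ g * τ = τ * g := by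
  simp only [Wc, mem_inf, mem_centralizer_singleton_iff]

theorem sw_comm (hτ : Mat τ) (a : Ω) : swap a (τ a) * τ = τ * swap a (τ a) := by
  rw [mul_swap_eq_swap_mul, hτ.inv, swap_comm]

theorem dbl_Wc (hτ : Mat τ) (hX : alternatingGroup Ω ≤ X) : Dbl (Wc X τ) τ := fun a b _ _ =>
  mem_Wc.2 ⟨hX (swap_mul_mem_alt (hτ.ne a).symm (hτ.ne b).symm), by
    rw [mul_assoc, sw_comm hτ, ← mul_assoc, sw_comm hτ, mul_assoc]⟩

/-- the affine group -/
def Kc (X : Subgroup (Perm Ω)) (e : Ω ≃ T8) : Subgroup (Perm Ω) where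
  carrier := {g | g ∈ X ∧ ∀ x y z w, e (g x) + e (g y) = e (g z) + e (g w) ↔ e x + e y = e z + e w}
  one_mem' := ⟨X.one_mem, fun _ _ _ _ => Iff.rfl⟩
  mul_mem' := fun {g h} hg hh => ⟨X.mul_mem hg.1 hh.1, fun _ _ _ _ => (hg.2 _ _ _ _).trans (hh.2 _ _ _ _)⟩
  inv_mem' := fun {g} hg => ⟨X.inv_mem hg.1, fun x y z w => by
    simpa using (hg.2 (g⁻¹ x) (g⁻¹ y) (g⁻¹ z) (g⁻¹ w)).symm⟩

theorem alt_case (s : Sec X H) (h8 : Fintype.card Ω = 8) (hτ : Mat τ) (hc : ∀ g ∈ H, g * τ = τ * g)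
    (hX : X = alternatingGroup Ω) : Dbl H τ := by
  obtain ⟨e, he⟩ := exists_coord hτ h8
  have h1 : H ≤ Wc X τ := fun g hg => mem_Wc.2 ⟨s.lt.le hg, hc g hg⟩
  have h2 : Wc X τ ≤ Kc X e := fun g hg => by
    have k1 := mem_Wc.1 hg
    have k2 := mem_Wc.1 (inv_mem hg)
    refine ⟨k1.1, fun x y z w => ⟨fun h => ?_, aff_of he k1.2 (mem_alternatingGroup.1 (hX ▸ k1.1))⟩⟩
    simpa using aff_of he k2.2 (mem_alternatingGroup.1 (hX ▸ k2.1)) h
  have ev : ∀ a b c d : T8, a ≠ b → c ≠ d → e.symm.permCongr (swap a b * swap c d) ∈ X := fun a b c d h h' =>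
    s.alt (by rw [mem_alternatingGroup, sign_permCongr]; exact swap_mul_mem_alt h h')
  have h3 : Wc X τ ≠ Kc X e := fun h => by
    have k : ∀ t : T8, (swap ((0, 0), 1) ((1, 0), 0) * swap ((0, 1), 1) ((1, 1), 0) : Perm T8) t = ((t.2, t.1.2), t.1.1) := by
      decide
    have k1 : e.symm.permCongr (swap ((0, 0), 1) ((1, 0), 0) * swap ((0, 1), 1) ((1, 1), 0)) ∈ Kc X e :=
      ⟨ev _ _ _ _ (by decide) (by decide), fun x y z w => by
        simp only [permCongr_apply, symm_symm, apply_symm_apply, k, Prod.ext_iff, Prod.fst_add, Prod.snd_add]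
        tauto⟩
    have k2 := congrArg (fun g : Perm Ω => e (g (e.symm 0))) (mem_Wc.1 (h ▸ k1)).2
    simp only [Perm.mul_apply (g := τ), Perm.mul_apply (f := τ), permCongr_apply, symm_symm, apply_symm_apply, k, he] at k2
    revert k2
    decide
  have h4 : Kc X e < X := lt_of_le_of_ne (fun _ h => h.1) fun h => by
    have k1 : e.symm.permCongr (swap 0 ((0, 0), 1) * swap 0 ((0, 1), 0)) ∈ Kc X e :=
      h.symm ▸ ev _ _ _ _ (by decide) (by decide)
    have k2 := k1.2 (e.symm 0) (e.symm ((1, 1), 1)) (e.symm ((1, 0), 0)) (e.symm ((0, 1), 1))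
    simp only [permCongr_apply, symm_symm, apply_symm_apply] at k2
    revert k2
    decide
  rcases h1.eq_or_lt with h | h
  · exact h ▸ dbl_Wc hτ s.alt
  · exact absurd (Sec.eq_of_le (s.mem_ov h (h2.trans_lt h4)) (s.mem_ov (h.trans_le h2) h4) h2) h3

theorem sw_apply (hτ : Mat τ) (a x : Ω) : swap a (τ a) x = if x = a ∨ x = τ a then τ x else x := by
  split_ifs with h
  · rcases h with rfl | rfl
    · exact swap_apply_left _ _
    · rw [swap_apply_right, hτ.inv]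
  · exact swap_apply_of_ne_of_ne (fun e => h (Or.inl e)) fun e => h (Or.inr e)

theorem sw_ed (hτ : Mat τ) {a b : Ω} (h : b = a ∨ b = τ a) : swap b (τ b) = swap a (τ a) := by
  rcases h with rfl | rfl
  · rfl
  · rw [hτ.inv, swap_comm]

theorem dbl_step (h8 : Fintype.card Ω = 8) (hτ : Mat τ) (hc : ∀ g ∈ H, g * τ = τ * g) (hl : Lifts H τ) {x y c : Ω}
    (y1 : y ≠ x) (y2 : y ≠ τ x) (c1 : c ≠ x) (c2 : c ≠ τ x) (h : swap x (τ x) * swap y (τ y) ∈ H) :
    swap x (τ x) * swap c (τ c) ∈ H := by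
  by_cases hcy : c = y ∨ c = τ y
  · rwa [sw_ed hτ hcy]
  rw [not_or] at hcy
  obtain ⟨d, hd⟩ := exists_out {x, τ x, y, τ y, c, τ c} (Finset.card_le_six.trans_lt (by omega))
  simp only [Finset.mem_insert, Finset.mem_singleton, not_or] at hd
  obtain ⟨d1, d2, d3, d4, d5, d6⟩ := hd
  have f : ∀ {x y}, x ≠ τ y → y ≠ τ x := fun h e => h (by rw [e, hτ.inv])
  obtain ⟨r, hr, -, r1, -, r2⟩ := hl y c d hcy.1 hcy.2 d3 d4 d5 d6
  have r3 : ∀ z, r (τ z) = τ (r z) := fun z => congrArg (fun k : Perm Ω => k z) (hc r hr)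
  have := conj_mem hr h
  rwa [r3, r3, r2 x y1.symm (f y2) c1.symm (f c2) (Ne.symm d1) (f d2), sw_ed hτ r1] at this

theorem dbl_of_one (h8 : Fintype.card Ω = 8) (hτ : Mat τ) (hc : ∀ g ∈ H, g * τ = τ * g) (hl : Lifts H τ) {a p : Ω}
    (p1 : p ≠ a) (p2 : p ≠ τ a) (h : swap a (τ a) * swap p (τ p) ∈ H) : Dbl H τ := fun x y y1 y2 => by
  have f : ∀ {x y}, x ≠ τ y → y ≠ τ x := fun h e => h (by rw [e, hτ.inv])
  by_cases hx : x = a ∨ x = τ a
  · rw [sw_ed hτ hx]
    rcases hx with rfl | rfl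
    · exact dbl_step h8 hτ hc hl p1 p2 y1 y2 h
    · exact dbl_step h8 hτ hc hl p1 p2 (by rwa [hτ.inv] at y2) y1 h
  · rw [not_or] at hx
    have := H.inv_mem (dbl_step h8 hτ hc hl p1 p2 hx.1 hx.2 h)
    rw [mul_inv_rev, swap_inv, swap_inv] at this
    exact dbl_step h8 hτ hc hl (Ne.symm hx.1) (f hx.2) y1 y2 this

/-- the even elements which fix every edge -/
def Ec (τ : Perm Ω) (hτ : Mat τ) : Subgroup (Perm Ω) where
  carrier := {g | sign g = 1 ∧ ∀ x, g x = x ∨ g x = τ x}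
  one_mem' := ⟨map_one _, fun _ => Or.inl rfl⟩
  mul_mem' := fun {g h} hg hh => ⟨by rw [map_mul, hg.1, hh.1, one_mul], fun x => by
    rcases hh.2 x with e | e
    · rw [Perm.mul_apply, e]; exact hg.2 x
    · rw [Perm.mul_apply, e]
      exact (hg.2 (τ x)).symm.imp (fun e' => by rw [e', hτ.inv]) id⟩
  inv_mem' := fun {g} hg => ⟨by rw [map_inv, hg.1, inv_one], fun x => by
    refine (hg.2 (g⁻¹ x)).imp (fun e => ?_) fun e => ?_
    · simpa using e.symm
    · rw [← tau_eq hτ, ← e]; simp⟩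

theorem ed_comm (hτ : Mat τ) {g : Perm Ω} (hg : ∀ x, g x = x ∨ g x = τ x) : g * τ = τ * g := Equiv.ext fun x => by
  rw [Perm.mul_apply, Perm.mul_apply]
  rcases hg x with e | e
  · rw [e]
    exact (hg (τ x)).resolve_right fun e' => hτ.ne x (g.injective (by rw [e', hτ.inv, e]))
  · rw [e]
    exact (hg (τ x)).resolve_left fun e' => hτ.ne x (g.injective (e'.trans e.symm))

theorem top_case (s : Sec X H) (h8 : Fintype.card Ω = 8) (hτ : Mat τ) (hc : ∀ g ∈ H, g * τ = τ * g) (hl : Lifts H τ)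
    (hX : X = ⊤) : Sm H ∨ Dbl H τ := by
  subst hX
  obtain ⟨e, he⟩ := exists_coord hτ h8
  have h1 : H ≤ Wc ⊤ τ := fun g hg => mem_Wc.2 ⟨trivial, hc g hg⟩
  rcases h1.eq_or_lt with h | h
  · exact Or.inr (h ▸ dbl_Wc hτ le_top)
  obtain ⟨a, p, q, -, ⟨p1, p2⟩, -⟩ := exists_four hτ h8
  have h2 : Wc ⊤ τ < ⊤ := lt_top_iff_ne_top.2 fun h => by
    have := congrArg (fun k : Perm Ω => k a) (mem_Wc.1 (h ▸ mem_top (swap a p))).2
    simp only [Perm.mul_apply, swap_apply_left] at this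
    rw [swap_apply_of_ne_of_ne (hτ.ne a) p2.symm] at this
    exact p1 (τ.injective this).symm
  rcases s.le_or_mul (s.mem_ov h h2) (N := Ec τ hτ) (fun g hg => mem_Wc.2 ⟨trivial, ed_comm hτ hg.2⟩) (fun g hg x hx =>
    ⟨by simp [hx.1], fun y => (hx.2 (g⁻¹ y)).imp (fun e' => by simp only [Perm.mul_apply, e']; simp) fun e' => by
      simp only [Perm.mul_apply, e']
      rw [← Perm.mul_apply, hc g hg]; simp⟩) with k | k
  · refine Or.inr fun x y y1 y2 => k ⟨swap_mul_mem_alt (hτ.ne x).symm (hτ.ne y).symm, fun z => ?_⟩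
    rw [Perm.mul_apply, sw_apply hτ y, sw_apply hτ x]
    split_ifs <;> simp [hτ.inv]
  obtain ⟨g, hg, x, hx, k⟩ := k _ (mem_Wc.2 ⟨trivial, sw_comm hτ a⟩)
  have g1 : g = swap a (τ a) * x⁻¹ := by rw [k]; simp
  have g2 : sign g ≠ 1 := by rw [g1, map_mul, map_inv, hx.1, sign_swap (hτ.ne a).symm]; decide
  have g3 : ∀ y, (e (g y)).1 = (e y).1 := fun y => by
    rw [← ed_iff he, g1, Perm.mul_apply, sw_apply hτ]
    rcases (inv_mem hx).2 y with e' | e' <;> rw [e'] <;> split_ifs <;> simp [hτ.inv]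
  obtain ⟨π, v, g4, g5⟩ := coord he (hc g hg)
  have g6 : ∀ y, e (g y) = ((e y).1, (e y).2 + v (e y).1) := fun y => Prod.ext (g3 y) (by rw [g4])
  obtain ⟨i, hv⟩ := odd_wt v (mt g5.2 g2)
  obtain ⟨b, rfl⟩ : ∃ b, (e b).1 = i := ⟨e.symm (i, 0), by simp⟩
  rcases hv with hv | hv
  · refine Or.inl ⟨g, hg, Or.inr ⟨b, τ b, (hτ.ne b).symm, Equiv.ext fun y => e.injective ?_⟩⟩
    rw [g6, hv, sw_apply hτ]
    simp only [ed_iff he]
    split_ifs <;> simp [he]
  · have g7 : ∀ y, g y = if y = b ∨ y = τ b then y else τ y := fun y => e.injective (by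
      rw [g6, hv]
      simp only [ed_iff he]
      split_ifs <;> simp [he])
    obtain ⟨c, hc'⟩ := exists_out {b, τ b} (Finset.card_le_two.trans_lt (by omega))
    obtain ⟨d, hd⟩ := exists_out {b, τ b, c, τ c} (Finset.card_le_four.trans_lt (by omega))
    simp only [Finset.mem_insert, Finset.mem_singleton, not_or] at hc' hd
    obtain ⟨r, hr, -, r1, -, -⟩ := hl b c d hc'.1 hc'.2 hd.1 hd.2.1 hd.2.2.1 hd.2.2.2
    have r3 : ∀ z, r (τ z) = τ (r z) := fun z => congrArg (fun k : Perm Ω => k z) (hc r hr)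
    refine Or.inr (dbl_of_one h8 hτ hc hl hc'.1 hc'.2 ?_)
    convert H.mul_mem hg (H.mul_mem (H.mul_mem hr hg) (H.inv_mem hr)) using 1
    refine Equiv.ext fun y => ?_
    have r4 : r (g (r⁻¹ y)) = if y = c ∨ y = τ c then y else τ y := by
      have : (r⁻¹ y = b ∨ r⁻¹ y = τ b) ↔ (y = c ∨ y = τ c) := by
        rw [Perm.inv_eq_iff_eq, Perm.inv_eq_iff_eq, r3, ed_iff he, ed_iff he, (ed_iff he c (r b)).1 r1]
      rw [g7]
      simp only [this]
      split_ifs <;> simp [r3]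
    have r5 : (e c).1 ≠ (e b).1 := mt (ed_iff he b c).2 (not_or.2 hc')
    simp only [Perm.mul_apply]
    rw [r4, g7, sw_apply hτ c, sw_apply hτ b]
    simp only [ed_iff he]
    by_cases k1 : (e y).1 = (e c).1
    · simp [k1, he, r5]
    · by_cases k2 : (e y).1 = (e b).1 <;> simp [k1, k2, he, hτ.inv, r5.symm]

end N8a

/-- **box N8a** -/
theorem boxN8a : BoxN8a := fun Ω _ _ X H τ s h8 hτ hc hl =>
  (eq_alt_or_top s.five s.alt).elim (fun h => Or.inr (N8a.alt_case s h8 hτ hc h)) (N8a.top_case s h8 hτ hc hl)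

end Cfsg.Agent.SM.NP
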