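import Cfsg.Agent.SM.NP.Defs2

/-!
# SM / NP: `BoxN8c` (helper70)
-/

set_option autoImplicit false
set_option linter.unusedSectionVars false
set_option linter.unusedVariables false

namespace Cfsg.Agent.SM.NP

open Equiv Equiv.Perm Subgroup

namespace N8c

variable {Ω : Type} [Fintype Ω] [DecidableEq Ω] {B C : Set Ω} {x y g : Perm Ω} {f : Fin 4 → Ω}

/-- on `B` the permutation is trivial or a fixed point free involution -/
def Q (x : Perm Ω) (B : Set Ω) : Prop := (∀ a ∈ B, x a = a) ∨ ∀ a ∈ B, x a ≠ a ∧ x (x a) = a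

/-- the Klein four group -/
def P (p : Perm (Fin 4)) : Prop := (∀ a, p a = a) ∨ ∀ a, p a ≠ a ∧ p (p a) = a

theorem P_mul : ∀ p q : Perm (Fin 4), ((∀ a, p a = a) ∨ ∀ a, p a ≠ a ∧ p (p a) = a) →
    ((∀ a, q a = a) ∨ ∀ a, q a ≠ a ∧ q (q a) = a) →
    (∀ a, (p * q) a = a) ∨ ∀ a, (p * q) a ≠ a ∧ (p * q) ((p * q) a) = a := by decide +kernel

theorem P_three : ∀ p : Perm (Fin 4), ((∀ a, p a = a) ∨ ∀ a, p a ≠ a ∧ p (p a) = a) →
    (swap 0 1 * swap 0 2 * p * (swap 0 1 * swap 0 2 * p)).support.card = 3 := by decide +kernel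

theorem exists_f (hB : B.ncard = 4) : ∃ f : Fin 4 → Ω, Function.Injective f ∧ ∀ a, a ∈ B ↔ ∃ i, f i = a := by
  have h1 : Nat.card B = 4 := hB
  let e := Finite.equivFinOfCardEq h1
  refine ⟨fun i => e.symm i, fun i j h => e.symm.injective (Subtype.ext h), fun a => ⟨fun h => ⟨e ⟨a, h⟩, by simp⟩, ?_⟩⟩
  rintro ⟨i, rfl⟩
  exact (e.symm i).2

theorem exists_res (hf : Function.Injective f) (hB : ∀ a, a ∈ B ↔ ∃ i, f i = a) (hx : ∀ a, x a ∈ B ↔ a ∈ B) :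
    ∃ p : Perm (Fin 4), ∀ i, x (f i) = f (p i) := by
  have h1 : ∀ i, ∃ j, f j = x (f i) := fun i => (hB _).1 ((hx _).2 ((hB _).2 ⟨i, rfl⟩))
  choose p hp using h1
  have h2 : Function.Injective p := fun i j h => hf (x.injective (by rw [← hp, ← hp, h]))
  exact ⟨Equiv.ofBijective p (Finite.injective_iff_bijective.1 h2), fun i => (hp i).symm⟩

theorem Q_iff (hf : Function.Injective f) (hB : ∀ a, a ∈ B ↔ ∃ i, f i = a) {p : Perm (Fin 4)}
    (hp : ∀ i, x (f i) = f (p i)) : Q x B ↔ P p := by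
  refine or_congr ⟨fun h i => hf ((hp i).symm.trans (h _ ((hB _).2 ⟨i, rfl⟩))), fun h a ha => ?_⟩
    ⟨fun h i => ?_, fun h a ha => ?_⟩
  · obtain ⟨i, rfl⟩ := (hB a).1 ha
    rw [hp, h]
  · have := h _ ((hB _).2 ⟨i, rfl⟩)
    rwa [hp, hp, hf.ne_iff, hf.eq_iff] at this
  · obtain ⟨i, rfl⟩ := (hB a).1 ha
    rw [hp, hp, hf.ne_iff, hf.eq_iff]
    exact h i

theorem Q.mul (hB : B.ncard = 4) (hx : ∀ a, x a ∈ B ↔ a ∈ B) (hy : ∀ a, y a ∈ B ↔ a ∈ B) (h1 : Q x B) (h2 : Q y B) :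
    Q (x * y) B := by
  obtain ⟨f, hf, hB⟩ := exists_f hB
  obtain ⟨p, hp⟩ := exists_res hf hB hx
  obtain ⟨q, hq⟩ := exists_res hf hB hy
  exact (Q_iff hf hB (p := p * q) fun i => by rw [mul_apply, mul_apply, hq, hp]).2
    (P_mul p q ((Q_iff hf hB hp).1 h1) ((Q_iff hf hB hq).1 h2))

theorem Q.sq (h : Q x B) (a : Ω) (ha : a ∈ B) : x (x a) = a := by
  rcases h with h | h
  · rw [h a ha, h a ha]
  · exact (h a ha).2

theorem Q.inv (hx : ∀ a, x a ∈ B ↔ a ∈ B) (h : Q x B) : Q x⁻¹ B := by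
  have h1 : ∀ a ∈ B, x⁻¹ a = x a := fun a ha => by rw [inv_eq_iff_eq, h.sq a ha]
  refine h.imp (fun h a ha => (h1 a ha).trans (h a ha)) fun h a ha => ?_
  rw [h1 a ha, h1 _ ((hx a).2 ha)]
  exact h a ha

theorem Q.conj (h : Q x B) (hg : ∀ a, g a ∈ C ↔ a ∈ B) : Q (g * x * g⁻¹) C := by
  refine h.imp (fun h a ha => ?_) fun h a ha => ?_ <;> obtain ⟨a, rfl⟩ := g.surjective a
  · simpa using h a ((hg a).1 ha)
  · simpa using h a ((hg a).1 ha)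

theorem pres_conj (hx : ∀ a, x a ∈ B ↔ a ∈ B) (hg : ∀ a, g a ∈ C ↔ a ∈ B) (a : Ω) : (g * x * g⁻¹) a ∈ C ↔ a ∈ C := by
  obtain ⟨a, rfl⟩ := g.surjective a
  simp [hg, hx]

/-- the group `V₄ × V₄` -/
def V (X : Subgroup (Perm Ω)) (B : Set Ω) (h1 : B.ncard = 4) (h2 : Bᶜ.ncard = 4) : Subgroup (Perm Ω) where
  carrier := {x | x ∈ Sw X B ∧ Q x B ∧ Q x Bᶜ}
  one_mem' := ⟨one_mem _, Or.inl fun _ _ => rfl, Or.inl fun _ _ => rfl⟩
  mul_mem' := fun {x y} hx hy => ⟨mul_mem hx.1 hy.1, hx.2.1.mul h1 hx.1.2 hy.1.2 hy.2.1,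
    hx.2.2.mul h2 (fun a => not_congr (hx.1.2 a)) (fun a => not_congr (hy.1.2 a)) hy.2.2⟩
  inv_mem' := fun {x} hx => ⟨inv_mem hx.1, hx.2.1.inv hx.1.2, hx.2.2.inv fun a => not_congr (hx.1.2 a)⟩

theorem swap_pres {a b : Ω} (ha : a ∈ B) (hb : b ∈ B) (z : Ω) : swap a b z ∈ B ↔ z ∈ B := by
  rw [swap_apply_def]
  split_ifs with h1 h2
  · exact iff_of_true hb (h1 ▸ ha)
  · exact iff_of_true ha (h2 ▸ hb)
  · rfl

theorem swap_fix {a b : Ω} (ha : a ∈ B) (hb : b ∈ B) (z : Ω) (hz : z ∉ B) : swap a b z = z :=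
  swap_apply_of_ne_of_ne (fun e => hz (e ▸ ha)) fun e => hz (e ▸ hb)

theorem dbl (hB : B.ncard = 4) {a b c d : Ω} (ha : a ∈ B) (hb : b ∈ B) (hc : c ∈ B) (hd : d ∈ B) (h1 : a ≠ b)
    (h2 : a ≠ c) (h3 : a ≠ d) (h4 : b ≠ c) (h5 : b ≠ d) (h6 : c ≠ d) : Q (swap a b * swap c d) B := by
  have e : ({a, b, c, d} : Set Ω) = B := by
    refine Set.eq_of_subset_of_ncard_le (by simp [Set.insert_subset_iff, ha, hb, hc, hd]) ?_ (Set.toFinite _)
    rw [hB, Set.ncard_insert_of_notMem (by simp [h1, h2, h3]), Set.ncard_insert_of_notMem (by simp [h4, h5]),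
      Set.ncard_pair h6]
  refine Or.inr fun z hz => ?_
  rw [← e] at hz
  rcases hz with rfl | rfl | rfl | rfl <;>
    simp [swap_apply_def, h1, h2, h3, h4, h5, h6, h1.symm, h2.symm, h3.symm, h4.symm, h5.symm, h6.symm]

theorem three (hf : Function.Injective f) (hB : ∀ a, a ∈ B ↔ ∃ i, f i = a) (hx : ∀ a, x a ∈ B ↔ a ∈ B) (h1 : Q x B)
    (h2 : Q x Bᶜ) :
    IsThreeCycle (swap (f 0) (f 1) * swap (f 0) (f 2) * x * (swap (f 0) (f 1) * swap (f 0) (f 2) * x)) := by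
  obtain ⟨p, hp⟩ := exists_res hf hB hx
  have hm : ∀ i, f i ∈ B := fun i => (hB _).2 ⟨i, rfl⟩
  have h3 := P_three p ((Q_iff hf hB hp).1 h1)
  have h4 : ∀ i, (swap (f 0) (f 1) * swap (f 0) (f 2) * x) (f i) = f ((swap 0 1 * swap 0 2 * p : Perm (Fin 4)) i) :=
    fun i => by simp only [mul_apply, hp, hf.swap_apply]
  have h5 : ∀ z, z ∉ B → (swap (f 0) (f 1) * swap (f 0) (f 2) * x) z = x z := fun z hz => by
    have := (hx z).not.2 hz
    rw [mul_apply, mul_apply, swap_fix (hm 0) (hm 2) _ this, swap_fix (hm 0) (hm 1) _ this]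
  rw [← card_support_eq_three_iff]
  refine Eq.trans ?_ h3
  refine Eq.trans ?_ (Finset.card_image_of_injective _ hf)
  congr 1
  ext z
  rw [mem_support, Finset.mem_image]
  by_cases hz : z ∈ B
  · obtain ⟨i, rfl⟩ := (hB z).1 hz
    rw [mul_apply, h4, h4, hf.ne_iff]
    exact ⟨fun h => ⟨i, mem_support.2 h, rfl⟩, fun ⟨j, hj, e⟩ => hf e ▸ mem_support.1 hj⟩
  · rw [mul_apply, h5 z hz, h5 _ ((hx z).not.2 hz), h2.sq z hz]
    exact iff_of_false (by simp) fun ⟨j, _, e⟩ => hz (e ▸ hm j)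

end N8c

open N8c in
theorem boxN8c : BoxN8c := fun Ω _ _ X H B s h8 hB hf => by
  have hB' : Bᶜ.ncard = 4 := by
    have := Set.ncard_add_ncard_compl B
    rw [Nat.card_eq_fintype_card] at this
    omega
  obtain ⟨f, fi, fB⟩ := exists_f hB
  obtain ⟨f', -, fB'⟩ := exists_f hB'
  have hm : ∀ i, f i ∈ B := fun i => (fB _).2 ⟨i, rfl⟩
  let E : Setoid Ω := ⟨fun a b => a ∈ B ↔ b ∈ B, fun _ => Iff.rfl, Iff.symm, Iff.trans⟩
  have hE : Sys H E := by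
    refine ⟨fun g hg a b hab => ?_, ⟨f 0, f 1, fi.ne (by decide), iff_of_true (hm 0) (hm 1)⟩,
      ⟨f 0, f' 0, fun h => (fB' _).2 ⟨0, rfl⟩ (h.1 (hm 0))⟩⟩
    rcases hf g hg with h | h
    · exact (h a).trans (Iff.trans hab (h b).symm)
    · exact (h a).trans (Iff.trans (not_congr hab) (h b).symm)
  have hSw : Sw X B ≤ St X E := fun g hg => ⟨hg.1, fun a b => iff_congr (hg.2 a) (hg.2 b)⟩
  have hc : swap (f 0) (f 1) * swap (f 0) (f 2) ∈ St X E :=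
    hSw ⟨s.alt (swap_mul_mem_alt (fi.ne (by decide)) (fi.ne (by decide))), fun a =>
      (swap_pres (hm 0) (hm 1) _).trans (swap_pres (hm 0) (hm 2) _)⟩
  rcases (hE.le_St s.lt.le).eq_or_lt with e | e
  · exact Or.inl ⟨_, e ▸ hc, Or.inl
      (isThreeCycle_swap_mul_swap_same (fi.ne (by decide)) (fi.ne (by decide)) (fi.ne (by decide)))⟩
  have hV : ∀ g ∈ H, ∀ x ∈ V X B hB hB', g * x * g⁻¹ ∈ V X B hB hB' := fun g hg x hx => by
    have h0 : g * x * g⁻¹ ∈ X := X.mul_mem (X.mul_mem (s.lt.le hg) hx.1.1) (X.inv_mem (s.lt.le hg))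
    rcases hf g hg with h | h
    · exact ⟨⟨h0, pres_conj hx.1.2 h⟩, hx.2.1.conj h, hx.2.2.conj fun a => not_congr (h a)⟩
    · exact ⟨⟨h0, pres_conj (B := Bᶜ) (fun a => not_congr (hx.1.2 a)) h⟩, hx.2.2.conj h,
        hx.2.1.conj fun a => (not_congr (h a)).trans not_not⟩
  rcases s.le_or_mul (s.mem_ov e (hE.St_lt s)) (N := V X B hB hB') (fun x hx => hSw hx.1) hV with h | h
  · refine Or.inr ⟨fun a ha b hb c hc d hd h1 h2 h3 h4 h5 h6 => h ⟨⟨s.alt (swap_mul_mem_alt h1 h6), fun z =>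
        (swap_pres ha hb _).trans (swap_pres hc hd _)⟩, dbl hB ha hb hc hd h1 h2 h3 h4 h5 h6, Or.inl fun z hz => ?_⟩,
      fun a ha b hb c hc d hd h1 h2 h3 h4 h5 h6 => h ⟨⟨s.alt (swap_mul_mem_alt h1 h6), fun z =>
        not_iff_not.1 ((swap_pres ha hb _).trans (swap_pres hc hd _))⟩, Or.inl fun z hz => ?_,
        dbl hB' ha hb hc hd h1 h2 h3 h4 h5 h6⟩⟩
    · rw [mul_apply, swap_fix hc hd z hz, swap_fix ha hb z hz]
    · rw [mul_apply, swap_fix hc hd z (not_not.2 hz), swap_fix ha hb z (not_not.2 hz)]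
  · obtain ⟨k, hk, x, hx, e⟩ := h _ hc
    have hx' := inv_mem hx
    have h1 : swap (f 0) (f 1) * swap (f 0) (f 2) * x⁻¹ ∈ H := by
      rw [e, mul_inv_cancel_right]
      exact hk
    exact Or.inl ⟨_, H.mul_mem h1 h1, Or.inl (three fi fB hx'.1.2 hx'.2.1 hx'.2.2)⟩

end Cfsg.Agent.SM.NP
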