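import Cfsg.Agent.SM.NP.S6
import Cfsg.Agent.S0000
import Cfsg.Agent.S0254
import Cfsg.Agent.S0720
import Cfsg.Agent.H384.TwoTransMain
import Cfsg.Agent.H138.HT.AltP

/-!
# SM (S3570), `H` not primitive: the box P4 (helper23)

Degree at least 11: `boxS6`. Degree 10: the group is doubly transitive (Wielandt), its order is divisible by 27, so its
socle is not `L₂(9)`.
-/

set_option autoImplicit false
set_option linter.unusedSectionVars false

namespace Cfsg.Agent.SM.NP

open Equiv Equiv.Perm Subgroup MulAction Cfsg.Agent.H384.TwoTrans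

namespace P4

variable {Ω : Type} [Fintype Ω] [DecidableEq Ω] {M : Subgroup (Perm Ω)} {τ : Perm Ω}

theorem fresh (s : Finset Ω) (h : s.card < Fintype.card Ω) : ∃ y, y ∉ s := by
  obtain ⟨y, -, hy⟩ := Finset.exists_mem_notMem_of_card_lt_card (s := s) (t := Finset.univ) h
  exact ⟨y, hy⟩

theorem fresh_list (l : List Ω) (h : l.length < Fintype.card Ω) : ∃ y, y ∉ l := by
  obtain ⟨y, hy⟩ := fresh l.toFinset ((List.toFinset_card_le l).trans_lt h)
  exact ⟨y, fun k => hy (List.mem_toFinset.2 k)⟩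

theorem tau_ne (hτ : Mat τ) {a b : Ω} (h : b ≠ τ a) : a ≠ τ b := fun e => h (by rw [e, hτ.inv])

/-- the doubly transitive groups of degree ten -/
theorem known10 {T : Type} [Group T] {n : ℕ} (h : Known2 T n) (hn : n = 10) :
    Nonempty (T ≃* alternatingGroup (Fin 10)) ∨ Nonempty (T ≃* alternatingGroup (Fin 6)) := by
  cases h with
  | alt n h5 e => subst hn; exact Or.inl e
  | psl F d n hd hd2 e h1 =>
    subst hn
    right
    obtain ⟨q, hq⟩ : ∃ q, Fintype.card F = q := ⟨_, rfl⟩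
    have h2 : 2 ≤ q := hq ▸ Fintype.one_lt_card
    rw [hq] at h1
    have h3 : 1 ≤ q ^ d := Nat.one_le_pow _ _ (by omega)
    have h4 : q ^ d + 9 = 10 * q := by omega
    have h5 : q ∣ 9 := by
      have h6 : q ∣ q ^ d := dvd_pow_self q (by omega)
      exact (Nat.dvd_add_right h6).1 (h4 ▸ Dvd.intro_left 10 rfl)
    have h7 : q ≤ 9 := Nat.le_of_dvd (by norm_num) h5
    have h8 : q = 3 ∨ q = 9 := by
      interval_cases q <;> omega
    rcases h8 with rfl | rfl
    · exfalso
      rcases Nat.lt_or_ge d 3 with h9 | h9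
      · obtain rfl : d = 2 := by omega
        omega
      · have := Nat.pow_le_pow_right (by norm_num : 0 < 3) h9
        omega
    · obtain rfl : d = 2 := by
        by_contra h9
        have := Nat.pow_le_pow_right (by norm_num : 0 < 9) (by omega : 3 ≤ d)
        omega
      obtain ⟨e⟩ := e
      obtain ⟨e'⟩ := S0254.result hq
      exact ⟨e.trans e'⟩
  | sp F m n hF hm e h1 =>
    exfalso
    have h2 : 2 ^ 2 ∣ 2 ^ (m - 1) := pow_dvd_pow 2 (by omega)
    have h3 : 2 ^ 2 ∣ n := by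
      rcases h1 with h1 | h1 <;> exact h1 ▸ h2.mul_right _
    omega
  | psu F q n hq hF e h1 =>
    have := Nat.pow_le_pow_left hq 3
    omega
  | sz F m n hm hF e h1 =>
    have h2 : 2 ^ 3 ≤ 2 ^ (2 * m + 1) := Nat.pow_le_pow_right (by norm_num) (by omega)
    have h3 := Nat.pow_le_pow_left (hF ▸ h2 : 2 ^ 3 ≤ Fintype.card F) 2
    omega
  | ree K m n hm hK e h1 =>
    have h2 : 3 ^ 3 ≤ 3 ^ (2 * m + 1) := Nat.pow_le_pow_right (by norm_num) (by omega)
    have h3 := Nat.pow_le_pow_left (hK ▸ h2 : 3 ^ 3 ≤ Fintype.card K) 3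
    omega
  | _ => omega

/-- a doubly transitive group of degree ten whose order is divisible by 27 -/
theorem alt_of_27 (hn : Fintype.card Ω = 10) (h2 : IsMultiplyPretransitive M Ω 2) (h27 : 27 ∣ Nat.card M) :
    alternatingGroup Ω ≤ M := by
  have hn' : Nat.card Ω = 10 := by rw [Nat.card_eq_fintype_card, hn]
  rcases reduction (G := M) (Ω := Ω) h2 (by omega) with ⟨N, -, -, -, ⟨p, hp, h1⟩, h3, -⟩ | ⟨T, A⟩
  · exfalso
    obtain ⟨a, -⟩ := fresh (∅ : Finset Ω) (by rw [Finset.card_empty]; omega)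
    have htr : IsPretransitive N Ω := ⟨fun x y => by
      obtain ⟨n, hn, e⟩ := h3 x y
      exact ⟨⟨n, hn⟩, e⟩⟩
    have h4 : 10 ∣ Nat.card N := by
      rw [← hn', ← index_stabilizer_of_transitive N a]
      exact index_dvd_card _
    have key : ∀ r : ℕ, r.Prime → r ∣ 10 → r = p := fun r hr h5 => by
      have := Fact.mk hr
      obtain ⟨x, hx⟩ := exists_prime_orderOf_dvd_card' (G := N) r (h5.trans h4)
      have h6 : x ^ p = 1 := Subtype.ext (h1 x.1 x.2)
      exact (Nat.prime_dvd_prime_iff_eq hr hp).1 (hx ▸ orderOf_dvd_of_pow_eq_one h6)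
    have h5 := key 2 Nat.prime_two (by norm_num)
    have h6 := key 5 Nat.prime_five (by norm_num)
    omega
  · have := A.normal
    rcases known10 (H384.TwoTransMain.main (fun _ _ _ _ => S0000.result) A) hn' with ⟨⟨e⟩⟩ | ⟨⟨e⟩⟩
    · apply alternatingGroup_le_of_index_le_two
      have h3 : Nat.card T ≤ Nat.card M := Nat.le_of_dvd Nat.card_pos (card_subgroup_dvd_card T)
      have h4 : 2 * Nat.card T = Nat.factorial 10 := by
        rw [Nat.card_congr e.toEquiv, two_mul_nat_card_alternatingGroup, Nat.card_perm, Nat.card_fin]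
      have h5 := M.index_mul_card
      rw [Nat.card_perm, hn'] at h5
      have h6 : 0 < Nat.card M := Nat.card_pos
      by_contra h7
      have h8 : 3 * Nat.card M ≤ M.index * Nat.card M := Nat.mul_le_mul_right _ (by omega)
      omega
    · exfalso
      have h3 : Nat.card M ∣ Nat.card (MulAut T) := by
        refine card_dvd_of_injective (MulAut.conjNormal : M →* MulAut T)
          ((injective_iff_map_eq_one _).2 fun g hg => ?_)
        have h1 : g ∈ centralizer (T : Set M) := fun t ht => by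
          have h4 := congrArg (fun φ : MulAut T => (φ ⟨t, ht⟩ : M)) hg
          exact (mul_inv_eq_iff_eq_mul.1 h4).symm
        rwa [A.cent] at h1
      rw [Nat.card_congr (MulAut.congr e).toEquiv] at h3
      have h4 := h27.trans (h3.trans H138.HT.card_aut_six_dvd)
      omega

/-- the orbits of a point stabiliser meet all other edges -/
theorem orb_edge (hn : 10 ≤ Fintype.card Ω) (hτ : Mat τ) (hL : Lifts M τ) {a b c : Ω} (h1 : b ≠ a) (h2 : b ≠ τ a)
    (h3 : c ≠ a) (h4 : c ≠ τ a) : c ∈ orbit (stabilizer M a) b ∨ τ c ∈ orbit (stabilizer M a) b := by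
  by_cases h5 : c = b
  · left
    rw [h5]
    exact mem_orbit_self b
  by_cases h6 : c = τ b
  · right
    rw [h6, hτ.inv]
    exact mem_orbit_self b
  obtain ⟨d, hd⟩ := fresh_list [a, τ a, b, τ b, c, τ c] (by simp only [List.length_cons, List.length_nil]; omega)
  simp only [List.mem_cons, List.not_mem_nil, or_false, not_or] at hd
  obtain ⟨d1, d2, d3, d4, d5, d6⟩ := hd
  obtain ⟨r, hr, -, e, -, hf⟩ := hL b c d h5 h6 d3 d4 d5 d6
  have ha : r a = a := hf a h1.symm (tau_ne hτ h2) h3.symm (tau_ne hτ h4) (Ne.symm d1) (tau_ne hτ d2)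
  rcases e with e | e
  · exact Or.inl ⟨⟨⟨r, hr⟩, ha⟩, e⟩
  · exact Or.inr ⟨⟨⟨r, hr⟩, ha⟩, e⟩

theorem four_le (hn : 10 ≤ Fintype.card Ω) (hτ : Mat τ) (hL : Lifts M τ) {a b : Ω} (h1 : b ≠ a) (h2 : b ≠ τ a) :
    4 ≤ (orbit (stabilizer M a) b).ncard := by
  have h3 : (Set.univ : Set Ω) ⊆ ({a, τ a} ∪ orbit (stabilizer M a) b) ∪ τ '' orbit (stabilizer M a) b := by
    intro c _
    by_cases h3 : c = a
    · exact Or.inl (Or.inl (Or.inl h3))
    by_cases h4 : c = τ a
    · exact Or.inl (Or.inl (Or.inr h4))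
    rcases orb_edge hn hτ hL h1 h2 h3 h4 with h | h
    · exact Or.inl (Or.inr h)
    · exact Or.inr ⟨τ c, h, hτ.inv c⟩
  have h4 := Set.ncard_le_ncard h3 (Set.toFinite _)
  have h5 := Set.ncard_union_le ({a, τ a} ∪ orbit (stabilizer M a) b) (τ '' orbit (stabilizer M a) b)
  have h6 := Set.ncard_union_le ({a, τ a} : Set Ω) (orbit (stabilizer M a) b)
  have h7 : ({a, τ a} : Set Ω).ncard = 2 := Set.ncard_pair (hτ.ne a).symm
  rw [Set.ncard_image_of_injective _ τ.injective] at h5
  rw [Set.ncard_univ, Nat.card_eq_fintype_card] at h4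
  omega

theorem two_trans (hn : Fintype.card Ω = 10) (hτ : Mat τ) (hL : Lifts M τ) (hp : IsPreprimitive M Ω) :
    IsMultiplyPretransitive M Ω 2 := by
  obtain ⟨a, -⟩ := fresh (∅ : Finset Ω) (by rw [Finset.card_empty]; omega)
  rcases S0720.result (p := 5) Nat.prime_five (by omega) M hp a with h | ⟨-, k, hk0, hk, h⟩
  · exact h
  exfalso
  obtain rfl : k = 1 := by
    by_contra h1
    have h2 : 2 ^ 2 ≤ k ^ 2 := Nat.pow_le_pow_left (by omega) 2
    omega
  have h6 : ∀ b, b ≠ a → b ≠ τ a → (orbit (stabilizer M a) b).ncard = 6 := fun b h1 h2 => by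
    have h3 := h b h1
    have h4 := four_le hn.ge hτ hL h1 h2
    rw [Nat.card_coe_set_eq] at h3
    omega
  obtain ⟨b, hb⟩ := fresh_list [a, τ a] (by simp only [List.length_cons, List.length_nil]; omega)
  simp only [List.mem_cons, List.not_mem_nil, or_false, not_or] at hb
  obtain ⟨c, hc⟩ : ∃ c, c ∉ ({a, τ a} : Set Ω) ∪ orbit (stabilizer M a) b := by
    by_contra hcon
    push Not at hcon
    have h3 : (Set.univ : Set Ω) ⊆ {a, τ a} ∪ orbit (stabilizer M a) b := fun c _ => hcon c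
    have h4 := Set.ncard_le_ncard h3 (Set.toFinite _)
    have h5 := Set.ncard_union_le ({a, τ a} : Set Ω) (orbit (stabilizer M a) b)
    have h7 : ({a, τ a} : Set Ω).ncard = 2 := Set.ncard_pair (hτ.ne a).symm
    rw [Set.ncard_univ, Nat.card_eq_fintype_card] at h4
    have := h6 b hb.1 hb.2
    omega
  have hc1 : c ≠ a := fun e => hc (Or.inl (Or.inl e))
  have hc2 : c ≠ τ a := fun e => hc (Or.inl (Or.inr e))
  have hd : Disjoint (orbit (stabilizer M a) b) (orbit (stabilizer M a) c) := by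
    rw [Set.disjoint_left]
    intro x h1 h2
    refine hc (Or.inr ?_)
    rw [← orbit_eq_iff.2 h1, orbit_eq_iff.2 h2]
    exact mem_orbit_self c
  have h3 := Set.ncard_union_eq hd (Set.toFinite _) (Set.toFinite _)
  have h4 := Set.ncard_le_ncard (Set.subset_univ (orbit (stabilizer M a) b ∪ orbit (stabilizer M a) c)) (Set.toFinite _)
  rw [Set.ncard_univ, Nat.card_eq_fintype_card, h3, h6 b hb.1 hb.2, h6 c hc1 hc2] at h4
  omega

/-- an element of order three which moves at most six points -/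
theorem exists_lift (hn : 10 ≤ Fintype.card Ω) (hL : Lifts M τ) :
    ∃ r ∈ M, r ^ 3 = 1 ∧ r ≠ 1 ∧ r.support.card ≤ 6 := by
  obtain ⟨a, -⟩ := fresh (∅ : Finset Ω) (by rw [Finset.card_empty]; omega)
  obtain ⟨b, hb⟩ := fresh_list [a, τ a, τ⁻¹ a] (by simp only [List.length_cons, List.length_nil]; omega)
  simp only [List.mem_cons, List.not_mem_nil, or_false, not_or] at hb
  obtain ⟨c, hc⟩ := fresh_list [a, τ a, b, τ b] (by simp only [List.length_cons, List.length_nil]; omega)
  simp only [List.mem_cons, List.not_mem_nil, or_false, not_or] at hc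
  obtain ⟨r, hr, h3, e, -, hf⟩ := hL a b c hb.1 hb.2.1 hc.1 hc.2.1 hc.2.2.1 hc.2.2.2
  refine ⟨r, hr, h3, ?_, ?_⟩
  · rintro rfl
    rcases e with e | e
    · exact hb.1 e.symm
    · exact hb.2.2 (Perm.eq_inv_iff_eq.2 e.symm)
  · have h1 : r.support ⊆ [a, τ a, b, τ b, c, τ c].toFinset := by
      intro x hx
      by_contra h2
      simp only [List.mem_toFinset, List.mem_cons, List.not_mem_nil, or_false, not_or] at h2
      exact mem_support.1 hx (hf x h2.1 h2.2.1 h2.2.2.1 h2.2.2.2.1 h2.2.2.2.2.1 h2.2.2.2.2.2)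
    exact (Finset.card_le_card h1).trans (List.toFinset_card_le _)

end P4

/-- **[P4]** -/
theorem boxP4 : BoxP4 := by
  intro Ω _ _ M τ hn hτ hL hp
  obtain ⟨r, hr, h3, h1, hs⟩ := P4.exists_lift hn hL
  rcases hn.lt_or_eq with h | h
  · exact boxS6 Ω M r h hr h3 h1 hs hp
  have h2 := P4.two_trans h.symm hτ hL hp
  refine P4.alt_of_27 h.symm h2 ?_
  obtain ⟨x, hx⟩ := P4.fresh r.support (by omega)
  obtain ⟨y, hy⟩ := P4.fresh (insert x r.support) ((Finset.card_insert_le _ _).trans_lt (by omega))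
  rw [Finset.mem_insert, not_or] at hy
  have h4 : ({x, y} : Set Ω).ncard = 2 := Set.ncard_pair (Ne.symm hy.1)
  have h5 := h2.index_of_fixingSubgroup_mul h4
  rw [Nat.card_eq_fintype_card, ← h] at h5
  have h6 : (fixingSubgroup M ({x, y} : Set Ω)).index = 90 := by
    have e1 : Nat.factorial (10 - 2) = 40320 := rfl
    have e2 : Nat.factorial 10 = 90 * 40320 := rfl
    rw [e1, e2] at h5
    exact Nat.eq_of_mul_eq_mul_right (by norm_num) h5
  have h7 : (⟨r, hr⟩ : M) ∈ fixingSubgroup M ({x, y} : Set Ω) := by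
    rw [mem_fixingSubgroup_iff]
    rintro z (rfl | rfl)
    · exact notMem_support.1 hx
    · exact notMem_support.1 hy.2
  have h8 : 3 ∣ Nat.card (fixingSubgroup M ({x, y} : Set Ω)) := by
    have h9 : orderOf (⟨r, hr⟩ : M) = 3 := by
      rw [Subgroup.orderOf_mk]
      exact orderOf_eq_prime (hp := ⟨Nat.prime_three⟩) h3 h1
    exact h9 ▸ Subgroup.orderOf_dvd_natCard _ h7
  have h9 := (fixingSubgroup M ({x, y} : Set Ω)).index_mul_card
  rw [h6] at h9
  omega

end Cfsg.Agent.SM.NP
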