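import Cfsg.Agent.SM.NP.Diag
import Cfsg.Agent.SM.NP.Tool
import Cfsg.Agent.S0679
import Cfsg.Agent.S0713
import Cfsg.Agent.S1601
import Cfsg.Agent.H384.PrimeDeg
import Cfsg.Agent.H409.PrimeBase

/-!
# SM (S3570), `H` not primitive: two blocks of size six, the exotic diagonal (helper39)

`M` is sharply `5`-transitive; the lift `y` of a `3`-cycle lies in a Sylow `3`-subgroup of the stabiliser of its three
fixed points, an abelian group which is regular on the other nine points.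
-/

set_option autoImplicit false
set_option linter.unusedSectionVars false

namespace Cfsg.Agent.SM.NP

open Equiv Equiv.Perm Subgroup MulAction

namespace X12

variable {Ω : Type} [Fintype Ω] [DecidableEq Ω]

theorem per {O : Set Ω} {d : Perm Ω} (h : Pv O d) {x : Ω} (hx : x ∈ O) : ∃ n, 0 < n ∧ n ≤ O.ncard ∧ (d ^ n) x = x := by
  classical
  let f : Perm O := d.subtypePerm h
  refine ⟨Function.minimalPeriod f ⟨x, hx⟩, Function.minimalPeriod_pos_of_mem_periodicPts ⟨orderOf f, orderOf_pos f, ?_⟩,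
    Function.minimalPeriod_le_card.trans ?_, ?_⟩
  · change f^[orderOf f] _ = _
    rw [iterate_eq_pow, pow_orderOf_eq_one]
    rfl
  · rw [← Nat.card_eq_fintype_card, Nat.card_coe_set_eq]
  · have h1 := Function.iterate_minimalPeriod (f := f) (x := ⟨x, hx⟩)
    rw [iterate_eq_pow] at h1
    exact congrArg Subtype.val ((DFunLike.congr_fun (subtypePerm_pow d _ h) (⟨x, hx⟩ : O)).symm.trans h1)

theorem pow_res {B : Set Ω} {d c : Perm Ω} (hc : Pv B c) (h : ∀ a ∈ B, d a = c a) (n : ℕ) :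
    ∀ a ∈ B, (d ^ n) a = (c ^ n) a := by
  induction n with
  | zero => exact fun _ _ => rfl
  | succ n ih => exact fun a ha => by rw [pow_succ, pow_succ, mul_apply, mul_apply, h a ha, ih _ ((hc a).2 ha)]

theorem fix_mul {d : Perm Ω} {n m : ℕ} {x : Ω} (h : (d ^ n) x = x) (hm : n ∣ m) : (d ^ m) x = x := by
  obtain ⟨k, rfl⟩ := hm
  rw [pow_mul]
  exact pow_apply_eq_self_of_apply_eq_self h k

theorem cyc (s : Finset Ω) (h : 2 ≤ s.card) : ∃ c : Perm Ω, c.IsCycle ∧ c.support = s := by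
  refine ⟨s.toList.formPerm, List.isCycle_formPerm s.nodup_toList (by rwa [Finset.length_toList]), ?_⟩
  rw [List.support_formPerm_of_nodup _ s.nodup_toList, Finset.toList_toFinset]
  intro x hx
  have h1 := congrArg List.length hx
  rw [Finset.length_toList, List.length_singleton] at h1
  omega

/-- the cycle of `x` under an element of order three -/
def T (y : Perm Ω) (x : Ω) : Finset Ω := {x, y x, y (y x)}

section

variable {y : Perm Ω} {x z : Ω}

theorem T_ind {P : Ω → Prop} (hP : ∀ w, P w → P (y w)) (hx : P x) (hz : z ∈ T y x) : P z := by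
  simp only [T, Finset.mem_insert, Finset.mem_singleton] at hz
  rcases hz with rfl | rfl | rfl
  exacts [hx, hP _ hx, hP _ (hP _ hx)]

theorem T_ex (hz : z ∈ T y x) : ∃ n : ℕ, (y ^ n) x = z :=
  T_ind (P := fun w => ∃ n : ℕ, (y ^ n) x = w) (fun w ⟨n, h⟩ => ⟨n + 1, by rw [pow_succ', mul_apply, h]⟩) ⟨0, rfl⟩ hz

theorem T_self : x ∈ T y x := Finset.mem_insert_self _ _

variable (hy : y ^ 3 = 1)
include hy

theorem three (x : Ω) : y (y (y x)) = x := DFunLike.congr_fun hy x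

theorem T_step (hz : z ∈ T y x) : y z ∈ T y x := by
  simp only [T, Finset.mem_insert, Finset.mem_singleton] at hz ⊢
  rcases hz with rfl | rfl | rfl
  exacts [Or.inr (Or.inl rfl), Or.inr (Or.inr rfl), Or.inl (three hy x)]

theorem T_symm (hz : z ∈ T y x) : x ∈ T y z := by
  refine T_ind (P := fun w => x ∈ T y w) (fun w hw => ?_) T_self hz
  refine T_ind (P := fun v => v ∈ T y (y w)) (fun v => T_step hy) ?_ hw
  have h1 := T_step hy (T_step hy (T_self (y := y) (x := y w)))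
  rwa [three hy] at h1

theorem T_card (hx : y x ≠ x) : (T y x).card = 3 := by
  refine Finset.card_eq_three.2 ⟨_, _, _, hx.symm, fun h => hx ?_, fun h => hx (y.injective h).symm, rfl⟩
  exact (congrArg y h).trans (three hy x)

theorem cover {C : Set Ω} (hC : C.ncard = 6) (h1 : Pv C y) (h2 : ∀ w ∈ C, y w ≠ w) (hx : x ∈ C) (hz : z ∈ C)
    (h : z ∉ T y x) {w : Ω} (hw : w ∈ C) : w ∈ T y x ∨ w ∈ T y z := by
  have h3 : Disjoint (T y x) (T y z) := Finset.disjoint_left.2 fun v h4 h5 =>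
    h (T_ind (P := fun u => u ∈ T y x) (fun u => T_step hy) h4 (T_symm hy h5))
  have h4 : ((T y x ∪ T y z : Finset Ω) : Set Ω) = C := by
    refine Set.eq_of_subset_of_ncard_le (fun v hv => ?_) ?_
    · rcases Finset.mem_union.1 hv with h5 | h5
      · exact T_ind (P := fun u => u ∈ C) (fun u => (h1 u).2) hx h5
      · exact T_ind (P := fun u => u ∈ C) (fun u => (h1 u).2) hz h5
    · rw [Set.ncard_coe_finset, Finset.card_union_of_disjoint h3, T_card hy (h2 x hx), T_card hy (h2 z hz), hC]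
  exact Finset.mem_union.1 (h4.ge hw)

end

/-- doubly transitive groups of degree twelve -/
theorem five (h12 : Fintype.card Ω = 12) {M : Subgroup (Perm Ω)} (hA : ¬ alternatingGroup Ω ≤ M) (h1 : Tr M) {a : Ω}
    (h2 : ∀ x z, x ≠ a → z ≠ a → ∃ m ∈ M, m a = a ∧ m x = z) (h8 : 8 ∣ Nat.card (stabilizer M a)) :
    IsMultiplyPretransitive M Ω 5 ∧ Nat.card M = 95040 := by
  classical
  have := tr_iff.1 h1
  have h12' : Nat.card Ω = 12 := by rw [Nat.card_eq_fintype_card, h12]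
  let α := ↥(SubMulAction.ofStabilizer M a)
  have : Fintype α := Fintype.ofFinite α
  have hα' : Nat.card α = 11 := by
    have h3 : Nat.card α + 1 = Nat.card Ω := SubMulAction.nat_card_ofStabilizer_add_one_eq M a
    omega
  have hα : Fintype.card α = 11 := by rw [← Nat.card_eq_fintype_card, hα']
  have : IsPretransitive (stabilizer M a) α := ⟨fun x z => by
    obtain ⟨m, hm, h3, h4⟩ := h2 x z x.2 z.2
    exact ⟨⟨⟨m, hm⟩, h3⟩, Subtype.ext h4⟩⟩
  have : FaithfulSMul (stabilizer M a) α := ⟨fun {x y} hxy => Subtype.ext (Subtype.ext (Equiv.ext fun β => by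
    by_cases hβ : β = a
    · rw [hβ]
      exact (show (x : M) • a = a from x.2).trans (show (y : M) • a = a from y.2).symm
    · exact congrArg Subtype.val (hxy ⟨β, hβ⟩)))⟩
  have up : ∀ n, IsMultiplyPretransitive (H409.permGroup (stabilizer M a) α) α n → IsMultiplyPretransitive M Ω (n + 1) :=
    fun n h => SubMulAction.ofStabilizer.isMultiplyPretransitive.2 ⟨fun x y => by
      obtain ⟨⟨_, g, rfl⟩, hg⟩ := h.exists_smul_eq x y
      exact ⟨g, Function.Embedding.ext fun i => DFunLike.congr_fun hg i⟩⟩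
  have := H409.permGroup_trans (G := stabilizer M a) (Ω := α)
  have hK := Nat.card_congr (H409.permGroupEquiv (G := stabilizer M a) (Ω := α)).toEquiv
  have hs : ¬ Group.IsSolvable (stabilizer M a) := fun hs =>
    absurd (h8.trans (H384.PrimeDeg.card_dvd hs (p := 11) (by norm_num) hα')) (by norm_num)
  have hA' : ¬ alternatingGroup α ≤ H409.permGroup (stabilizer M a) α := fun h3 => by
    refine hA (_root_.IsMultiplyPretransitive.alternatingGroup_le Ω M ?_)
    rw [h12']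
    refine up 9 ⟨fun x y => ?_⟩
    have h4 := alternatingGroup.isMultiplyPretransitive α
    rw [hα'] at h4
    obtain ⟨g, hg⟩ := h4.exists_smul_eq x y
    exact ⟨⟨g, h3 g.2⟩, hg⟩
  rcases S0679.result hα _ (H409.not_solvable_permGroup (Ω := α) hs) hA' with ⟨h4, hst⟩ | ⟨⟨e⟩⟩
  · refine ⟨up 4 h4, ?_⟩
    obtain ⟨x⟩ : Nonempty (Fin 4 ↪ α) := Function.Embedding.nonempty_of_card_le (by rw [Fintype.card_fin, hα]; norm_num)
    have h5 := @index_stabilizer_of_transitive _ (Fin 4 ↪ α) _ _ x h4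
    rw [hst x, index_bot, Nat.card_eq_fintype_card (α := Fin 4 ↪ α), Fintype.card_embedding_eq, Fintype.card_fin, hα,
      ← hK] at h5
    rw [← (stabilizer M a).card_mul_index, index_stabilizer_of_transitive, h12', h5]
    decide
  · rw [hK, Nat.card_congr e.toEquiv, S1601.card_PSL] at h8
    exact absurd h8 (by norm_num)

/-- the Sylow `3`-subgroup of the stabiliser of three points -/
theorem exQ (h12 : Fintype.card Ω = 12) {M : Subgroup (Perm Ω)} (h5 : IsMultiplyPretransitive M Ω 5)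
    (hM : Nat.card M = 95040) {F : Set Ω} (hF : F.ncard = 3) {y : Perm Ω} (hyM : y ∈ M) (hy : y ^ 3 = 1)
    (hyF : ∀ x ∈ F, y x = x) : ∃ Q : Subgroup (Perm Ω), Q ≤ M ∧ y ∈ Q ∧ Nat.card Q = 9 ∧ (∀ g ∈ Q, ∀ x ∈ F, g x = x) ∧
      ∀ g ∈ Q, ∀ x, x ∉ F → g x = x → g = 1 := by
  have h12' : Nat.card Ω = 12 := by rw [Nat.card_eq_fintype_card, h12]
  have f3 : Fact (Nat.Prime 3) := ⟨Nat.prime_three⟩
  have key : ∀ (s : Set Ω) (k : ℕ), s.ncard = k → k ≤ 5 →
      Nat.card (fixingSubgroup M s) * Nat.factorial 12 = 95040 * Nat.factorial (12 - k) := fun s k hs hk => by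
    have h1 : IsMultiplyPretransitive M Ω k := isMultiplyPretransitive_of_le (n := 5) hk (by omega)
    have h2 := h1.index_of_fixingSubgroup_mul hs
    rw [h12'] at h2
    rw [← h2, ← mul_assoc, card_mul_index, hM]
  have h72 : Nat.card (fixingSubgroup M F) = 72 := by
    have h1 := key F 3 hF (by norm_num)
    norm_num [Nat.factorial] at h1
    omega
  let y' : fixingSubgroup M F := ⟨⟨y, hyM⟩, (mem_fixingSubgroup_iff _).2 hyF⟩
  have hp : IsPGroup 3 (zpowers y') := by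
    have h1 : orderOf y' ∣ 3 ^ 1 := orderOf_dvd_of_pow_eq_one (Subtype.ext (Subtype.ext hy))
    obtain ⟨k, -, hk⟩ := (Nat.dvd_prime_pow Nat.prime_three).1 h1
    exact IsPGroup.of_card (by rw [Nat.card_zpowers, hk])
  obtain ⟨P, hP⟩ := hp.exists_le_sylow
  have h9 : Nat.card (((P : Subgroup (fixingSubgroup M F)).map (Subgroup.subtype _)).map M.subtype) = 9 := by
    rw [card_map_of_injective M.subtype_injective, card_map_of_injective (subtype_injective _), P.card_eq_multiplicity,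
      h72, show 72 = 3 ^ 2 * 8 from rfl, Nat.factorization_mul (by norm_num) (by norm_num), Finsupp.add_apply,
      Nat.factorization_eq_zero_of_not_dvd (n := 8) (by norm_num), Nat.prime_three.factorization_pow,
      Finsupp.single_eq_same]
    rfl
  have hfix : ∀ g ∈ ((P : Subgroup (fixingSubgroup M F)).map (Subgroup.subtype _)).map M.subtype, ∀ x ∈ F, g x = x := by
    rintro _ ⟨_, ⟨g, -, rfl⟩, rfl⟩ x hx
    exact (mem_fixingSubgroup_iff _).1 g.2 x hx
  refine ⟨((P : Subgroup (fixingSubgroup M F)).map (Subgroup.subtype _)).map M.subtype, map_subtype_le _,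
    ⟨_, ⟨y', hP (mem_zpowers _), rfl⟩, rfl⟩, h9, hfix, fun g hg x hx h => ?_⟩
  have h8 : Nat.card (fixingSubgroup M (insert x F)) = 8 := by
    have h1 := key (insert x F) 4 (by rw [Set.ncard_insert_of_notMem hx, hF]) (by norm_num)
    norm_num [Nat.factorial] at h1
    omega
  have h1 : orderOf g ∣ 9 := h9 ▸ orderOf_dvd_natCard _ hg
  have h2 : orderOf (⟨g, map_subtype_le _ hg⟩ : M) ∣ 8 := h8 ▸ orderOf_dvd_natCard _ ((mem_fixingSubgroup_iff _).2 (by
    rintro z (rfl | hz)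
    exacts [h, hfix g hg z hz]))
  rw [orderOf_mk] at h2
  exact orderOf_eq_one_iff.1 (Nat.eq_one_of_dvd_coprimes (by norm_num) h1 h2)

variable {H M : Subgroup (Perm Ω)} {B : Set Ω}

/-- a lift of order three -/
theorem exY (hB' : Bᶜ.ncard = 6) (hF : Full H B) {c : Perm Ω} (hc : c.IsThreeCycle) (hcB : Sp B c)
    (h3 : ∀ d ∈ H, ∀ c : Perm Ω, c.IsThreeCycle → (∀ a, a ∉ B → c a = a) → (∀ a ∈ B, d a = c a) → ∀ a, a ∉ B → d a ≠ a) :
    ∃ y ∈ H, y ^ 3 = 1 ∧ Pv B y ∧ (∀ a ∈ B, y a = c a) ∧ ∀ a, a ∉ B → y a ≠ a := by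
  obtain ⟨d, hd, h1, h2⟩ := Dg.full_ex hF c hcB
  have h4 := pow_res hcB.pv h2
  have hc3 : c ^ 3 = 1 := hc.orderOf ▸ pow_orderOf_eq_one c
  have h5 : ∀ a ∈ B, (d ^ 4) a = c a := fun a ha => by rw [h4 4 a ha, pow_succ, hc3, one_mul]
  refine ⟨d ^ 4, H.pow_mem hd 4, Equiv.ext fun x => ?_, Pv.of_maps fun a ha => (h5 a ha).symm ▸ (hcB.pv a).2 ha, h5,
    h3 _ (H.pow_mem hd 4) c hc hcB h5⟩
  rw [← pow_mul]
  by_cases hx : x ∈ B
  · rw [h4 _ x hx, mul_comm, pow_mul, hc3, one_pow]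
  · obtain ⟨n, h6, h7, h8⟩ := per (Pv.compl h1) hx
    refine fix_mul h8 ?_
    have h9 : n % 3 = 0 := by
      by_contra h9
      refine h3 _ (H.pow_mem hd n) (c ^ n) ?_ (fun a ha => pow_apply_eq_self_of_apply_eq_self (hcB a ha) n) (h4 n) x hx h8
      rw [← pow_mod_orderOf, hc.orderOf]
      rcases (by omega : n % 3 = 1 ∨ n % 3 = 2) with h | h
      · rwa [h, pow_one]
      · rw [h, pow_two]
        exact hc.isThreeCycle_sq
    rw [hB'] at h7
    rcases (by omega : n = 3 ∨ n = 6) with rfl | rfl <;> norm_num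

theorem pv_of_fix (hf : Hf H B) {g : Perm Ω} (hg : g ∈ H) {a : Ω} (h : g a = a) : Pv B g :=
  (hf g hg).resolve_right fun h1 => by
    have h2 := h1 a
    rw [h] at h2
    exact iff_not_self h2

/-- the stabiliser of a point of `B` is transitive on the other block -/
theorem tr_compl (h12 : Fintype.card Ω = 12) (hB : B.ncard = 6) (hB' : Bᶜ.ncard = 6) (hf : Hf H B) (hF : Full H B)
    (hle : H ≤ M) (hp : IsPreprimitive M Ω) (hA : ¬ alternatingGroup Ω ≤ M) {y : Perm Ω} (hyH : y ∈ H) (hy : y ^ 3 = 1)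
    (hy2 : ∀ a, a ∉ B → y a ≠ a) {a : Ω} (ha : a ∈ B) (hya : y a = a) {w z : Ω} (hw : w ∉ B) (hz : z ∉ B) :
    ∃ h ∈ H, h a = a ∧ h w = z := by
  classical
  by_contra hcon
  let O : Set Ω := {v | ∃ h ∈ H, h a = a ∧ h w = v}
  have hO : ∀ d ∈ H, d a = a → Pv O d := fun d hd h => Pv.of_maps fun _ ⟨k, hk, h1, h2⟩ =>
    ⟨d * k, H.mul_mem hd hk, by rw [mul_apply, h1, h], by rw [mul_apply, h2]⟩
  have hOB : ∀ v ∈ O, v ∉ B := fun _ ⟨k, hk, h1, h2⟩ h3 => hw ((pv_of_fix hf hk h1 w).1 (h2 ▸ h3))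
  have hwO : w ∈ O := ⟨1, H.one_mem, rfl, rfl⟩
  have h1 : ∀ v ∈ T y w, v ∈ O := fun v => T_ind (P := fun u => u ∈ O) (fun u => (hO y hyH hya u).2) hwO
  have h2 : ∀ v ∈ T y z, v ∉ O := fun v => T_ind (P := fun u => u ∉ O) (fun u hu h => hu ((hO y hyH hya u).1 h)) hcon
  have h3 : ∀ v, v ∉ B → v ∈ T y w ∨ v ∈ T y z := fun v hv =>
    cover hy hB' (pv_of_fix hf hyH hya).compl hy2 hw hz (fun h => hcon (h1 z h)) hv
  obtain ⟨c, hc, hs⟩ := cyc (B.toFinset.erase a) (by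
    rw [Finset.card_erase_of_mem (Set.mem_toFinset.2 ha), ← Set.ncard_eq_toFinset_card', hB]; norm_num)
  have hc1 : ∀ x, x ∉ B.toFinset.erase a → c x = x := fun x hx => notMem_support.1 (hs ▸ hx)
  have hcB : Sp B c := fun x hx => hc1 x fun h => hx (Set.mem_toFinset.1 (Finset.mem_of_mem_erase h))
  have hc5 : c.support.card = 5 := by
    rw [hs, Finset.card_erase_of_mem (Set.mem_toFinset.2 ha), ← Set.ncard_eq_toFinset_card', hB]
  obtain ⟨d, hd, h4, h5⟩ := Dg.full_ex hF c hcB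
  have hda : d a = a := (h5 a ha).trans (hc1 a (Finset.notMem_erase a _))
  have h6 : ∀ (u v : Ω) (C : Set Ω), u ∉ B → Pv C d → (∀ x ∈ C, x ∈ T y u) → v ∈ C → (d ^ 6) v = v :=
    fun u v C hu h7 h8 hv => by
      obtain ⟨n, h9, h10, h11⟩ := per h7 hv
      have h12 : C.ncard ≤ 3 := by
        rw [← T_card hy (hy2 u hu), ← Set.ncard_coe_finset]
        exact Set.ncard_le_ncard h8
      refine fix_mul h11 ?_
      rcases (by omega : n = 1 ∨ n = 2 ∨ n = 3) with rfl | rfl | rfl <;> norm_num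
  have h7 : d ^ 6 = c := Equiv.ext fun x => by
    by_cases hx : x ∈ B
    · rw [pow_res hcB.pv h5 6 x hx, pow_succ, ← hc5, ← hc.orderOf, pow_orderOf_eq_one, one_mul]
    · rw [hcB x hx]
      by_cases hxO : x ∈ O
      · exact h6 w x O hw (hO d hd hda) (fun v hv => (h3 v (hOB v hv)).resolve_right fun h => h2 v h hv) hxO
      · exact h6 z x (Bᶜ ∩ Oᶜ) hz (fun v => and_congr (Pv.compl h4 v) ((hO d hd hda).compl v))
          (fun v hv => (h3 v hv.1).resolve_left fun h => hv.2 (h1 v h)) ⟨hx, hxO⟩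
  exact hA (S0713.result M hp Nat.prime_five (by omega) (by omega) hc hc5 (hle (h7 ▸ H.pow_mem hd 6)))

theorem eight (hB : B.ncard = 6) (hF : Full H B) (hle : H ≤ M) {a : Ω} (ha : a ∈ B) : 8 ∣ Nat.card (stabilizer M a) := by
  classical
  have r1 : ∀ d ∈ Sw H B, ∀ a, d a ∈ B ↔ a ∈ B := fun d hd => hd.2
  have hs := Dg.res_surj r1 hF fun d hd h => ⟨hd, h⟩
  have hc : Nat.card B = 6 := by rw [Nat.card_coe_set_eq, hB]
  have h1 := ((stabilizer (Perm B) (⟨a, ha⟩ : B)).comap (Dg.res _ B r1)).card_mul_index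
  rw [index_comap_of_surjective _ hs, index_stabilizer_of_transitive, hc] at h1
  have h2 := card_dvd_of_surjective _ hs
  rw [Nat.card_perm, hc, ← h1] at h2
  have h3 : 8 ∣ Nat.card ((stabilizer (Perm B) (⟨a, ha⟩ : B)).comap (Dg.res _ B r1)) :=
    Nat.dvd_of_mul_dvd_mul_right (by norm_num : 0 < 6) (Dvd.dvd.trans (by decide) h2)
  rw [← card_map_of_injective (Sw H B).subtype_injective] at h3
  rw [← card_map_of_injective M.subtype_injective]
  refine h3.trans (card_dvd_of_le ?_)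
  rintro _ ⟨d, hd, rfl⟩
  exact ⟨⟨d, hle d.2.1⟩, congrArg Subtype.val (show Dg.res _ B r1 d ⟨a, ha⟩ = ⟨a, ha⟩ from hd), rfl⟩

/-- the stabiliser of a point in a primitive overgroup mixes the blocks -/
theorem mix (hB : B.ncard = 6) (hB' : Bᶜ.ncard = 6) (ht : Tr H) (hf : Hf H B) (hle : H ≤ M) (hp : IsPreprimitive M Ω)
    (a : Ω) : ∃ m ∈ M, m a = a ∧ ∃ x ∈ B, m x ∉ B := by
  by_contra hcon
  push Not at hcon
  refine Sys.not_prim (E := ⟨fun x y => x ∈ B ↔ y ∈ B, fun _ => Iff.rfl, Iff.symm, Iff.trans⟩) ⟨fun m hm x y h => ?_, ?_, ?_⟩ hp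
  · obtain ⟨k, hk, h1⟩ := ht a (m a)
    have h2 := Pv.of_maps (hcon (k⁻¹ * m) (M.mul_mem (M.inv_mem (hle hk)) hm) (by rw [mul_apply, ← h1]; simp))
    have h3 : ∀ z, m z = k ((k⁻¹ * m) z) := fun z => by simp
    have h4 : (k⁻¹ * m) x ∈ B ↔ (k⁻¹ * m) y ∈ B := (h2 x).trans (Iff.trans h (h2 y).symm)
    change m x ∈ B ↔ m y ∈ B
    rw [h3 x, h3 y]
    rcases hf k hk with h5 | h5
    · rwa [h5, h5]
    · rw [h5, h5, h4]
  · obtain ⟨x, hx, y, hy, h⟩ := (Set.one_lt_ncard (s := B)).1 (by omega)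
    exact ⟨x, y, h, iff_of_true hx hy⟩
  · obtain ⟨x, hx⟩ := (Set.ncard_pos (s := B)).1 (by omega)
    obtain ⟨y, hy⟩ := (Set.ncard_pos (s := Bᶜ)).1 (by omega)
    exact ⟨x, y, fun h => hy (h.1 hx)⟩

end X12

open X12 in
theorem boxX12 : BoxX12 := by
  intro Ω _ _ X H B s h12 hB ht hf hF h3
  classical
  have hB' : Bᶜ.ncard = 6 := by
    have h1 := Set.ncard_add_ncard_compl B
    rw [Nat.card_eq_fintype_card, h12, hB] at h1
    omega
  obtain ⟨S, hS, hS3⟩ := Finset.exists_subset_card_eq (s := B.toFinset) (n := 3)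
    (by rw [← Set.ncard_eq_toFinset_card', hB]; norm_num)
  have hSB : ∀ x ∈ S, x ∈ B := fun x hx => Set.mem_toFinset.1 (hS hx)
  obtain ⟨c, -, hs⟩ := cyc S (by omega)
  have hc : c.IsThreeCycle := card_support_eq_three_iff.1 (hs ▸ hS3)
  have hc1 : ∀ x, x ∉ S → c x = x := fun x hx => notMem_support.1 (hs ▸ hx)
  obtain ⟨y, hyH, hy, hyB, hy1, hy2⟩ := exY hB' hF hc (fun x hx => hc1 x fun h => hx (hSB x h)) h3
  have hF3 : (B \ S).ncard = 3 := by rw [Set.ncard_sdiff hSB, hB, Set.ncard_coe_finset, hS3]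
  have hyF : ∀ x ∈ B \ S, y x = x := fun x hx => (hy1 x hx.1).trans (hc1 x hx.2)
  obtain ⟨a, ha⟩ := (Set.ncard_pos (s := B \ S)).1 (by omega)
  obtain ⟨p, hp⟩ := Finset.card_pos.1 (by omega : 0 < S.card)
  obtain ⟨b, hb⟩ := (Set.ncard_pos (s := Bᶜ)).1 (by omega)
  have hT : T y p = S := by
    refine Finset.eq_of_subset_of_card_le (fun x => T_ind (P := fun u => u ∈ S) (fun u hu => ?_) hp) ?_
    · rw [hy1 u (hSB u hu), ← hs, apply_mem_support, hs]
      exact hu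
    · rw [hS3, T_card hy (by rw [hy1 p (hSB p hp)]; exact mem_support.1 (hs ▸ hp))]
  have hyn : ∀ (n : ℕ) (x : Ω), (y ^ n) x ∈ B ↔ x ∈ B := fun n => ((Sw H B).pow_mem (⟨hyH, hyB⟩ : y ∈ Sw H B) n).2
  refine (ncard_le_of_labels s (fun M hM => hM.1) ((Bᶜ.toFinset \ T y b) ×ˢ S)
    (fun M i => ∃ g ∈ M, (∀ x ∈ B \ S, g x = x) ∧ g * y = y * g ∧ g p = b ∧ g b = i.1 ∧ g i.1 = i.2)
    (fun M hM => ?_) fun M hM M' hM' i hi ⟨g, hg, g1, g2, g3, g4, g5⟩ ⟨k, hk, k1, k2, k3, k4, k5⟩ => ?_).trans ?_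
  · have hA := s.not_alt_le hM.1
    have hle := hM.1.2
    obtain ⟨m, hm, hma, x₀, hx₀, hmx⟩ := mix hB hB' ht hf hle hM.2 a
    have hxa : x₀ ≠ a := fun h => hmx (by rw [h, hma]; exact ha.1)
    have h4 : ∀ x, x ≠ a → ∃ k ∈ M, k a = a ∧ k x₀ = x := fun x hx => by
      by_cases hxB : x ∈ B
      · obtain ⟨d, hd, h5⟩ := hF (swap x₀ x) (Sp.swap hx₀ hxB)
        exact ⟨d, hle hd, by rw [h5 a ha.1, swap_apply_of_ne_of_ne hxa.symm hx.symm], by rw [h5 x₀ hx₀, swap_apply_left]⟩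
      · obtain ⟨d, hd, h5, h6⟩ := tr_compl h12 hB hB' hf hF hle hM.2 hA hyH hy hy2 ha.1 (hyF a ha) hmx hxB
        exact ⟨d * m, M.mul_mem (hle hd) hm, by rw [mul_apply, hma, h5], h6⟩
    obtain ⟨h5, hc5⟩ := five h12 hA (ht.mono hle) (a := a) (fun x z hx hz => by
      obtain ⟨k, hk, k1, k2⟩ := h4 x hx
      obtain ⟨l, hl, l1, l2⟩ := h4 z hz
      refine ⟨l * k⁻¹, M.mul_mem hl (M.inv_mem hk), ?_, ?_⟩
      · rw [mul_apply, Perm.inv_eq_iff_eq.2 k1.symm, l1]
      · rw [mul_apply, Perm.inv_eq_iff_eq.2 k2.symm, l2]) (eight hB hF hle ha.1)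
    obtain ⟨Q, hQ, hyQ, h9, q1, q2⟩ := exQ h12 h5 hc5 hF3 (hle hyH) hy hyF
    have f3 : Fact (Nat.Prime 3) := ⟨Nat.prime_three⟩
    have hcomm : ∀ g ∈ Q, ∀ k ∈ Q, g * k = k * g := fun g hg k hk => congrArg Subtype.val
      ((IsPGroup.isMulCommutative_of_card_eq_prime_sq (p := 3) h9).is_comm.comm (⟨g, hg⟩ : Q) ⟨k, hk⟩)
    have hpF : p ∉ B \ S := fun h => h.2 hp
    have q3 : ∀ g ∈ Q, ∀ k ∈ Q, g p = k p → g = k := fun g hg k hk h =>
      (inv_mul_eq_one.1 (q2 _ (Q.mul_mem (Q.inv_mem hk) hg) p hpF (by rw [mul_apply, h]; simp))).symm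
    have q4 : ∀ g ∈ Q, ∀ x, g x ∈ B \ S → g x = x := fun g hg x hx => g.injective (q1 g hg _ hx)
    obtain ⟨⟨g, hg⟩, g3⟩ : ∃ g : Q, (g : Perm Ω) p = b := by
      have h6 : Function.Bijective fun g : Q => (⟨(g : Perm Ω) p, fun h => hpF (q4 g g.2 p h ▸ h)⟩ : ↥(B \ S)ᶜ) := by
        refine (Nat.bijective_iff_injective_and_card _).2
          ⟨fun g k h => Subtype.ext (q3 g g.2 k k.2 (congrArg Subtype.val h)), ?_⟩
        have h7 := Set.ncard_add_ncard_compl (B \ S)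
        rw [Nat.card_eq_fintype_card, h12, hF3] at h7
        rw [h9, Nat.card_coe_set_eq]
        omega
      obtain ⟨g, hg⟩ := h6.2 ⟨b, fun h => hb h.1⟩
      exact ⟨g, congrArg Subtype.val hg⟩
    have g3' : g p = b := g3
    have gy : ∀ (n : ℕ) (x : Ω), (y ^ n) (g x) = g ((y ^ n) x) := fun n x =>
      DFunLike.congr_fun (hcomm _ (Q.pow_mem hyQ n) g hg) x
    have u1 : g b ∉ B := fun h => by
      by_cases h6 : g b ∈ S
      · obtain ⟨n, hn⟩ := T_ex (hT ▸ h6 : g b ∈ T y p)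
        have h7 : y ^ n = g * g := q3 _ (Q.pow_mem hyQ n) _ (Q.mul_mem hg hg) (by rw [hn, mul_apply, g3'])
        have h8 : g ^ 9 = 1 := congrArg Subtype.val (h9 ▸ pow_card_eq_one' (x := (⟨g, hg⟩ : Q)))
        have h10 : y ^ (n * 5) = g := by
          rw [pow_mul, h7, ← pow_two, ← pow_mul, pow_succ, h8, one_mul]
        exact hb (g3' ▸ h10 ▸ (hyn _ p).2 (hSB p hp))
      · exact hb (q4 g hg b ⟨h, h6⟩ ▸ h)
    have u2 : g b ∉ T y b := fun h => by
      obtain ⟨n, hn⟩ := T_ex h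
      rw [← g3', gy, g3'] at hn
      exact hb (g.injective hn ▸ (hyn n p).2 (hSB p hp))
    refine ⟨(g b, g (g b)), Finset.mem_product.2 ⟨Finset.mem_sdiff.2 ⟨Set.mem_toFinset.2 u1, u2⟩, ?_⟩,
      g, hQ hg, q1 g hg, hcomm g hg y hyQ, g3', rfl, rfl⟩
    by_contra h6
    by_cases h7 : g (g b) ∈ B
    · exact u1 (q4 g hg _ ⟨h7, h6⟩ ▸ h7)
    · rcases cover hy hB' hyB.compl hy2 hb u1 u2 h7 with h8 | h8
      · obtain ⟨n, hn⟩ := T_ex h8
        rw [← g3', gy, g3'] at hn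
        exact u1 (g.injective hn ▸ (hyn n p).2 (hSB p hp))
      · obtain ⟨n, hn⟩ := T_ex h8
        rw [gy] at hn
        refine u2 (g.injective hn ▸ ?_)
        clear hn
        induction n with
        | zero => exact T_self
        | succ n ih => rw [pow_succ', mul_apply]; exact T_step hy ih
  · have h4 : ∀ x, g x = k x → g (y x) = k (y x) := fun x h => by
      rw [← mul_apply, g2, ← mul_apply k, k2, mul_apply, mul_apply, h]
    obtain ⟨h5, -⟩ := Finset.mem_product.1 hi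
    obtain ⟨h5, h6⟩ := Finset.mem_sdiff.1 h5
    have h7 : g = k := Equiv.ext fun x => by
      by_cases hx : x ∈ B
      · by_cases hxS : x ∈ S
        · exact T_ind (P := fun u => g u = k u) h4 (g3.trans k3.symm) (hT ▸ hxS)
        · rw [g1 x ⟨hx, hxS⟩, k1 x ⟨hx, hxS⟩]
      · rcases cover hy hB' hyB.compl hy2 hb (Set.mem_toFinset.1 h5) h6 hx with h8 | h8
        · exact T_ind (P := fun u => g u = k u) h4 (g4.trans k4.symm) h8
        · exact T_ind (P := fun u => g u = k u) h4 (g5.trans k5.symm) h8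
    exact s.eq_of_mem hM.1 hM'.1 hg (h7 ▸ hk) fun h => hb (g3 ▸ (pv_of_fix hf h (g1 a ha) p).2 (hSB p hp))
  · rw [Finset.card_product, hS3, Finset.card_sdiff_of_subset fun x hx => Set.mem_toFinset.2
      (T_ind (P := fun u => u ∈ Bᶜ) (fun u => (hyB.compl u).2) hb hx), ← Set.ncard_eq_toFinset_card', hB',
      T_card hy (hy2 b hb)]

end Cfsg.Agent.SM.NP
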