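import Cfsg.Agent.SM.NP.Defs

/-!
# SM / BoxNP: the box `P2` (helper22)
-/

set_option autoImplicit false
set_option linter.unusedSectionVars false
set_option linter.unusedVariables false

namespace Cfsg.Agent.SM.NP

open Equiv Equiv.Perm Subgroup MulAction

namespace P2

variable {Ω : Type} [Fintype Ω] [DecidableEq Ω] {M : Subgroup (Perm Ω)} {τ σ : Perm Ω}

theorem conj2 (g : Perm Ω) (p q r s : Ω) :
    g * (swap p q * swap r s) * g⁻¹ = swap (g p) (g q) * swap (g r) (g s) := by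
  rw [swap_apply_apply, swap_apply_apply]; group

theorem conj_mem {g : Perm Ω} (hg : g ∈ M) {p q r s : Ω} (h : swap p q * swap r s ∈ M) :
    swap (g p) (g q) * swap (g r) (g s) ∈ M := conj2 g p q r s ▸ M.mul_mem (M.mul_mem hg h) (M.inv_mem hg)

theorem tri' {p q t r s : Ω} (h : swap p q * swap r s ∈ M) (h' : swap p t * swap r s ∈ M) (h1 : p ≠ q) (h2 : p ≠ t)
    (h3 : q ≠ t) : Sm M := by
  refine ⟨_, M.mul_mem h (M.inv_mem h'), Or.inl ?_⟩
  rw [mul_inv_rev, swap_inv, swap_inv, mul_assoc, ← mul_assoc (swap r s), swap_mul_self, one_mul]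
  exact isThreeCycle_swap_mul_swap_same h1 h2 h3

theorem tri {g : Perm Ω} (hg : g ∈ M) {p q r s : Ω} (h : swap p q * swap r s ∈ M) (hpq : p ≠ q) (h1 : g p ≠ p) (h2 : g q = q)
    (h3 : g r = r) (h4 : g s = s) : Sm M := by
  have h' := conj_mem hg h
  rw [h2, h3, h4, swap_comm] at h'
  rw [swap_comm] at h
  exact tri' h h' hpq.symm (fun e => hpq (g.injective (e ▸ h2.symm ▸ rfl))) h1.symm

theorem exists_out (s : Finset Ω) (h : s.card < Fintype.card Ω) : ∃ x, x ∉ s := by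
  by_contra hn
  push Not at hn
  rw [Finset.eq_univ_of_forall hn, Finset.card_univ] at h
  exact lt_irrefl _ h

theorem tau_eq (h : Mat τ) {x y : Ω} : τ x = y ↔ x = τ y :=
  ⟨fun e => by rw [← e, h.inv], fun e => by rw [e, h.inv]⟩

theorem sw_fix {a b c d x : Ω} (h1 : x ≠ a) (h2 : x ≠ b) (h3 : x ≠ c) (h4 : x ≠ d) : (swap a b * swap c d) x = x := by
  rw [Perm.mul_apply, swap_apply_of_ne_of_ne h3 h4, swap_apply_of_ne_of_ne h1 h2]

theorem sw_left {a b c d : Ω} (h3 : a ≠ c) (h4 : a ≠ d) : (swap a b * swap c d) a = b := by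
  rw [Perm.mul_apply, swap_apply_of_ne_of_ne h3 h4, swap_apply_left]

section
variable (hτ : Mat τ) (hσ : Mat σ) (dτ : Dbl M τ) (dσ : Dbl M σ) (hM : ¬ Sm M)
include hτ hσ dτ dσ hM

/-- a point outside the edges of `a`, `x`, `y`, `z` gives a 3-cycle -/
theorem far {a c e : Ω} (h : σ a ≠ τ a) (c1 : c ≠ a) (c2 : c ≠ τ a) (c3 : c ≠ σ a) (c4 : σ c ≠ τ a)
    (he : e ∉ ({a, τ a, σ a, τ (σ a), c, τ c, σ c, τ (σ c)} : Finset Ω)) : False := by
  simp only [Finset.mem_insert, Finset.mem_singleton, not_or] at he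
  obtain ⟨e1, e2, e3, e4, e5, e6, e7, e8⟩ := he
  have f : ∀ {x}, e ≠ τ x → x ≠ τ e := fun h e' => h (by rw [e', hτ.inv])
  refine hM (tri (dτ a e e1 e2) (dσ a c c1 c3) (hσ.ne a).symm ?_ ?_ ?_ ?_)
  · rw [sw_left (Ne.symm e1) (f e2)]; exact hτ.ne a
  · exact sw_fix (hσ.ne a) h (Ne.symm e3) (f e4)
  · exact sw_fix c1 c2 (Ne.symm e5) (f e6)
  · exact sw_fix (fun e' => c3 ((tau_eq hσ).1 e')) c4 (Ne.symm e7) (f e8)

theorem lemA (h8 : 8 ≤ Fintype.card Ω) {a : Ω} (h : σ a ≠ τ a) : σ (τ (σ a)) = τ a := by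
  by_contra hn
  obtain ⟨e, he⟩ := exists_out {a, τ a, σ a, τ (σ a), σ (τ (σ a)), τ (σ (τ (σ a)))} (Finset.card_le_six.trans_lt (by omega))
  refine far hτ hσ dτ dσ hM (c := τ (σ a)) (e := e) h (fun e' => h ((tau_eq hτ).1 e')) (fun e' => hσ.ne a (τ.injective e'))
    (hτ.ne _) hn ?_
  simp only [Finset.mem_insert, Finset.mem_singleton, not_or, hτ.inv] at he ⊢
  tauto

theorem lemB {a : Ω} (h : σ a ≠ τ a) (c : Ω) : σ c ≠ τ c := fun e => by
  have c1 : c ≠ a := fun e' => h (e' ▸ e)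
  have c2 : c ≠ τ a := fun e' => h (by rw [e', hτ.inv] at e; exact ((tau_eq hσ).1 e).symm)
  have c3 : c ≠ σ a := fun e' => h (by rw [e', hσ.inv] at e; exact ((tau_eq hτ).1 e.symm))
  have := dσ a c c1 c3
  rw [e] at this
  exact hM (tri' this (dτ a c c1 c2) (hσ.ne a).symm (hτ.ne a).symm h)

theorem lemC (h9 : 9 ≤ Fintype.card Ω) {a : Ω} (h : σ a ≠ τ a) : False := by
  obtain ⟨c, hc⟩ := exists_out {a, τ a, σ a, σ (τ a)} (Finset.card_le_four.trans_lt (by omega))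
  simp only [Finset.mem_insert, Finset.mem_singleton, not_or] at hc
  obtain ⟨e, he⟩ := exists_out {a, τ a, σ a, τ (σ a), c, τ c, σ c, τ (σ c)}
    (lt_of_le_of_lt ((Finset.card_insert_le _ _).trans (Nat.succ_le_succ ((Finset.card_insert_le _ _).trans
      (Nat.succ_le_succ Finset.card_le_six)))) (by omega))
  exact far hτ hσ dτ dσ hM h hc.1 hc.2.1 hc.2.2.1 (fun e' => hc.2.2.2 ((tau_eq hσ).1 e')) he

theorem lemD (h8 : 8 ≤ Fintype.card Ω) {a p q r : Ω} (h : σ a ≠ τ a) (hp : σ a = p ∨ σ a = τ p)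
    (ar : a ≠ r) (ar' : a ≠ τ r) (qa : q ≠ a) (qa' : q ≠ τ a) (qp : q ≠ p) (qp' : q ≠ τ p) (qr : q ≠ r) (qr' : q ≠ τ r)
    (rp : r ≠ p) (rp' : r ≠ τ p)
    (hu : ∀ x, x = a ∨ x = τ a ∨ x = p ∨ x = τ p ∨ x = q ∨ x = τ q ∨ x = r ∨ x = τ r) :
    swap a p * swap q r ∈ M ∨ swap a p * swap q (τ r) ∈ M := by
  have hA := lemA hτ hσ dτ dσ hM h8 h
  have q1 : q ≠ σ a := by rcases hp with e | e <;> rwa [e]
  have q2 : q ≠ τ (σ a) := by rcases hp with e | e <;> rw [e] <;> [exact qp'; rwa [hτ.inv]]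
  have hq : σ q = r ∨ σ q = τ r := by
    have k1 : σ q ≠ σ a := fun e => qa (σ.injective e)
    have k2 : σ q ≠ τ (σ a) := fun e => qa' (by rw [← hA, ← e, hσ.inv])
    rcases hu (σ q) with e | e | e | e | e | e | e | e
    · exact absurd ((tau_eq hσ).1 e) q1
    · exact absurd (σ.injective (e.trans hA.symm)) q2
    · rcases hp with e' | e'
      · exact absurd (e.trans e'.symm) k1
      · exact absurd (by rw [e, e', hτ.inv]) k2
    · rcases hp with e' | e'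
      · exact absurd (by rw [e, e']) k2
      · exact absurd (e.trans e'.symm) k1
    · exact absurd e (hσ.ne q)
    · exact absurd e (lemB hτ hσ dτ dσ hM h q)
    · exact Or.inl e
    · exact Or.inr e
  have y := dσ a q qa q1
  rcases hp with e | e
  · rw [e] at y
    exact hq.imp (fun e' => by rwa [e'] at y) fun e' => by rwa [e'] at y
  · have ap : a ≠ p := fun e' => h (by rw [e, e'])
    have ap' : a ≠ τ p := fun e' => hσ.ne a (e.trans e'.symm)
    have r1 : τ r ≠ p := fun e' => rp' ((tau_eq hτ).1 e')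
    have r2 : τ r ≠ τ p := fun e' => rp (τ.injective e')
    have y' := conj_mem (dτ p r rp rp') y
    rw [e, sw_fix ap ap' ar ar', sw_fix qp qp' qr qr', Perm.mul_apply, swap_apply_of_ne_of_ne rp'.symm r2.symm,
      swap_apply_right] at y'
    rcases hq with e' | e'
    · rw [e', Perm.mul_apply, swap_apply_left, swap_apply_of_ne_of_ne r1 r2] at y'
      exact Or.inr y'
    · rw [e', Perm.mul_apply, swap_apply_right, swap_apply_of_ne_of_ne rp rp'] at y'
      exact Or.inl y'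

end

/-- a primitive group contains the products of two edges of a second matching -/
theorem exists_sigma (hτ : Mat τ) (dτ : Dbl M τ) (h3 : 3 ≤ Fintype.card Ω) (hp : IsPreprimitive M Ω) :
    ∃ σ a, Mat σ ∧ Dbl M σ ∧ σ a ≠ τ a := by
  obtain ⟨m, hm, x, hx⟩ : ∃ m ∈ M, ∃ x, m (τ x) ≠ τ (m x) := by
    by_contra hn
    push Not at hn
    obtain ⟨a⟩ : Nonempty Ω := Fintype.card_pos_iff.1 (by omega)
    obtain ⟨c, hc⟩ := exists_out {a, τ a} (Finset.card_le_two.trans_lt (by omega))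
    simp only [Finset.mem_insert, Finset.mem_singleton, not_or] at hc
    refine Sys.not_prim (E := ⟨fun x y => y = x ∨ y = τ x, fun _ => Or.inl rfl,
      fun h => h.imp Eq.symm fun e => by rw [e, hτ.inv], fun h h' => ?_⟩)
      ⟨fun g hg x y h => h.imp (congrArg g) fun e => by rw [e, hn g hg], ⟨a, τ a, (hτ.ne a).symm, Or.inr rfl⟩,
        ⟨a, c, not_or.2 hc⟩⟩ hp
    rcases h with rfl | rfl
    · exact h'
    · rw [hτ.inv] at h'
      exact h'.symm
  refine ⟨m * τ * m⁻¹, m x, ⟨fun a e => hτ.ne (m⁻¹ a) ?_, fun a => by simp [hτ.inv]⟩, fun a b h1 h2 => ?_, by simpa using hx⟩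
  · rw [Perm.eq_inv_iff_eq]; exact e
  · simpa using conj_mem hm (dτ (m⁻¹ a) (m⁻¹ b) (fun e => h1 (m⁻¹.injective e)) fun e => h2 (by
      rw [Perm.inv_eq_iff_eq] at e; exact e))

theorem exists_four (hτ : Mat τ) (h8 : Fintype.card Ω = 8) : ∃ a p q r : Ω, (p ≠ a ∧ p ≠ τ a) ∧ (q ≠ a ∧ q ≠ τ a ∧ q ≠ p ∧ q ≠ τ p) ∧
    (r ≠ a ∧ r ≠ τ a ∧ r ≠ p ∧ r ≠ τ p ∧ r ≠ q ∧ r ≠ τ q) ∧
    ∀ x, x = a ∨ x = τ a ∨ x = p ∨ x = τ p ∨ x = q ∨ x = τ q ∨ x = r ∨ x = τ r := by
  obtain ⟨a⟩ : Nonempty Ω := Fintype.card_pos_iff.1 (by omega)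
  obtain ⟨p, hp⟩ := exists_out {a, τ a} (Finset.card_le_two.trans_lt (by omega))
  obtain ⟨q, hq⟩ := exists_out {a, τ a, p, τ p} (Finset.card_le_four.trans_lt (by omega))
  obtain ⟨r, hr⟩ := exists_out {a, τ a, p, τ p, q, τ q} (Finset.card_le_six.trans_lt (by omega))
  simp only [Finset.mem_insert, Finset.mem_singleton, not_or] at hp hq hr
  refine ⟨a, p, q, r, hp, hq, hr, fun x => ?_⟩
  have f : ∀ {x y}, x ≠ τ y → τ x ≠ y := fun h e => h ((tau_eq hτ).1 e)
  have g : ∀ {x y}, x ≠ y → τ x ≠ τ y := fun h e => h (τ.injective e)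
  have e : ({τ r, r, τ q, q, τ p, p, τ a, a} : Finset Ω) = Finset.univ := by
    apply Finset.eq_univ_of_card
    rw [h8, Finset.card_insert_of_notMem, Finset.card_insert_of_notMem, Finset.card_insert_of_notMem,
      Finset.card_insert_of_notMem, Finset.card_insert_of_notMem, Finset.card_insert_of_notMem,
      Finset.card_pair (hτ.ne a)] <;> simp only [Finset.mem_insert, Finset.mem_singleton, not_or]
    exacts [⟨hp.2, hp.1⟩, ⟨hτ.ne p, g hp.1, f hp.2⟩, ⟨hq.2.2.2, hq.2.2.1, hq.2.1, hq.1⟩,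
      ⟨hτ.ne q, g hq.2.2.1, f hq.2.2.2, g hq.1, f hq.2.1⟩,
      ⟨hr.2.2.2.2.2, hr.2.2.2.2.1, hr.2.2.2.1, hr.2.2.1, hr.2.1, hr.1⟩,
      ⟨hτ.ne r, g hr.2.2.2.2.1, f hr.2.2.2.2.2, g hr.2.2.1, f hr.2.2.2.1, g hr.1, f hr.2.1⟩]
  have := e ▸ Finset.mem_univ x
  simp only [Finset.mem_insert, Finset.mem_singleton] at this
  tauto

end P2

open P2 in
/-- **box P2** -/
theorem boxP2 : BoxP2 := fun Ω _ _ X H τ s h8 hτ hc dτ => by
  classical
  have dM : ∀ M ∈ Pr X H, Dbl M τ := fun M hM a b h1 h2 => hM.1.2 (dτ a b h1 h2)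
  rcases h8.eq_or_lt with h8' | h9
  · obtain ⟨a, p, q, r, ⟨pa, pa'⟩, ⟨qa, qa', qp, qp'⟩, ⟨ra, ra', rp, rp', rq, rq'⟩, hu⟩ := exists_four hτ h8'.symm
    have f : ∀ {x y}, x ≠ τ y → y ≠ τ x := fun h e => h (by rw [e, hτ.inv])
    have g : ∀ {x y}, x ≠ y → τ x ≠ τ y := fun h e => h (τ.injective e)
    have nh : ∀ {p q r}, p ≠ a → p ≠ τ a → q ≠ a → q ≠ τ a → r ≠ a → r ≠ τ a → swap a p * swap q r ∉ H :=
      fun {p q r} h1 h2 h3 h4 h5 h6 hy => by
        have := congrArg (fun k : Perm Ω => k a) (hc _ hy)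
        simp only [Perm.mul_apply (f := swap a p * swap q r), Perm.mul_apply (f := τ)] at this
        rw [sw_fix (hτ.ne a) h2.symm h4.symm h6.symm, sw_left h3.symm h5.symm] at this
        exact h1 (τ.injective this).symm
    refine (ncard_le_of_elts s (fun _ h => h.1) {swap a p * swap q r, swap a p * swap q (τ r), swap a q * swap p r,
      swap a q * swap p (τ r), swap a r * swap p q, swap a r * swap p (τ q)} id fun M hM => ?_).trans
      (Finset.card_le_six.trans (by omega))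
    obtain ⟨σ, x, hσ, dσ, hx⟩ := exists_sigma hτ (dM M hM) (by omega) hM.2
    have hn := not_sm s hM
    have ha := lemB hτ hσ (dM M hM) dσ hn hx a
    have k : (σ a = p ∨ σ a = τ p) ∨ (σ a = q ∨ σ a = τ q) ∨ (σ a = r ∨ σ a = τ r) := by
      have := hu (σ a)
      have := hσ.ne a
      tauto
    rcases k with k | k | k
    · rcases lemD hτ hσ (dM M hM) dσ hn h8 ha k ra.symm (f ra') qa qa' qp qp' rq.symm (f rq') rp rp' hu with y | y
      · exact ⟨_, by simp, y, nh pa pa' qa qa' ra ra'⟩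
      · exact ⟨_, by simp, y, nh pa pa' qa qa' (f ra').symm (g ra)⟩
    · rcases lemD hτ hσ (dM M hM) dσ hn h8 ha k ra.symm (f ra') pa pa' qp.symm (f qp') rp.symm (f rp') rq rq'
        (fun x => by have := hu x; tauto) with y | y
      · exact ⟨_, by simp, y, nh qa qa' pa pa' ra ra'⟩
      · exact ⟨_, by simp, y, nh qa qa' pa pa' (f ra').symm (g ra)⟩
    · rcases lemD hτ hσ (dM M hM) dσ hn h8 ha k qa.symm (f qa') pa pa' rp.symm (f rp') qp.symm (f qp') rq.symm (f rq')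
        (fun x => by have := hu x; tauto) with y | y
      · exact ⟨_, by simp, y, nh ra ra' pa pa' qa qa'⟩
      · exact ⟨_, by simp, y, nh ra ra' pa pa' (f qa').symm (g qa)⟩
  · have : Pr X H = ∅ := Set.eq_empty_of_forall_notMem fun M hM => by
      obtain ⟨σ, x, hσ, dσ, hx⟩ := exists_sigma hτ (dM M hM) (by omega) hM.2
      exact lemC hτ hσ (dM M hM) dσ (not_sm s hM) h9 hx
    simp [this]

end Cfsg.Agent.SM.NP
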