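import Cfsg.Agent.SM.NP.Two3

/-!
# SM (S3570), `H` with two orbits, one of length one or two (helper88)
-/

set_option autoImplicit false
set_option linter.unusedSectionVars false

namespace Cfsg.Agent.SM.NP

open Equiv Equiv.Perm Subgroup MulAction

namespace Tw

variable {Ω : Type} [Fintype Ω] [DecidableEq Ω] {X H M : Subgroup (Perm Ω)} {A : Set Ω}

/-- `H` is primitive on the complement of `A` -/
def PrC (H : Subgroup (Perm Ω)) (A : Set Ω) : Prop := ∀ E : Setoid Ω, (∀ g ∈ H, ∀ a b, E a b → E (g a) (g b)) →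
  (∀ u v, u ∉ A → v ∉ A → E u v) ∨ ∀ u v, u ∉ A → v ∉ A → E u v → u = v

/-- the complement of `A` is divided into pairs, and `H` contains the products of two pairs -/
structure Prs (H : Subgroup (Perm Ω)) (A : Set Ω) (E : Setoid Ω) : Prop where
  inv : ∀ g ∈ H, ∀ a b, E a b → E (g a) (g b)
  mem : ∀ u v, E u v → (u ∈ A ↔ v ∈ A)
  all : ∀ u ∈ A, ∀ v ∈ A, E u v
  ex : ∀ u, u ∉ A → ∃ v, v ≠ u ∧ E u v
  two : ∀ u v w, E u v → E u w → u = v ∨ u = w ∨ v = w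
  dbl : ∀ u u' v v', u ≠ u' → v ≠ v' → E u u' → E v v' → swap u u' * swap v v' ∈ H

theorem rel_swap {E : Setoid Ω} {u u' : Ω} (h : E u u') (y : Ω) : E (swap u u' y) y := by
  rw [swap_apply_def]
  split_ifs with h1 h2
  · exact h1 ▸ E.symm' h
  · exact h2 ▸ h
  · exact E.refl' y

theorem split (s : Sec X H) (t : Two X H A) (hs : ¬ Sm H) : PrC H A ∨ ∃ E, Prs H A E := by
  refine or_iff_not_imp_left.2 fun h => ?_
  simp only [PrC, not_forall, not_or] at h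
  obtain ⟨E, hE, ⟨u₁, v₁, hu₁, hv₁, h1⟩, u, v, hu, hv, h2, h3⟩ := h
  have hA : ∀ g ∈ H, ∀ a, g a ∈ A ↔ a ∈ A := fun g hg => (t.ov.2 hg).2
  let E' : Setoid Ω := ⟨fun p q => (p ∈ A ↔ q ∈ A) ∧ (p ∉ A → E p q), fun p => ⟨Iff.rfl, fun _ => E.refl' p⟩,
    fun h => ⟨h.1.symm, fun k => E.symm' (h.2 fun k' => k (h.1.1 k'))⟩,
    fun h h' => ⟨h.1.trans h'.1, fun k => E.trans' (h.2 k) (h'.2 fun k' => k (h.1.2 k'))⟩⟩
  have hi : ∀ g ∈ H, ∀ a b, E' a b → E' (g a) (g b) := fun g hg a b k =>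
    ⟨(hA g hg a).trans (k.1.trans (hA g hg b).symm), fun k' => hE g hg a b (k.2 fun k'' => k' ((hA g hg a).2 k''))⟩
  have huv : E' u v := ⟨iff_of_false hu hv, fun _ => h2⟩
  obtain ⟨w, hw, h4⟩ : ∃ w, w ∉ A ∧ ¬ E u w := by
    by_cases k : E u u₁
    · exact ⟨v₁, hv₁, fun k' => h1 (E.trans' (E.symm' k) k')⟩
    · exact ⟨u₁, hu₁, k⟩
  have h5 : St X E' ⊓ Sw X A = H := by
    refine (s.eq_or_eq t.ov (K := St X E' ⊓ Sw X A)
      (le_inf (fun g hg => mem_St.2 ⟨s.lt.le hg, fun a b => ⟨fun k => ?_, hi g hg a b⟩⟩) t.ov.2)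
      inf_le_right).resolve_right fun e => ?_
    · simpa using hi g⁻¹ (H.inv_mem hg) _ _ k
    · have k1 : u ≠ w := fun k => h4 (k ▸ E.refl' u)
      have k2 : v ≠ w := fun k => h4 (k ▸ h2)
      have k3 := ((e.ge (Al_le' s A (swap_mem_Al (B := Aᶜ) hu hw hu hv k1 h3))).1.2 u v).2 huv
      rw [mul_apply, mul_apply, swap_apply_left, swap_apply_right, swap_apply_left,
        swap_apply_of_ne_of_ne (Ne.symm h3) k2] at k3
      exact h4 (E.trans' h2 (k3.2 hv))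
  have h6 : ∀ u u' v v', u ≠ u' → v ≠ v' → E' u u' → E' v v' → swap u u' * swap v v' ∈ H := fun p p' q q' k1 k2 k3 k4 => by
    have k5 : ∀ y, E' ((swap p p' * swap q q') y) y := fun y => E'.trans' (rel_swap k3 _) (rel_swap k4 y)
    have k6 := s.alt (swap_mul_mem_alt k1 k2)
    exact h5.le ⟨⟨k6, fun a b => ⟨fun k => E'.trans' (E'.symm' (k5 a)) (E'.trans' k (k5 b)),
      fun k => E'.trans' (k5 a) (E'.trans' k (E'.symm' (k5 b)))⟩⟩, k6, fun a => (k5 a).1⟩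
  refine ⟨E', hi, fun _ _ k => k.1, fun p hp q hq => ⟨iff_of_true hp hq, fun k => absurd hp k⟩, fun p hp => ?_,
    fun p q r k1 k2 => ?_, h6⟩
  · obtain ⟨g, hg, rfl⟩ := t.trB u hu p hp
    exact ⟨g v, g.injective.ne (Ne.symm h3), hi g hg u v huv⟩
  · by_contra k
    simp only [not_or] at k
    exact hs ⟨_, h6 _ _ _ _ k.1 k.2.1 k1 k2, Or.inl (isThreeCycle_swap_mul_swap_same k.1 k.2.1 k.2.2)⟩

theorem sq_eq {G : Type*} [Group G] {s t v w : G} (hv : v * v = 1) (hw : w * w = 1) (h1 : Commute v s) (h2 : Commute v t)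
    (h3 : Commute v w) (h4 : Commute w s) (h5 : Commute w t) : (s * v * (t * w)) ^ 2 = s * t * (s * t) := by
  rw [mul_assoc, ← mul_assoc v, h2.eq, mul_assoc t, ← mul_assoc,
    ((h1.mul_right h2).mul_left (h4.mul_right h5)).symm.mul_pow, h3.mul_pow, pow_two v, pow_two w, hv, hw, mul_one, mul_one,
    pow_two]

/-- `(b b')(e e')` and `(a b')(c d)` generate a 3-cycle -/
theorem sm_of {a b b' c d e e' : Ω} (h : [a, b, b', c, d, e, e'].Nodup) (h1 : swap b' b * swap e e' ∈ M)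
    (h2 : swap b' a * swap c d ∈ M) : Sm M := by
  have h3 := M.pow_mem (M.mul_mem h1 h2) 2
  rw [sq_eq (swap_mul_self _ _) (swap_mul_self _ _) (disjoint_swap_swap (by grind)).commute
    (disjoint_swap_swap (by grind)).commute (disjoint_swap_swap (by grind)).commute (disjoint_swap_swap (by grind)).commute
    (disjoint_swap_swap (by grind)).commute] at h3
  exact ⟨_, h3, Or.inl (isThreeCycle_swap_mul_swap_same (by grind) (by grind) (by grind)).isThreeCycle_sq⟩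

theorem exists_new (l : List Ω) (h : l.length < Fintype.card Ω) : ∃ x, x ∉ l := by
  obtain ⟨x, -, hx⟩ := Finset.exists_mem_notMem_of_card_lt_card (s := l.toFinset) (t := Finset.univ)
    (l.toFinset_card_le.trans_lt h)
  exact ⟨x, fun k => hx (List.mem_toFinset.2 k)⟩

theorem prim2 {a : Ω} (t : Two X H {a}) (hp : PrC H {a}) (hM : M ∈ Pr X H) : IsMultiplyPreprimitive M Ω 2 := by
  have hA : ∀ g ∈ H, g a = a := fun g hg => ((t.ov.2 hg).2 a).2 rfl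
  have := hM.2.toIsPretransitive
  let ι : ∀ g ∈ H, stabilizer M a := fun g hg => ⟨⟨g, hM.1.2 hg⟩, hA g hg⟩
  refine (isMultiplyPreprimitive_succ_iff_ofStabilizer M Ω (n := 1) le_rfl (a := a)).2
    ((is_one_preprimitive_iff _ _).2 ?_)
  have : IsPretransitive (stabilizer M a) (SubMulAction.ofStabilizer M a) := ⟨fun x y => by
    obtain ⟨g, hg, e⟩ := t.trB x x.2 y y.2
    exact ⟨ι g hg, Subtype.ext e⟩⟩
  refine ⟨fun {B} hB => ?_⟩
  have key : ∀ g ∈ H, ∀ x ∈ B, ∀ y ∈ B, g x ∈ Subtype.val '' B → g y ∈ Subtype.val '' B := fun g hg x hx y hy ⟨z, hz, e⟩ => by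
    have k : ι g hg • x ∈ B := (Subtype.ext e : z = ι g hg • x) ▸ hz
    exact ⟨ι g hg • y, isBlock_iff_smul_eq_of_mem.1 hB hx k ▸ Set.smul_mem_smul_set hy, rfl⟩
  rcases hp ⟨fun x y => ∀ g ∈ H, g x ∈ Subtype.val '' B ↔ g y ∈ Subtype.val '' B, fun _ _ _ => Iff.rfl,
    fun h g hg => (h g hg).symm, fun h h' g hg => (h g hg).trans (h' g hg)⟩
    (fun g hg x y h k hk => h (k * g) (H.mul_mem hk hg)) with h | h
  · rcases B.eq_empty_or_nonempty with rfl | ⟨b, hb⟩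
    · exact Or.inl Set.subsingleton_empty
    · refine Or.inr (Set.eq_univ_of_forall fun x => ?_)
      obtain ⟨z, hz, e⟩ := (h b x b.2 x.2 1 H.one_mem).1 ⟨b, hb, rfl⟩
      exact (Subtype.ext e : z = x) ▸ hz
  · exact Or.inl fun x hx y hy => Subtype.ext (h x y x.2 y.2 fun g hg => ⟨key g hg x hx y hy, key g hg y hy x hx⟩)

theorem pairs1 {a : Ω} {E : Setoid Ω} (s : Sec X H) (t : Two X H {a}) (h6 : 6 ≤ Fintype.card Ω) (r : Prs H {a} E) :
    (Pr X H).ncard ≤ 4 := by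
  have hA : ∀ g ∈ H, g a = a := fun g hg => ((t.ov.2 hg).2 a).2 rfl
  obtain ⟨b, hb⟩ := exists_new [a] (by simp; omega)
  obtain ⟨b', b1, b2⟩ := r.ex b (by simpa using hb)
  obtain ⟨p, hp⟩ := exists_new [a, b, b'] (by simp; omega)
  obtain ⟨p', p1, p2⟩ := r.ex p (by grind)
  obtain ⟨q, hq⟩ := exists_new [a, b, b', p, p'] (by simp; omega)
  obtain ⟨q', q1, q2⟩ := r.ex q (by grind)
  have ha : ∀ u v, E u v → v ≠ u → v ≠ a := fun u v h1 h2 h3 => h2 (h3.trans ((r.mem u v h1).2 h3).symm)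
  have hn : ∀ u u' v v', E u u' → E v v' → u' ≠ u → v ≠ u → v ≠ u' → v' ≠ u ∧ v' ≠ u' := fun u u' v v' h1 h2 h3 h4 h5 => by
    constructor
    · rintro rfl
      have := r.two _ _ _ h1 (E.symm' h2)
      grind
    · rintro rfl
      have := r.two _ _ _ h1 (E.trans' h1 (E.symm' h2))
      grind
  have k1 := ha _ _ b2 b1
  have k2 := ha _ _ p2 p1
  have k3 := ha _ _ q2 q1
  have k4 := hn _ _ _ _ b2 p2 b1 (by grind) (by grind)
  have k5 := hn _ _ _ _ b2 q2 b1 (by grind) (by grind)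
  have k6 := hn _ _ _ _ p2 q2 p1 (by grind) (by grind)
  have nd : [a, b, b', p, p', q, q'].Nodup := by grind
  refine (ncard_le_of_elts s (fun _ h => h.1) (({p, p'} : Finset Ω) ×ˢ ({q, q'} : Finset Ω))
    (fun i => swap b' a * swap i.1 i.2) fun M hM => ?_).trans (by
      rw [Finset.card_product]
      exact Nat.mul_le_mul Finset.card_le_two Finset.card_le_two)
  obtain ⟨m₁, hm₁, e₁⟩ := tr_iff.2 hM.2.toIsPretransitive b' a
  obtain ⟨h, hh, e₂⟩ := t.trB (m₁ b) (fun k => b1 (m₁.injective (e₁.trans k.symm))) (m₁ a)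
    fun k => k1 (m₁.injective (e₁.trans k.symm))
  have hm := M.mul_mem (M.mul_mem (M.inv_mem hm₁) (hM.1.2 hh)) hm₁
  have m1 : (m₁⁻¹ * h * m₁) b = a := Perm.inv_eq_iff_eq.2 e₂
  have m2 : (m₁⁻¹ * h * m₁) b' = b' := Perm.inv_eq_iff_eq.2 (by rw [e₁, hA h hh])
  generalize m₁⁻¹ * h * m₁ = m at hm m1 m2
  have hy : ∀ e e', e ≠ e' → E e e' → swap b' a * swap (m e) (m e') ∈ M := fun e e' h1 h2 => by
    have h3 := M.mul_mem (M.mul_mem hm (hM.1.2 (r.dbl _ _ _ _ b1 h1 (E.symm' b2) h2))) (M.inv_mem hm)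
    rwa [← conj_mul, ← swap_apply_apply, ← swap_apply_apply, m1, m2] at h3
  have inj : ∀ u v, m u = m v → u = v := fun u v => m.injective.eq_iff.1
  obtain ⟨c, d, h1, h2⟩ : ∃ c d, [a, b, b', c, d].Nodup ∧ swap b' a * swap c d ∈ M := by
    by_cases k : m p = b ∨ m p' = b
    · exact ⟨_, _, by grind, hy q q' q1.symm q2⟩
    · exact ⟨_, _, by grind, hy p p' p1.symm p2⟩
  have h3 : ∀ e e', e' ≠ e → E e e' → [a, b, b', e, e'].Nodup → c = e ∨ c = e' ∨ d = e ∨ d = e' := fun e e' h4 h5 h7 => by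
    by_contra k
    exact not_sm s hM (sm_of (by grind) (hM.1.2 (r.dbl _ _ _ _ b1 h4.symm (E.symm' b2) h5)) h2)
  have h4 := h3 p p' p1 p2 (by grind)
  have h5 := h3 q q' q1 q2 (by grind)
  have h7 : swap b' a * swap c d ∉ H := fun k => by
    have k7 := hA _ k
    rw [mul_apply, swap_apply_of_ne_of_ne (a := c) (by grind) (by grind), swap_apply_right] at k7
    exact k1 k7
  by_cases k : c = p ∨ c = p'
  · exact ⟨(c, d), by grind, h2, h7⟩
  · rw [swap_comm c] at h2 h7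
    exact ⟨(d, c), by grind, h2, h7⟩

theorem fix_pair {x y : Ω} (hxy : x ≠ y) {g : Perm Ω} (hg : ∀ a, g a ∈ ({x, y} : Set Ω) ↔ a ∈ ({x, y} : Set Ω)) :
    (g x = x ∧ g y = y) ∨ (g x = y ∧ g y = x) := by
  have h1 := (hg x).2 (Or.inl rfl)
  have h2 := (hg y).2 (Or.inr rfl)
  have h3 := g.injective.ne hxy
  grind

theorem trans3 {x y : Ω} (hxy : x ≠ y) (t : Two X H {x, y}) (hp : PrC H {x, y}) (hM : M ∈ Pr X H) :
    IsMultiplyPretransitive M Ω 3 := by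
  have hA : ∀ g ∈ H, (g x = x ∧ g y = y) ∨ (g x = y ∧ g y = x) := fun g hg => fix_pair hxy (t.ov.2 hg).2
  have hlt := t.lt
  rw [Set.ncard_pair hxy] at hlt
  obtain ⟨u₀, hu₀, u₁, hu₁, u₂, hu₂, n1, n2, n3⟩ := (Set.two_lt_ncard (s := ({x, y} : Set Ω)ᶜ)).1 hlt
  have hT : ∀ u v, u ∉ ({x, y} : Set Ω) → v ∉ ({x, y} : Set Ω) → ∃ h ∈ H, (h x = x ∧ h y = y) ∧ h u = v := by
    refine (hp ⟨fun u v => ∃ h ∈ H, (h x = x ∧ h y = y) ∧ h u = v, fun u => ⟨1, H.one_mem, ⟨rfl, rfl⟩, rfl⟩,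
      fun ⟨h, hh, k, e⟩ => ⟨h⁻¹, H.inv_mem hh, ⟨Perm.inv_eq_iff_eq.2 k.1.symm, Perm.inv_eq_iff_eq.2 k.2.symm⟩,
        Perm.inv_eq_iff_eq.2 e.symm⟩,
      fun ⟨h, hh, k, e⟩ ⟨h', hh', k', e'⟩ => ⟨h' * h, H.mul_mem hh' hh, by simp [k, k'], by simp [e, e']⟩⟩
      fun g hg u v ⟨h, hh, k, e⟩ => ⟨g * h * g⁻¹, H.mul_mem (H.mul_mem hg hh) (H.inv_mem hg), ?_, by simp [e]⟩).resolve_right
      fun h => ?_
    · rcases hA g⁻¹ (H.inv_mem hg) with k' | k' <;>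
        exact ⟨by rw [mul_apply, mul_apply, k'.1, ← Perm.eq_inv_iff_eq, k'.1]; simp [k],
          by rw [mul_apply, mul_apply, k'.2, ← Perm.eq_inv_iff_eq, k'.2]; simp [k]⟩
    · obtain ⟨h₁, k₁, e₁⟩ := t.trB u₀ hu₀ u₁ hu₁
      obtain ⟨h₂, k₂, e₂⟩ := t.trB u₀ hu₀ u₂ hu₂
      rcases hA h₁ k₁ with l₁ | l₁
      · exact n1 (h _ _ hu₀ hu₁ ⟨h₁, k₁, l₁, e₁⟩)
      rcases hA h₂ k₂ with l₂ | l₂
      · exact n2 (h _ _ hu₀ hu₂ ⟨h₂, k₂, l₂, e₂⟩)
      refine n3 (h _ _ hu₁ hu₂ ⟨h₂ * h₁⁻¹, H.mul_mem k₂ (H.inv_mem k₁), ⟨?_, ?_⟩, ?_⟩)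
      · rw [mul_apply, Perm.inv_eq_iff_eq.2 l₁.2.symm, l₂.2]
      · rw [mul_apply, Perm.inv_eq_iff_eq.2 l₁.1.symm, l₂.1]
      · rw [mul_apply, Perm.inv_eq_iff_eq.2 e₁.symm, e₂]
  obtain ⟨m₀, hm₀, e₀, e₁⟩ : ∃ m ∈ M, m x = x ∧ m y ≠ y := by
    by_contra hc
    have h1 : ∀ m ∈ M, m x = x → m y = y := fun m hm k => by_contra fun k' => hc ⟨m, hm, k, k'⟩
    have h2 : ∀ g ∈ M, ∀ m ∈ M, ∀ u, m (g u) = g u ↔ (g⁻¹ * m * g) u = u := fun g _ m _ u => Perm.inv_eq_iff_eq.symm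
    have h3 : ∀ g ∈ M, ∀ m ∈ M, g⁻¹ * m * g ∈ M := fun g hg m hm => M.mul_mem (M.mul_mem (M.inv_mem hg) hm) hg
    obtain ⟨g, hg, e⟩ := t.trA x (Or.inl rfl) y (Or.inr rfl)
    have e' : g y = x := by
      have := hA g hg
      grind
    refine Sys.not_prim (E := ⟨fun u v => ∀ m ∈ M, m u = u ↔ m v = v, fun _ _ _ => Iff.rfl, fun h m hm => (h m hm).symm,
      fun h h' m hm => (h m hm).trans (h' m hm)⟩) ⟨fun g hg u v h m hm => ?_, ⟨x, y, hxy, fun m hm => ⟨h1 m hm, fun k => ?_⟩⟩,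
      x, u₀, fun h => ?_⟩ hM.2
    · rw [h2 g hg m hm, h2 g hg m hm]
      exact h _ (h3 g hg m hm)
    · rw [← e'] 
      exact (h2 g (hM.1.2 hg) m hm y).2 (h1 _ (h3 g (hM.1.2 hg) m hm) ((h2 g (hM.1.2 hg) m hm x).1 (e.symm ▸ k)))
    · obtain ⟨k, hk, l, e⟩ := hT u₀ u₁ hu₀ hu₁
      exact n1 (((h k (hM.1.2 hk)).1 l.1).symm.trans e)
  have T1 : ∀ v, v ≠ x → ∃ m ∈ M, m x = x ∧ m v = y := fun v hv => by
    by_cases k : v = y
    · exact ⟨1, M.one_mem, rfl, k⟩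
    · obtain ⟨h, hh, l, e⟩ := hT v (m₀ y) (by grind) (by
        have := m₀.injective.ne hxy
        grind)
      exact ⟨m₀⁻¹ * h, M.mul_mem (M.inv_mem hm₀) (hM.1.2 hh), Perm.inv_eq_iff_eq.2 (l.1.trans e₀.symm), Perm.inv_eq_iff_eq.2 e⟩
  have T3 : ∀ e : Fin 3 ↪ Ω, ∃ m ∈ M, m (e 0) = x ∧ m (e 1) = y ∧ m (e 2) = u₀ := fun e => by
    obtain ⟨m₁, hm₁, l₁⟩ := tr_iff.2 hM.2.toIsPretransitive (e 0) x
    obtain ⟨m₂, hm₂, l₂, l₃⟩ := T1 (m₁ (e 1)) fun k => absurd (e.injective (m₁.injective (k.trans l₁.symm))) (by decide)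
    obtain ⟨h, hh, l₄, l₅⟩ := hT (m₂ (m₁ (e 2))) u₀ (by
      rintro (k | k)
      · exact absurd (e.injective (m₁.injective ((m₂.injective (k.trans l₂.symm)).trans l₁.symm))) (by decide)
      · exact absurd (e.injective (m₁.injective (m₂.injective (k.trans l₃.symm)))) (by decide)) hu₀
    exact ⟨h * m₂ * m₁, M.mul_mem (M.mul_mem (hM.1.2 hh) hm₂) hm₁, by simp [l₁, l₂, l₄], by simp [l₃, l₄], l₅⟩
  refine ⟨fun e e' => ?_⟩
  obtain ⟨m, hm, l⟩ := T3 e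
  obtain ⟨m', hm', l'⟩ := T3 e'
  refine ⟨⟨m'⁻¹ * m, M.mul_mem (M.inv_mem hm') hm⟩, Function.Embedding.ext fun i => Perm.inv_eq_iff_eq.2 ?_⟩
  fin_cases i
  · exact l.1.trans l'.1.symm
  · exact l.2.1.trans l'.2.1.symm
  · exact l.2.2.trans l'.2.2.symm

theorem pairs2 {x y : Ω} (hxy : x ≠ y) {E : Setoid Ω} (r : Prs H {x, y} E) :
    ∃ τ, Mat τ ∧ (∀ g ∈ H, g * τ = τ * g) ∧ Dbl H τ := by
  have h1 : ∀ u, ∃ v, v ≠ u ∧ E u v := fun u => by
    by_cases k : u ∈ ({x, y} : Set Ω)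
    · rcases k with rfl | rfl
      · exact ⟨y, hxy.symm, r.all _ (Or.inl rfl) _ (Or.inr rfl)⟩
      · exact ⟨x, hxy, r.all _ (Or.inr rfl) _ (Or.inl rfl)⟩
    · exact r.ex u k
  choose f f1 f2 using h1
  have h2 : ∀ u v, v ≠ u → E u v → v = f u := fun u v k1 k2 => by
    have := r.two u v _ k2 (f2 u)
    have := f1 u
    grind
  have h3 : Function.Involutive f := fun u => (h2 _ _ (f1 u).symm (E.symm' (f2 u))).symm
  exact ⟨h3.toPerm f, ⟨f1, h3⟩, fun g hg => Perm.ext fun u => h2 _ _ (g.injective.ne (f1 u)) (r.inv g hg _ _ (f2 u)),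
    fun a b _ _ => r.dbl _ _ _ _ (f1 a).symm (f1 b).symm (f2 a) (f2 b)⟩

end Tw

open Tw

theorem boxTwo1_of (h5 : BoxN5) (hE : BoxE1) : BoxTwo1 := fun Ω _ _ X H A s t h1 => by
  obtain ⟨a, rfl⟩ := Set.ncard_eq_one.1 h1
  by_cases hs : Sm H
  · rw [hs.Pr_eq s]
    simp
  have hA : ∀ g ∈ H, g a = a := fun g hg => ((t.ov.2 hg).2 a).2 rfl
  rcases s.five.eq_or_lt with h | h
  · refine (h5 Ω X H s h.symm fun k => ?_).trans (by norm_num)
    obtain ⟨b, hb⟩ := exists_new [a] (by simp; omega)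
    obtain ⟨g, hg, e⟩ := k a b
    exact hb (by simp [← e, hA g hg])
  rcases split s t hs with k | ⟨E, r⟩
  · refine le_trans (Set.ncard_le_ncard fun M hM => ?_) (hE Ω X H a s h hA)
    exact ⟨hM.1, prim2 t k hM⟩
  · exact (pairs1 s t h r).trans (by norm_num)

theorem boxTwo2_of (h5 : BoxN5) (h6 : BoxN6) (hP : BoxP2) (hE : BoxE2) : BoxTwo2 := fun Ω _ _ X H A s t h1 => by
  obtain ⟨x, y, hxy, rfl⟩ := Set.ncard_eq_two.1 h1
  by_cases hs : Sm H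
  · rw [hs.Pr_eq s]
    simp
  have hA : ∀ g ∈ H, (g x = x ∧ g y = y) ∨ (g x = y ∧ g y = x) := fun g hg => fix_pair hxy (t.ov.2 hg).2
  rcases s.five.eq_or_lt with h | h
  · refine (h5 Ω X H s h.symm fun k => ?_).trans (by norm_num)
    obtain ⟨b, hb⟩ := exists_new [x, y] (by simp; omega)
    obtain ⟨g, hg, e⟩ := k x b
    have := hA g hg
    grind
  rcases (Nat.succ_le_of_lt h).eq_or_lt with h | h
  · refine (h6 Ω X H s h.symm fun g hg k => ?_).trans (by norm_num)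
    have k1 : orderOf (g ^ 2) = 5 := by rw [Nat.Coprime.orderOf_pow (by rw [k]; norm_num), k]
    obtain ⟨n, hn⟩ := cycleType_prime_order (σ := g ^ 2) (k1 ▸ Nat.prime_five)
    have k2 := le_card_support_of_mem_cycleType (σ := g ^ 2) (n := 5) (by rw [hn, k1]; simp)
    have k3 := Finset.card_le_card (s := (g ^ 2).support) (t := {x, y}ᶜ) fun z hz => by
      have k4 := hA g hg
      rw [mem_support, pow_two, mul_apply] at hz
      rw [Finset.mem_compl]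
      grind
    rw [Finset.card_compl, Finset.card_pair hxy] at k3
    omega
  rcases split s t hs with k | ⟨E, r⟩
  · refine le_trans (Set.ncard_le_ncard fun M hM => ?_) (hE Ω X H x y s h hxy t.ov.2)
    exact ⟨hM.1, trans3 hxy t k hM⟩
  · obtain ⟨τ, k1, k2, k3⟩ := pairs2 hxy r
    refine hP Ω X H τ s (by_contra fun k => ?_) k1 k2 k3
    obtain ⟨a, ha⟩ := exists_fixed_point_of_prime (p := 2) (n := 1) (by omega) (σ := τ) (Perm.ext k1.inv)
    exact k1.ne a ha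

end Cfsg.Agent.SM.NP
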