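import Cfsg.Agent.SM.NP.N12C

/-!
# SM / NP, box N12 (helper5)
-/

set_option autoImplicit false
set_option linter.unusedSectionVars false
set_option linter.unusedVariables false

namespace Cfsg.Agent.SM.NP

open Equiv Equiv.Perm Subgroup MulAction

theorem boxN12_of (hS : BoxS6) : BoxN12 := by
  intro Ω _ _ X H a b c s h12 hab hac hbc hH
  set 𝓜 := {M | M ∈ Ov X H ∧ IsMultiplyPretransitive M Ω 3 ∧ (Nat.card M = 7920 ∨ Nat.card M = 95040) ∧
    ∀ g ∈ M, g a = a → g b = b → g c = c → g ∈ H} with h𝓜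
  rcases Set.eq_empty_or_nonempty 𝓜 with h0 | ⟨M₀, hM₀⟩
  · rw [h0]
    simp
  let T : Finset Ω := {a, b, c}
  have hT : T.card = 3 := Finset.card_eq_three.2 ⟨a, b, c, hab, hac, hbc, rfl⟩
  let L : Subgroup (Perm Ω) := H ⊓ fixingSubgroup (Perm Ω) (T : Set Ω)
  have hL : ∀ g, g ∈ L ↔ g ∈ H ∧ g a = a ∧ g b = b ∧ g c = c := fun g => by
    simp [L, T, mem_fixingSubgroup_iff]
  have hn : ∀ x, x ∉ Tᶜ ↔ x = a ∨ x = b ∨ x = c := fun x => by simp [T, or_iff_not_imp_left]
  have hcard : Nat.card Ω = 12 := by rw [Nat.card_eq_fintype_card, h12]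
  obtain ⟨hov, h3, hord, hfix⟩ := hM₀
  have hle : L ≤ M₀ := inf_le_left.trans hov.2
  have hprim : IsPreprimitive M₀ Ω :=
    isPreprimitive_of_is_two_pretransitive (isMultiplyPretransitive_of_le (n := 3) (by omega) (by omega))
  have ctx : N12.Ctx Tᶜ L := by
    refine ⟨by rw [Finset.card_compl, h12, hT], fun l hl x hx => ?_, fun y hy hy3 x hx e => ?_⟩
    · obtain ⟨-, e1, e2, e3⟩ := (hL l).1 hl
      rcases (hn x).1 hx with rfl | rfl | rfl <;> assumption
    · by_contra h1
      refine s.not_alt_le hov (hS Ω M₀ y (by omega) (hle hy) hy3 h1 ?_ hprim)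
      obtain ⟨-, e1, e2, e3⟩ := (hL y).1 hy
      have h4 := card_compl_support_modEq (p := 3) (n := 1) (σ := y) (by simpa using hy3)
      have h5 : insert x T ⊆ y.supportᶜ := by
        intro z hz
        simp only [T, Finset.mem_insert, Finset.mem_singleton] at hz
        rw [Finset.mem_compl, mem_support, not_not]
        rcases hz with rfl | rfl | rfl | rfl <;> assumption
      have h6 := Finset.card_le_card h5
      rw [Finset.card_insert_of_notMem (Finset.mem_compl.1 hx), hT] at h6
      have h7 := Finset.card_add_card_compl y.support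
      rw [h12] at h4 h7
      unfold Nat.ModEq at h4
      omega
  have hLc : Nat.card L * 1320 = Nat.card M₀ := by
    have h4 := h3.index_of_fixingSubgroup_mul (s := (T : Set Ω)) (by rw [Set.ncard_coe_finset, hT])
    have h5 : fixingSubgroup M₀ (T : Set Ω) = L.subgroupOf M₀ := by
      ext g
      rw [mem_subgroupOf, hL, mem_fixingSubgroup_iff]
      simp only [T, Finset.coe_insert, Finset.coe_singleton, Set.mem_insert_iff, Set.mem_singleton_iff, forall_eq_or_imp,
        forall_eq]
      exact ⟨fun h => ⟨hfix g g.2 h.1 h.2.1 h.2.2, h⟩, fun h => h.2⟩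
    have h6 := (L.subgroupOf M₀).index_mul_card
    rw [Nat.card_congr (subgroupOfEquivOfLe hle).toEquiv] at h6
    rw [h5, hcard] at h4
    have h7 : (L.subgroupOf M₀).index = 1320 := by
      norm_num [Nat.factorial] at h4
      omega
    rw [← h6, h7, mul_comm]
  have key := N12.ncard_mul_le (L := L) s (𝓜 := 𝓜) (fun M hM => hM.1) (N12.Gs Tᶜ L (swap a b))
    (fun g hg h => hH g h ⟨by rw [hg.1 a ((hn a).2 (by simp)), swap_apply_left],
      by rw [hg.1 b ((hn b).2 (by simp)), swap_apply_right],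
      by rw [hg.1 c ((hn c).2 (by simp)), swap_apply_of_ne_of_ne hac.symm hbc.symm]⟩)
    (fun M hM => by
      obtain ⟨hov, h3, -, hfix⟩ := hM
      have i1 : Function.Injective ![a, b, c] := by
        intro i j
        fin_cases i <;> fin_cases j <;> simp [hab, hac, hbc, hab.symm, hac.symm, hbc.symm]
      have i2 : Function.Injective ![b, a, c] := by
        intro i j
        fin_cases i <;> fin_cases j <;> simp [hab, hac, hbc, hab.symm, hac.symm, hbc.symm]
      obtain ⟨⟨g, hg⟩, e⟩ := isMultiplyPretransitive_iff.1 h3 ⟨_, i1⟩ ⟨_, i2⟩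
      have ea : g a = b := congrArg (fun z : Fin 3 ↪ Ω => z 0) e
      have eb : g b = a := congrArg (fun z : Fin 3 ↪ Ω => z 1) e
      have ec : g c = c := congrArg (fun z : Fin 3 ↪ Ω => z 2) e
      refine ⟨g, fun l hl => ?_⟩
      obtain ⟨hlH, e1, e2, e3⟩ := (hL l).1 hl
      have hk : g * l ∈ M := M.mul_mem hg (hov.2 hlH)
      have ka : (g * l) a = b := by rw [Perm.mul_apply, e1, ea]
      have kb : (g * l) b = a := by rw [Perm.mul_apply, e2, eb]
      have kc : (g * l) c = c := by rw [Perm.mul_apply, e3, ec]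
      generalize g * l = k at hk ka kb kc
      refine ⟨hk, fun x hx => ?_, fun x hx => ?_, fun y hy => ?_⟩
      · rcases (hn x).1 hx with rfl | rfl | rfl
        · rw [ka, swap_apply_left]
        · rw [kb, swap_apply_right]
        · rw [kc, swap_apply_of_ne_of_ne hac.symm hbc.symm]
      · by_contra h
        rcases (hn _).1 h with h | h | h
        · exact (hn x).2 (Or.inr (Or.inl (k.injective (h.trans kb.symm)))) hx
        · exact (hn x).2 (Or.inl (k.injective (h.trans ka.symm))) hx
        · exact (hn x).2 (Or.inr (Or.inr (k.injective (h.trans kc.symm)))) hx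
      · obtain ⟨hyH, y1, y2, y3⟩ := (hL y).1 hy
        have ia : k⁻¹ a = b := Perm.inv_eq_iff_eq.2 kb.symm
        have ib : k⁻¹ b = a := Perm.inv_eq_iff_eq.2 ka.symm
        have ic : k⁻¹ c = c := Perm.inv_eq_iff_eq.2 kc.symm
        have z1 : (k * y * k⁻¹) a = a := by rw [Perm.mul_apply, Perm.mul_apply, ia, y2, kb]
        have z2 : (k * y * k⁻¹) b = b := by rw [Perm.mul_apply, Perm.mul_apply, ib, y1, ka]
        have z3 : (k * y * k⁻¹) c = c := by rw [Perm.mul_apply, Perm.mul_apply, ic, y3, kc]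
        exact (hL _).2 ⟨hfix _ (M.mul_mem (M.mul_mem hk (hov.2 hyH)) (M.inv_mem hk)) z1 z2 z3, z1, z2, z3⟩)
  rcases hord with h | h
  · have h6 : Nat.card L = 6 := by omega
    have := N12.ncard_six ctx h6 (swap a b)
    rw [h6] at key
    omega
  · have h72 : Nat.card L = 72 := by omega
    have := N12.ncard_72 ctx h72 (swap a b)
    rw [h72] at key
    omega

end Cfsg.Agent.SM.NP
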