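import Cfsg.Agent.SM.NP.Defs

/-!
# SM / NP, box N12: groups on nine points whose elements of order three are fixed point free (helper5)
-/

set_option autoImplicit false
set_option linter.unusedSectionVars false
set_option linter.unusedVariables false

namespace Cfsg.Agent.SM.NP.N12

open Equiv Equiv.Perm Subgroup

variable {Ω : Type} [Fintype Ω] [DecidableEq Ω]

/-- `L` moves only the nine points of `R`, its elements of order three have no fixed point in `R` -/
structure Ctx (R : Finset Ω) (L : Subgroup (Perm Ω)) : Prop where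
  card : R.card = 9
  fix : ∀ l ∈ L, ∀ x, x ∉ R → l x = x
  free : ∀ y ∈ L, y ^ 3 = 1 → ∀ x ∈ R, y x = x → y = 1

/-- the permutations that normalise `L` and act as `σ` outside `R` -/
def Gs (R : Finset Ω) (L : Subgroup (Perm Ω)) (σ : Perm Ω) : Set (Perm Ω) :=
  {g | (∀ x, x ∉ R → g x = σ x) ∧ (∀ x ∈ R, g x ∈ R) ∧ ∀ l ∈ L, g * l * g⁻¹ ∈ L}

/-- the orbits of an element of order three -/
def Ob (u : Perm Ω) (x y : Ω) : Prop := y = x ∨ y = u x ∨ y = u (u x)

variable {R : Finset Ω} {L : Subgroup (Perm Ω)} {u : Perm Ω}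

theorem cube (hu : u ^ 3 = 1) (x : Ω) : u (u (u x)) = x := by
  have := congrArg (fun w : Perm Ω => w x) hu
  simpa [pow_succ] using this

theorem Ob.refl (u : Perm Ω) (x : Ω) : Ob u x x := Or.inl rfl

theorem Ob.symm (hu : u ^ 3 = 1) {x y : Ω} (h : Ob u x y) : Ob u y x := by
  rcases h with rfl | rfl | rfl
  · exact Or.inl rfl
  · exact Or.inr (Or.inr (cube hu x).symm)
  · exact Or.inr (Or.inl (cube hu x).symm)

theorem Ob.trans (hu : u ^ 3 = 1) {x y z : Ω} (h : Ob u x y) (h' : Ob u y z) : Ob u x z := by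
  rcases h with rfl | rfl | rfl <;> rcases h' with rfl | rfl | rfl <;> simp [Ob, cube hu]

/-- a permutation that normalises `⟨u⟩` permutes the orbits -/
theorem Ob.map (hu : u ^ 3 = 1) {g : Perm Ω} (hg : g * u * g⁻¹ = u ∨ g * u * g⁻¹ = u * u) {x y : Ω} (h : Ob u x y) :
    Ob u (g x) (g y) := by
  have key : ∀ z, g (u z) = (g * u * g⁻¹) (g z) := fun z => by simp
  rcases hg with hg | hg <;> rw [hg] at key <;> rcases h with rfl | rfl | rfl <;> simp [Ob, key, cube hu]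

theorem Ob.congr {g g' : Perm Ω} (hg : g * u * g⁻¹ = g' * u * g'⁻¹) {x y : Ω} (h : Ob u x y) (e : g x = g' x) :
    g y = g' y := by
  have key : ∀ z, g z = g' z → g (u z) = g' (u z) := fun z hz => by
    have h1 : g (u z) = (g * u * g⁻¹) (g z) := by simp
    rw [h1, hg, hz]
    simp
  rcases h with rfl | rfl | rfl
  · exact e
  · exact key _ e
  · exact key _ (key _ e)

theorem zp (hu : u ^ 3 = 1) {w : Perm Ω} (hw : w ∈ zpowers u) : w = 1 ∨ w = u ∨ w = u * u := by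
  obtain ⟨k, rfl⟩ := mem_zpowers_iff.1 hw
  have h3 : u ^ (3 : ℤ) = 1 := by exact_mod_cast hu
  have e : u ^ k = u ^ (k % 3) := by
    conv_lhs => rw [← Int.mul_ediv_add_emod k 3, zpow_add, zpow_mul, h3, one_zpow, one_mul]
  rw [e]
  have : k % 3 = 0 ∨ k % 3 = 1 ∨ k % 3 = 2 := by omega
  rcases this with h | h | h <;> rw [h]
  · simp
  · simp
  · exact Or.inr (Or.inr (by rw [zpow_two]))

namespace Ctx

theorem mem (c : Ctx R L) {l : Perm Ω} (hl : l ∈ L) {x : Ω} (hx : x ∈ R) : l x ∈ R := by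
  by_contra h
  exact h ((l.injective (c.fix l hl _ h)).symm ▸ hx)

theorem ne1 (c : Ctx R L) (hL : u ∈ L) (hu : u ^ 3 = 1) (h1 : u ≠ 1) {x : Ω} (hx : x ∈ R) : u x ≠ x :=
  fun h => h1 (c.free u hL hu x hx h)

theorem ne2 (c : Ctx R L) (hL : u ∈ L) (hu : u ^ 3 = 1) (h1 : u ≠ 1) {x : Ω} (hx : x ∈ R) : u (u x) ≠ x := fun h => by
  have := cube hu x
  rw [h] at this
  exact c.ne1 hL hu h1 hx this

theorem card_ob (c : Ctx R L) (hL : u ∈ L) (hu : u ^ 3 = 1) (h1 : u ≠ 1) {x : Ω} (hx : x ∈ R) :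
    ({x, u x, u (u x)} : Finset Ω).card = 3 :=
  Finset.card_eq_three.2 ⟨x, u x, u (u x), (c.ne1 hL hu h1 hx).symm, (c.ne2 hL hu h1 hx).symm,
    (c.ne1 hL hu h1 (c.mem hL hx)).symm, rfl⟩

theorem ob_mem (c : Ctx R L) (hL : u ∈ L) {x y : Ω} (hx : x ∈ R) (h : Ob u x y) : y ∈ R := by
  rcases h with rfl | rfl | rfl
  · exact hx
  · exact c.mem hL hx
  · exact c.mem hL (c.mem hL hx)

/-- there are at most three orbits -/
theorem four (c : Ctx R L) (hL : u ∈ L) (hu : u ^ 3 = 1) (h1 : u ≠ 1) {x y z w : Ω} (hx : x ∈ R) (hy : y ∈ R)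
    (hz : z ∈ R) (hw : w ∈ R) (xy : ¬ Ob u x y) (xz : ¬ Ob u x z) (yz : ¬ Ob u y z) :
    Ob u x w ∨ Ob u y w ∨ Ob u z w := by
  have hm : ∀ a b : Ω, b ∈ ({a, u a, u (u a)} : Finset Ω) ↔ Ob u a b := fun a b => by simp [Ob]
  have hd : ∀ a b : Ω, ¬ Ob u a b → Disjoint ({a, u a, u (u a)} : Finset Ω) {b, u b, u (u b)} := fun a b hab => by
    rw [Finset.disjoint_left]
    intro e h2 h3
    exact hab (((hm _ _).1 h2).trans hu (((hm _ _).1 h3).symm hu))
  have hs : ({x, u x, u (u x)} ∪ {y, u y, u (u y)} ∪ {z, u z, u (u z)} : Finset Ω) ⊆ R := by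
    intro e he
    simp only [Finset.mem_union, hm] at he
    rcases he with (h | h) | h
    · exact c.ob_mem hL hx h
    · exact c.ob_mem hL hy h
    · exact c.ob_mem hL hz h
  have hc : ({x, u x, u (u x)} ∪ {y, u y, u (u y)} ∪ {z, u z, u (u z)} : Finset Ω).card = 9 := by
    rw [Finset.card_union_of_disjoint (Finset.disjoint_union_left.2 ⟨hd _ _ xz, hd _ _ yz⟩),
      Finset.card_union_of_disjoint (hd _ _ xy), c.card_ob hL hu h1 hx, c.card_ob hL hu h1 hy, c.card_ob hL hu h1 hz]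
  have he := Finset.eq_of_subset_of_card_le hs (by rw [hc, c.card])
  rw [← he] at hw
  simpa only [Finset.mem_union, hm, or_assoc] using hw

/-- a point outside two orbits -/
theorem exists_out (c : Ctx R L) (u : Perm Ω) (x y : Ω) : ∃ z ∈ R, ¬ Ob u x z ∧ ¬ Ob u y z := by
  by_contra h
  have hs : R ⊆ ({x, u x, u (u x)} ∪ {y, u y, u (u y)} : Finset Ω) := by
    intro z hz
    by_contra h2
    apply h
    refine ⟨z, hz, ?_⟩
    simpa only [Ob, Finset.mem_union, Finset.mem_insert, Finset.mem_singleton, not_or] using h2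
  have h3 := (Finset.card_le_card hs).trans (Finset.card_union_le _ _)
  have h4 : ({x, u x, u (u x)} : Finset Ω).card ≤ 3 := Finset.card_le_three
  have h5 : ({y, u y, u (u y)} : Finset Ω).card ≤ 3 := Finset.card_le_three
  rw [c.card] at h3
  omega

/-- two permutations that agree on three orbit representatives -/
theorem ext3 (c : Ctx R L) (hL : u ∈ L) (hu : u ^ 3 = 1) (h1 : u ≠ 1) {x y z : Ω} (hx : x ∈ R) (hy : y ∈ R)
    (hz : z ∈ R) (xy : ¬ Ob u x y) (xz : ¬ Ob u x z) (yz : ¬ Ob u y z) {g g' : Perm Ω}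
    (ho : ∀ w, w ∉ R → g w = g' w) (hg : g * u * g⁻¹ = g' * u * g'⁻¹) (ex : g x = g' x) (ey : g y = g' y)
    (ez : g z = g' z) : g = g' := by
  ext w
  by_cases hw : w ∈ R
  · rcases c.four hL hu h1 hx hy hz hw xy xz yz with h | h | h
    · exact h.congr hg ex
    · exact h.congr hg ey
    · exact h.congr hg ez
  · exact ho w hw

end Ctx

/-- **counting by cosets** -/
theorem ncard_mul_le {X H : Subgroup (Perm Ω)} (s : Sec X H) {𝓜 : Set (Subgroup (Perm Ω))} (h𝓜 : 𝓜 ⊆ Ov X H)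
    (G : Set (Perm Ω)) (hG : ∀ g ∈ G, g ∉ H) (h : ∀ M ∈ 𝓜, ∃ g, ∀ l ∈ L, g * l ∈ M ∧ g * l ∈ G) :
    𝓜.ncard * Nat.card L ≤ G.ncard := by
  choose! f hf using h
  let F : 𝓜 × L → G := fun p => ⟨f p.1 * p.2, (hf p.1 p.1.2 p.2 p.2.2).2⟩
  have hF : Function.Injective F := by
    rintro ⟨⟨M, hM⟩, l, hl⟩ ⟨⟨M', hM'⟩, l', hl'⟩ e
    have e1 : f M * l = f M' * l' := congrArg Subtype.val e
    have e2 : M = M' := s.eq_of_mem (h𝓜 hM) (h𝓜 hM') (hf M hM l hl).1 (e1 ▸ (hf M' hM' l' hl').1)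
      (hG _ (hf M hM l hl).2)
    subst e2
    have e3 : l = l' := mul_left_cancel e1
    subst e3
    rfl
  have := Nat.card_le_card_of_injective F hF
  rwa [Nat.card_prod, Nat.card_coe_set_eq, Nat.card_coe_set_eq] at this

end Cfsg.Agent.SM.NP.N12
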