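import Cfsg.Agent.SM.NP.N12A

/-!
# SM / NP, box N12: the stabiliser of order six (helper5)
-/

set_option autoImplicit false
set_option linter.unusedSectionVars false
set_option linter.unusedVariables false

namespace Cfsg.Agent.SM.NP.N12

open Equiv Equiv.Perm Subgroup

variable {Ω : Type} [Fintype Ω] [DecidableEq Ω] {R : Finset Ω} {L : Subgroup (Perm Ω)}

/-- a set with an injective labelling -/
theorem ncard_le_lab {α β : Type} (G : Set α) (Z : Finset β) (f : α → β) (h1 : ∀ g ∈ G, f g ∈ Z)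
    (h2 : ∀ g ∈ G, ∀ g' ∈ G, f g = f g' → g = g') : G.ncard ≤ Z.card := by
  rw [← Set.ncard_coe_finset]
  exact Set.ncard_le_ncard_of_injOn f h1 h2 (Set.toFinite _)

/-- an involution of `L` has a fixed point in `R` -/
theorem Ctx.exists_fix (c : Ctx R L) {t : Perm Ω} (ht : t ∈ L) (h2 : t ^ 2 = 1) : ∃ d ∈ R, t d = d := by
  by_contra h
  have hs : t.support = R := by
    ext x
    rw [mem_support]
    exact ⟨fun h1 => by_contra fun h3 => h1 (c.fix t ht x h3), fun h1 h3 => h ⟨x, h1, h3⟩⟩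
  have h3 := card_compl_support_modEq (p := 2) (n := 1) (σ := t) (by simpa using h2)
  have h4 := Finset.card_add_card_compl R
  rw [hs] at h3
  rw [c.card] at h4
  unfold Nat.ModEq at h3
  omega

theorem ncard_six (c : Ctx R L) (h6 : Nat.card L = 6) (σ : Perm Ω) : (Gs R L σ).ncard ≤ 54 := by
  classical
  obtain ⟨⟨u, hL⟩, hu0⟩ := exists_prime_orderOf_dvd_card' (G := L) 3 (by rw [h6]; norm_num)
  obtain ⟨⟨t, htL⟩, ht0⟩ := exists_prime_orderOf_dvd_card' (G := L) 2 (by rw [h6]; norm_num)
  rw [← orderOf_coe] at hu0 ht0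
  simp only at hu0 ht0
  have hu : u ^ 3 = 1 := hu0 ▸ pow_orderOf_eq_one u
  have ht : t ^ 2 = 1 := ht0 ▸ pow_orderOf_eq_one t
  have h1 : u ≠ 1 := fun h => by simp [h] at hu0
  have ht1 : t ≠ 1 := fun h => by simp [h] at ht0
  have htt : ∀ x, t (t x) = x := fun x => by
    have := congrArg (fun w : Perm Ω => w x) ht
    simpa [pow_succ] using this
  have hle : zpowers u ≤ L := (zpowers_le).2 hL
  have hi : ((zpowers u).subgroupOf L).index = 2 := by
    have h3 := ((zpowers u).subgroupOf L).index_mul_card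
    rw [Nat.card_congr (subgroupOfEquivOfLe hle).toEquiv, Nat.card_zpowers, hu0, h6] at h3
    omega
  have hA : ∀ l ∈ L, l ^ 3 = 1 → l ∈ zpowers u := fun l hl h3 => by
    have h4 : l ^ 2 ∈ zpowers u := mem_subgroupOf.1 (sq_mem_of_index_two hi ⟨l, hl⟩)
    have h5 : l = l ^ 2 * l ^ 2 := by
      rw [← pow_add, show 2 + 2 = 3 + 1 from rfl, pow_succ, h3, one_mul]
    exact h5 ▸ mul_mem h4 h4
  have hU : ∀ w ∈ zpowers u, ∀ x ∈ R, w x = x → w = 1 := fun w hw x hx e => by
    rcases zp hu hw with rfl | rfl | rfl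
    · rfl
    · exact absurd e (c.ne1 hL hu h1 hx)
    · exact absurd e (c.ne2 hL hu h1 hx)
  have hUo : ∀ w ∈ zpowers u, ∀ x, Ob u x (w x) := fun w hw x => by
    rcases zp hu hw with rfl | rfl | rfl <;> simp [Ob]
  have hC : ∀ l ∈ L, ∀ l' ∈ L, l ∉ zpowers u → l' ∉ zpowers u → l * l' ∈ zpowers u := fun l hl l' hl' n n' =>
    mem_subgroupOf.1 ((mul_mem_iff_of_index_two hi (a := ⟨l, hl⟩) (b := ⟨l', hl'⟩)).2
      (iff_of_false (fun h => n (mem_subgroupOf.1 h)) fun h => n' (mem_subgroupOf.1 h)))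
  have hB : ∀ l ∈ L, ∀ l' ∈ L, l ≠ 1 → l' ≠ 1 → ∀ x ∈ R, l x = x → l' x = x → l = l' := by
    intro l hl l' hl' n n' x hx e e'
    have h3 := hC l⁻¹ (L.inv_mem hl) l' hl' (fun h => n (hU l (by simpa using inv_mem h) x hx e))
      fun h => n' (hU l' h x hx e')
    have h4 := hU _ h3 x hx (by rw [Perm.mul_apply, e', Perm.inv_eq_iff_eq, e])
    exact inv_mul_eq_one.1 h4
  have hN : ∀ g : Perm Ω, (∀ l ∈ L, g * l * g⁻¹ ∈ L) → g * u * g⁻¹ = u ∨ g * u * g⁻¹ = u * u := fun g hg => by
    rcases zp hu (hA _ (hg u hL) (by rw [conj_pow, hu]; simp)) with h | h | h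
    · exact absurd (by simpa [mul_inv_eq_iff_eq_mul] using h) h1
    · exact Or.inl h
    · exact Or.inr h
  have hNt := hN t fun l hl => L.mul_mem (L.mul_mem htL hl) (L.inv_mem htL)
  obtain ⟨d, hd, htd⟩ := c.exists_fix htL ht
  have hconj : ∀ g : Perm Ω, g * t * g⁻¹ ≠ 1 := fun g h => ht1 (by simpa [mul_inv_eq_iff_eq_mul] using h)
  have hT : ∀ g ∈ Gs R L σ, ∀ g' ∈ Gs R L σ, g d = g' d → g * t * g⁻¹ = g' * t * g'⁻¹ := fun g hg g' hg' e =>
    hB _ (hg.2.2 t htL) _ (hg'.2.2 t htL) (hconj g) (hconj g') (g d) (hg.2.1 d hd) (by simp [htd])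
      (by simp [e, htd])
  have hout : ∀ g ∈ Gs R L σ, ∀ g' ∈ Gs R L σ, ∀ w, w ∉ R → g w = g' w := fun g hg g' hg' w hw =>
    (hg.1 w hw).trans (hg'.1 w hw).symm
  have hz2 : ({u, u * u} : Finset (Perm Ω)).card ≤ 2 := Finset.card_le_two
  by_cases hcase : ∃ p ∈ R, ¬ Ob u p (t p)
  · obtain ⟨p, hp, hpq⟩ := hcase
    have hq := c.mem htL hp
    have hdp : ¬ Ob u d p := fun h => hpq ((h.symm hu).trans hu (by simpa [htd] using h.map hu hNt))
    have hdq : ¬ Ob u d (t p) := fun h => hdp (by simpa [htd, htt] using h.map hu hNt)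
    have htU : t ∉ zpowers u := fun h => ht1 (hU t h d hd htd)
    refine (ncard_le_lab _ (({u, u * u} : Finset (Perm Ω)) ×ˢ ({d, u d, u (u d)} : Finset Ω) ×ˢ R)
      (fun g => (g * u * g⁻¹, g d, g p)) (fun g hg => ?_) fun g hg g' hg' e => ?_).trans ?_
    · simp only [Finset.mem_product, Finset.mem_insert, Finset.mem_singleton]
      refine ⟨hN g hg.2.2, ?_, hg.2.1 p hp⟩
      have hgd := hg.2.1 d hd
      have h3 : g * t * g⁻¹ ∉ zpowers u := fun h => hconj g (hU _ h (g d) hgd (by simp [htd]))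
      have h4 := hUo _ (hC _ (hg.2.2 t htL) t htL h3 htU) (t (g d))
      have h5 : (g * t * g⁻¹ * t) (t (g d)) = g d := by simp [htt, htd]
      rw [h5] at h4
      rcases c.four hL hu h1 hd hp hq hgd hdp hdq hpq with h | h | h
      · exact h
      · exact absurd ((h.trans hu (h4.symm hu)).trans hu ((h.map hu hNt).symm hu)) hpq
      · have h6 := h.map hu hNt
        rw [htt] at h6
        exact absurd ((h6.trans hu h4).trans hu (h.symm hu)) hpq
    · simp only [Prod.mk.injEq] at e
      refine c.ext3 hL hu h1 hd hp hq hdp hdq hpq (hout g hg g' hg') e.1 e.2.1 e.2.2 ?_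
      have h3 : g (t p) = (g * t * g⁻¹) (g p) := by simp
      rw [h3, hT g hg g' hg' e.2.1, e.2.2]
      simp
    · rw [Finset.card_product, Finset.card_product, c.card_ob hL hu h1 hd, c.card]
      omega
  · have hall : ∀ x ∈ R, Ob u x (t x) := fun x hx => by_contra fun h => hcase ⟨x, hx, h⟩
    have hfx : ∀ x ∈ R, ∃ y, Ob u x y ∧ t y = y := fun x hx => by
      have n1 := c.ne1 hL hu h1 hx
      have n2 := c.ne2 hL hu h1 hx
      have n3 := c.ne1 hL hu h1 (c.mem hL hx)
      rcases hall x hx with h | h | h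
      · exact ⟨x, Ob.refl u x, h⟩
      · refine ⟨u (u x), Or.inr (Or.inr rfl), ?_⟩
        rcases hall _ (c.mem hL (c.mem hL hx)) with h' | h' | h'
        · exact h'
        · rw [cube hu] at h'
          have := htt (u (u x))
          rw [h', h] at this
          exact absurd this.symm n3
        · rw [cube hu] at h'
          exact absurd (t.injective (h'.trans h.symm)) n2
      · refine ⟨u x, Or.inr (Or.inl rfl), ?_⟩
        rcases hall _ (c.mem hL hx) with h' | h' | h'
        · exact h'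
        · exact absurd (t.injective (h'.trans h.symm)) n1
        · rw [cube hu] at h'
          have := htt (u x)
          rw [h', h] at this
          exact absurd this n3
    obtain ⟨p0, hp0, hdp0, -⟩ := c.exists_out u d d
    obtain ⟨p, hpp, htp⟩ := hfx p0 hp0
    have hp := c.ob_mem hL hp0 hpp
    have hdp : ¬ Ob u d p := fun h => hdp0 (h.trans hu (hpp.symm hu))
    obtain ⟨q0, hq0, hdq0, hpq0⟩ := c.exists_out u d p
    obtain ⟨q, hqq, htq⟩ := hfx q0 hq0
    have hq := c.ob_mem hL hq0 hqq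
    have hdq : ¬ Ob u d q := fun h => hdq0 (h.trans hu (hqq.symm hu))
    have hpq : ¬ Ob u p q := fun h => hpq0 (h.trans hu (hqq.symm hu))
    have htu : t * u * t⁻¹ = u * u := by
      refine hNt.resolve_left fun h => ht1 ?_
      exact c.ext3 hL hu h1 hd hp hq hdp hdq hpq (g' := 1) (fun w hw => c.fix t htL w hw) (by simpa using h) htd htp htq
    have htu' : ∀ x, t (u x) = u (u (t x)) := fun x => by
      have h3 : t (u x) = (t * u * t⁻¹) (t x) := by simp
      rw [h3, htu]
      rfl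
    have hone : ∀ x ∈ R, ∀ y, Ob u x y → t x = x → t y = y → y = x := by
      intro x hx y h e e'
      rcases h with rfl | rfl | rfl
      · rfl
      · rw [htu', e] at e'
        exact absurd e' (c.ne1 hL hu h1 (c.mem hL hx))
      · rw [htu', htu', e, cube hu] at e'
        exact absurd e'.symm (c.ne1 hL hu h1 (c.mem hL hx))
    have hinv : ∀ g ∈ Gs R L σ, ∀ x y, Ob u (g x) (g y) → Ob u x y := fun g hg x y h => by
      have h3 : g⁻¹ * u * g⁻¹⁻¹ = u ∨ g⁻¹ * u * g⁻¹⁻¹ = u * u := by
        rcases hN g hg.2.2 with h4 | h4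
        · left
          conv_lhs => rw [← h4]
          group
        · right
          have h5 : u = g * (u * u) * g⁻¹ := by
            have h6 : g * (u * u) * g⁻¹ = (g * u * g⁻¹) * (g * u * g⁻¹) := by group
            rw [h6, h4]
            have h7 : u * u * (u * u) = u ^ 3 * u := by simp only [pow_succ, pow_zero, one_mul, mul_assoc]
            rw [h7, hu, one_mul]
          conv_lhs => rw [h5]
          group
      simpa using h.map hu h3
    have hsame : ∀ g ∈ Gs R L σ, ∀ g' ∈ Gs R L σ, g d = g' d → ∀ x ∈ R, t x = x → Ob u (g x) (g' x) →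
        g x = g' x := fun g hg g' hg' e x hx hx' h => by
      have h3 : Ob u x (g⁻¹ (g' x)) := hinv g hg _ _ (by simpa using h)
      have h4 : t (g⁻¹ (g' x)) = g⁻¹ (g' x) := by
        have h5 : (g * t * g⁻¹) (g' x) = g' x := by
          rw [hT g hg g' hg' e]
          simp [hx']
        rw [Perm.eq_inv_iff_eq]
        simpa using h5
      have h5 := hone x hx _ h3 hx' h4
      rw [Perm.inv_eq_iff_eq] at h5
      exact h5.symm
    let rep : Ω → Ω := fun x => if Ob u d x then d else if Ob u p x then p else q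
    have hrep : ∀ x ∈ R, Ob u (rep x) x := fun x hx => by
      simp only [rep]
      split_ifs with a1 a2
      · exact a1
      · exact a2
      · exact ((c.four hL hu h1 hd hp hq hx hdp hdq hpq).resolve_left a1).resolve_left a2
    refine (ncard_le_lab _ (({u, u * u} : Finset (Perm Ω)) ×ˢ R ×ˢ ({d, p, q} : Finset Ω))
      (fun g => (g * u * g⁻¹, g d, rep (g p))) (fun g hg => ?_) fun g hg g' hg' e => ?_).trans ?_
    · simp only [Finset.mem_product, Finset.mem_insert, Finset.mem_singleton]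
      refine ⟨hN g hg.2.2, hg.2.1 d hd, ?_⟩
      simp only [rep]
      split_ifs <;> simp
    · simp only [Prod.mk.injEq] at e
      obtain ⟨e1, e2, e3⟩ := e
      have ep : g p = g' p := hsame g hg g' hg' e2 p hp htp
        (((hrep _ (hg.2.1 p hp)).symm hu).trans hu (e3 ▸ hrep _ (hg'.2.1 p hp)))
      refine c.ext3 hL hu h1 hd hp hq hdp hdq hpq (hout g hg g' hg') e1 e2 ep (hsame g hg g' hg' e2 q hq htq ?_)
      rcases c.four hL hu h1 (hg.2.1 d hd) (hg.2.1 p hp) (hg.2.1 q hq) (hg'.2.1 q hq)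
        (fun h => hdp (hinv g hg _ _ h)) (fun h => hdq (hinv g hg _ _ h)) (fun h => hpq (hinv g hg _ _ h)) with h | h | h
      · exact absurd (hinv g' hg' _ _ (e2 ▸ h)) hdq
      · exact absurd (hinv g' hg' _ _ (ep ▸ h)) hpq
      · exact h
    · have h3 : ({d, p, q} : Finset Ω).card ≤ 3 := Finset.card_le_three
      rw [Finset.card_product, Finset.card_product, c.card]
      nlinarith

end Cfsg.Agent.SM.NP.N12
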