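import Cfsg.Agent.SM.NP.N12B
import Mathlib.GroupTheory.Sylow

/-!
# SM / NP, box N12: the stabiliser of order 72 (helper5)
-/

set_option autoImplicit false
set_option linter.unusedSectionVars false
set_option linter.unusedVariables false

namespace Cfsg.Agent.SM.NP.N12

open Equiv Equiv.Perm Subgroup

variable {Ω : Type} [Fintype Ω] [DecidableEq Ω] {R : Finset Ω} {L V V' : Subgroup (Perm Ω)}

theorem pow_card {V : Subgroup (Perm Ω)} {n : ℕ} (h : Nat.card V = n) {v : Perm Ω} (hv : v ∈ V) : v ^ n = 1 := by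
  have := pow_card_eq_one' (x := (⟨v, hv⟩ : V))
  rw [h] at this
  exact congrArg Subtype.val this

theorem comm9 (h9 : Nat.card V = 9) {x y : Perm Ω} (hx : x ∈ V) (hy : y ∈ V) : x * y = y * x := by
  have := IsPGroup.isMulCommutative_of_card_eq_prime_sq (G := V) (p := 3) h9
  exact congrArg Subtype.val (this.is_comm.comm ⟨x, hx⟩ ⟨y, hy⟩)

namespace Ctx

theorem free9 (c : Ctx R L) {y : Perm Ω} (hy : y ∈ L) (h9 : y ^ 9 = 1) {x : Ω} (hx : x ∈ R) (e : y x = x) : y = 1 :=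
  c.free y hy (c.free (y ^ 3) (L.pow_mem hy 3) (by rw [← pow_mul]; exact h9) x hx
    (pow_apply_eq_self_of_apply_eq_self e 3)) x hx e

theorem inj9 (c : Ctx R L) (hV : V ≤ L) (h9 : Nat.card V = 9) {v w : Perm Ω} (hv : v ∈ V) (hw : w ∈ V) {x : Ω}
    (hx : x ∈ R) (e : v x = w x) : v = w := by
  have h1 := V.mul_mem (V.inv_mem hw) hv
  have h2 := c.free9 (hV h1) (pow_card h9 h1) hx (by rw [Perm.mul_apply, Perm.inv_eq_iff_eq, e])
  exact (inv_mul_eq_one.1 h2).symm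

theorem trans9 (c : Ctx R L) (hV : V ≤ L) (h9 : Nat.card V = 9) {d x : Ω} (hd : d ∈ R) (hx : x ∈ R) :
    ∃ v ∈ V, v d = x := by
  let F : V → R := fun v => ⟨v.1 d, c.mem (hV v.2) hd⟩
  have hF : Function.Injective F := fun v w e => Subtype.ext (c.inj9 hV h9 v.2 w.2 hd (congrArg Subtype.val e))
  have hb : Function.Bijective F := (Nat.bijective_iff_injective_and_card F).2
    ⟨hF, by rw [h9, Nat.card_eq_fintype_card, Fintype.card_coe, c.card]⟩
  obtain ⟨v, hv⟩ := hb.2 ⟨x, hx⟩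
  exact ⟨v, v.2, congrArg Subtype.val hv⟩

/-- the subgroup of order nine is unique -/
theorem uniq9 (c : Ctx R L) (h72 : Nat.card L = 72) (hV : V ≤ L) (h9 : Nat.card V = 9) (hV' : V' ≤ L)
    (h9' : Nat.card V' = 9) : V' ≤ V := by
  obtain ⟨u0, hu0, hu0', hu1⟩ : ∃ u ∈ V, u ∈ V' ∧ u ≠ 1 := by
    by_contra h
    have hb : V.subgroupOf V' = ⊥ := by
      rw [eq_bot_iff]
      intro x hx
      rw [mem_bot]
      by_contra h2
      exact h ⟨x, mem_subgroupOf.1 hx, x.2, fun h3 => h2 (Subtype.ext h3)⟩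
    have h1 := (V.subgroupOf L).index_mul_card
    rw [Nat.card_congr (subgroupOfEquivOfLe hV).toEquiv, h9, h72] at h1
    have h2 : V.relIndex L = 8 := by
      unfold relIndex
      omega
    have h3 := relIndex_le_of_le_right (H := V) hV' (by omega)
    rw [h2, relIndex, hb, index_bot, h9'] at h3
    omega
  obtain ⟨u, huV, huV', hu, h1⟩ : ∃ u ∈ V, u ∈ V' ∧ u ^ 3 = 1 ∧ u ≠ 1 := by
    by_cases h : u0 ^ 3 = 1
    · exact ⟨u0, hu0, hu0', h, hu1⟩
    · exact ⟨u0 ^ 3, V.pow_mem hu0 3, V'.pow_mem hu0' 3, by rw [← pow_mul]; exact pow_card h9 hu0, h⟩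
  have hL := hV huV
  obtain ⟨d, hd⟩ : R.Nonempty := Finset.card_pos.1 (by rw [c.card]; omega)
  obtain ⟨p, hp, hdp, -⟩ := c.exists_out u d d
  obtain ⟨q, hq, hdq, hpq⟩ := c.exists_out u d p
  have cj : ∀ z : Perm Ω, z * u = u * z → z * u * z⁻¹ = u := fun z h => by rw [h, mul_inv_cancel_right]
  have out : ∀ z : Perm Ω, z * u = u * z → ∀ x y, z x = x → ¬ Ob u x y → ¬ Ob u x (z y) := fun z h x y e n h2 => by
    have h3 := h2.map hu (g := z⁻¹) (Or.inl (cj _ (Commute.inv_left h)))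
    rw [(Perm.inv_eq_iff_eq.2 e.symm : z⁻¹ x = x)] at h3
    exact n (by simpa using h3)
  have Z1 : ∀ z ∈ L, z * u = u * z → z d = d → ∀ x, Ob u x (z x) → z x = x := by
    intro z hz hc e x h
    have h8 : z ^ 8 = 1 := c.free9 (L.pow_mem hz 8) (by rw [← pow_mul]; exact pow_card h72 hz) hd
      (pow_apply_eq_self_of_apply_eq_self e 8)
    have hc' : ∀ y, z (u y) = u (z y) := fun y => congrArg (fun w : Perm Ω => w y) hc
    have h3 : (z ^ 3) x = x := by
      rcases h with h | h | h <;> simp [pow_succ, h, hc', cube hu]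
    have h4 := pow_apply_eq_self_of_apply_eq_self h3 3
    rwa [← pow_mul, show 3 * 3 = 8 + 1 from rfl, pow_succ, h8, one_mul] at h4
  have Z : ∀ z ∈ L, z * u = u * z → z d = d → Ob u p (z p) → z = 1 := by
    intro z hz hc e h
    have ep := Z1 z hz hc e p h
    refine c.ext3 hL hu h1 hd hp hq hdp hdq hpq (g' := 1) (fun w hw => c.fix z hz w hw) (by simpa using cj z hc) e ep
      (Z1 z hz hc e q ?_)
    exact ((c.four hL hu h1 hd hp hq (c.mem hz hq) hdp hdq hpq).resolve_left (out z hc d q e hdq)).resolve_left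
      (out z hc p q ep hpq)
  have Zq : ∀ z ∈ L, z * u = u * z → z d = d → z ≠ 1 → Ob u q (z p) := fun z hz hc e n =>
    ((c.four hL hu h1 hd hp hq (c.mem hz hp) hdp hdq hpq).resolve_left (out z hc d p e hdp)).resolve_left
      fun h => n (Z z hz hc e h)
  have Z2 : ∀ x ∈ L, x * u = u * x → x d = d → x ≠ 1 → ∀ y ∈ L, y * u = u * y → y d = d → y ≠ 1 → y = x := by
    intro x hx cx ex nx y hy cy ey ny
    have h2 : Ob u (y p) (x p) := ((Zq y hy cy ey ny).symm hu).trans hu (Zq x hx cx ex nx)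
    have h3 := h2.map hu (g := y⁻¹) (Or.inl (cj _ (Commute.inv_left cy)))
    refine inv_mul_eq_one.1 (Z (y⁻¹ * x) (L.mul_mem (L.inv_mem hy) hx)
      (Commute.mul_left (Commute.inv_left cy) cx) ?_ (by simpa using h3))
    rw [Perm.mul_apply, ex, Perm.inv_eq_iff_eq, ey]
  have dec : ∀ w ∈ V', w ∉ V → ∃ v ∈ V, v⁻¹ * w ∈ L ∧ v⁻¹ * w * u = u * (v⁻¹ * w) ∧ (v⁻¹ * w) d = d ∧
      v⁻¹ * w ≠ 1 := by
    intro w hw n
    obtain ⟨v, hv, e⟩ := c.trans9 hV h9 hd (c.mem (hV' hw) hd)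
    refine ⟨v, hv, L.mul_mem (L.inv_mem (hV hv)) (hV' hw),
      Commute.mul_left (comm9 h9 (V.inv_mem hv) huV) (comm9 h9' hw huV'), ?_, fun h => n (inv_mul_eq_one.1 h ▸ hv)⟩
    rw [Perm.mul_apply, Perm.inv_eq_iff_eq, e]
  intro w hw
  by_contra n
  obtain ⟨v1, hv1, a1, a2, a3, a4⟩ := dec w hw n
  obtain ⟨v2, hv2, b1, b2, b3, b4⟩ := dec w⁻¹ (V'.inv_mem hw) fun h => n (by simpa using V.inv_mem h)
  have e := Z2 _ a1 a2 a3 a4 _ b1 b2 b3 b4
  have e2 : w * w = v1 * v2⁻¹ := by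
    calc w * w = v1 * (v1⁻¹ * w) * w := by group
      _ = v1 * v2⁻¹ := by rw [← e]; group
  have e3 : w = (w * w) ^ 5 := by
    rw [← pow_two, ← pow_mul, show 2 * 5 = 9 + 1 from rfl, pow_succ, pow_card h9' hw, one_mul]
  exact n (e3 ▸ V.pow_mem (e2 ▸ V.mul_mem hv1 (V.inv_mem hv2)) 5)

end Ctx

theorem ncard_72 (c : Ctx R L) (h72 : Nat.card L = 72) (σ : Perm Ω) : (Gs R L σ).ncard ≤ 648 := by
  classical
  obtain ⟨K, hK⟩ := Sylow.exists_subgroup_card_pow_prime (G := L) 3 (n := 2) (by rw [h72]; norm_num)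
  obtain ⟨V, hV, h9⟩ : ∃ V : Subgroup (Perm Ω), V ≤ L ∧ Nat.card V = 9 :=
    ⟨K.map L.subtype, map_subtype_le K, by rw [card_map_of_injective L.subtype_injective, hK]; rfl⟩
  have hN : ∀ g ∈ Gs R L σ, ∀ v ∈ V, g * v * g⁻¹ ∈ V := fun g hg v hv =>
    c.uniq9 h72 hV h9 (V' := V.map (MulAut.conj g).toMonoidHom)
      (by rintro _ ⟨x, hx, rfl⟩; exact hg.2.2 x (hV hx))
      (by rw [card_map_of_injective (MulAut.conj g).injective, h9]) ⟨v, hv, rfl⟩
  obtain ⟨d, hd⟩ : R.Nonempty := Finset.card_pos.1 (by rw [c.card]; omega)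
  have hout : ∀ S : Finset (Perm Ω), S.card < 9 → ∃ v ∈ V, v ∉ S := fun S hS => by
    by_contra h
    have h1 : (V : Set (Perm Ω)) ⊆ S := fun v hv => by_contra fun h2 => h ⟨v, hv, h2⟩
    have h2 := Set.ncard_le_ncard h1 (Set.toFinite _)
    rw [Set.ncard_coe_finset, ← Nat.card_coe_set_eq] at h2
    exact absurd (h9 ▸ h2 : 9 ≤ S.card) (by omega)
  obtain ⟨v1, hv1, n1⟩ := hout {1} (by simp)
  obtain ⟨v2, hv2, n2⟩ := hout {1, v1, v1 * v1} (lt_of_le_of_lt Finset.card_le_three (by norm_num))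
  simp only [Finset.mem_insert, Finset.mem_singleton, not_or] at n1 n2
  have hgen : ∀ W : Subgroup (Perm Ω), W ≤ V → v1 ∈ W → v2 ∈ W → V ≤ W := fun W hW w1 w2 => by
    have n3 : v1 * v1 ≠ 1 := fun h => n1 (by
      have h3 := pow_card h9 hv1
      rwa [show 9 = 2 * 4 + 1 from rfl, pow_succ, pow_mul, pow_two, h, one_pow, one_mul] at h3)
    have n4 : v1 * v1 ≠ v1 := fun h => n1 (by simpa using h)
    have h4 : ({v2, 1, v1, v1 * v1} : Finset (Perm Ω)).card = 4 := by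
      rw [Finset.card_insert_of_notMem (by simp [n2]), Finset.card_eq_three.2 ⟨_, _, _, Ne.symm n1, n3.symm, n4.symm, rfl⟩]
    have h5 : (({v2, 1, v1, v1 * v1} : Finset (Perm Ω)) : Set (Perm Ω)) ⊆ W := by
      intro x hx
      simp only [Finset.coe_insert, Finset.coe_singleton, Set.mem_insert_iff, Set.mem_singleton_iff] at hx
      rcases hx with rfl | rfl | rfl | rfl
      · exact w2
      · exact W.one_mem
      · exact w1
      · exact W.mul_mem w1 w1
    have h6 := Set.ncard_le_ncard h5 (Set.toFinite _)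
    rw [Set.ncard_coe_finset, h4, ← Nat.card_coe_set_eq] at h6
    have h7 : Nat.card W ∣ 3 ^ 2 := by
      have := card_dvd_of_le hW
      rwa [h9] at this
    obtain ⟨k, hk, h8⟩ := (Nat.dvd_prime_pow Nat.prime_three).1 h7
    have h10 : Nat.card W = 9 := by
      have h11 : 4 ≤ Nat.card W := h6
      rw [h8] at h11 ⊢
      interval_cases k <;> simp_all
    exact (eq_of_le_of_card_ge hW (by rw [h9, h10])).ge
  refine (ncard_le_lab _ (R.offDiag ×ˢ R) (fun g => ((g d, g (v1 d)), g (v2 d))) (fun g hg => ?_)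
    fun g hg g' hg' e => ?_).trans ?_
  · simp only [Finset.mem_product, Finset.mem_offDiag]
    refine ⟨⟨hg.2.1 d hd, hg.2.1 _ (c.mem (hV hv1) hd), fun h => n1 ?_⟩, hg.2.1 _ (c.mem (hV hv2) hd)⟩
    exact c.inj9 hV h9 hv1 V.one_mem hd (g.injective h).symm
  · simp only [Prod.mk.injEq] at e
    obtain ⟨⟨e0, e1⟩, e2⟩ := e
    let W : Subgroup (Perm Ω) := V ⊓ (MulAut.conj g).toMonoidHom.eqLocus (MulAut.conj g').toMonoidHom
    have hW : ∀ v ∈ V, g (v d) = g' (v d) → v ∈ W := fun v hv ev =>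
      ⟨hv, c.inj9 hV h9 (hN g hg v hv) (hN g' hg' v hv) (hg.2.1 d hd) (by
        have h1 : (g' * v * g'⁻¹) (g' d) = g' (v d) := by simp
        rw [← e0] at h1
        change (g * v * g⁻¹) (g d) = (g' * v * g'⁻¹) (g d)
        rw [h1, ← ev]
        simp)⟩
    have hle := hgen W inf_le_left (hW v1 hv1 e1) (hW v2 hv2 e2)
    ext x
    by_cases hx : x ∈ R
    · obtain ⟨v, hv, rfl⟩ := c.trans9 hV h9 hd hx
      have h1 : g * v * g⁻¹ = g' * v * g'⁻¹ := (hle hv).2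
      have h2 : g (v d) = (g * v * g⁻¹) (g d) := by simp
      rw [h2, h1, e0]
      simp
    · exact (hg.1 x hx).trans (hg'.1 x hx).symm
  · rw [Finset.card_product, Finset.offDiag_card, c.card]

end Cfsg.Agent.SM.NP.N12
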