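import Cfsg.Agent.SM.NP.Defs
import Cfsg.Agent.TH.Alt.Lib

/-!
# SM (S3570), `H` not primitive: the boxes S6 and J3 (helper23)
-/

set_option autoImplicit false
set_option linter.unusedSectionVars false

namespace Cfsg.Agent.SM.NP

open Equiv Equiv.Perm Subgroup MulAction

/-- **[S6]** -/
theorem boxS6 : BoxS6 := by
  intro Ω _ _ M r hn hr h3 h1 hs hp
  by_contra hA
  have ho : orderOf r = 3 := orderOf_eq_prime (hp := ⟨Nat.prime_three⟩) h3 h1
  have h2 := H711.RCA.six_of_prim hp hA (by omega) _ hr h1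
  have h6 : orderOf (⟨r, hr⟩ : M) = 3 := by rw [Subgroup.orderOf_mk, ho]
  have h7 : Nat.card (fixedBy Ω (⟨r, hr⟩ : M)) = Fintype.card Ω - 6 := by
    have h8 : fixedBy Ω (⟨r, hr⟩ : M) = (r.supportᶜ : Finset Ω) := by
      ext a
      rw [Finset.mem_coe, Finset.mem_compl, mem_support, not_not]
      rfl
    rw [h8, Nat.card_coe_set_eq, Set.ncard_coe_finset, Finset.card_compl]
    omega
  rcases S3618.result (TH.Alt.lib_quasi hp) 3 2 Nat.prime_three le_rfl (by norm_num) _ h6 (by omega) with h8 | h8 | h8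
  · omega
  · refine hA fun σ hσ => ?_
    obtain ⟨x, rfl⟩ := h8 σ hσ
    exact x.2
  · obtain ⟨c, -, h9, h10, -⟩ := h8
    have h11 : c = 4 := by omega
    subst h11
    have h12 : Nat.choose 4 2 = 6 := rfl
    omega

/-- **[J3]** -/
theorem boxJ3 : BoxJ3 := by
  intro Ω _ _ M B h2 hn hJ hp σ hσ
  have h : IsPretransitive (fixingSubgroup M Bᶜ) (SubMulAction.ofFixingSubgroup M Bᶜ) := by
    refine ⟨fun a b => ?_⟩
    have ha : a.1 ∈ B := not_not.1 a.2
    have hb : b.1 ∈ B := not_not.1 b.2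
    obtain ⟨g, hg, e, hf⟩ := hJ a.1 ha b.1 hb
    exact ⟨⟨⟨g, hg⟩, (mem_fixingSubgroup_iff M).2 fun x hx => hf x hx⟩, Subtype.ext e⟩
  obtain ⟨x, rfl⟩ := S3620.result (TH.Alt.lib_quasi hp) B (by omega) hn h σ hσ
  exact x.2

end Cfsg.Agent.SM.NP
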