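import Mathlib.Data.ZMod.Basic
import Mathlib.Algebra.BigOperators.Ring.Finset
import Mathlib.Algebra.Order.BigOperators.Group.Finset
import Mathlib.GroupTheory.Perm.Basic
import Mathlib.GroupTheory.Subgroup.Center
import Mathlib.Combinatorics.Enumerative.DoubleCounting
import Mathlib.Tactic

/-!
# SM (S3570) : doubly transitive actions of `Sp_{2m}(2)`, the abstract part (helper94)

The transvections which fix a point are the non-singular vectors of a quadratic form.
-/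

set_option autoImplicit false
set_option linter.unusedSectionVars false

namespace Cfsg.Agent.SM.NP.Sp

open Finset Equiv

variable {G V : Type} [Group G] [AddCommGroup V]

/-- a symplectic space over the field with two elements, with its transvections -/
structure Sy (ω : V → V → ZMod 2) (t : V → G) (ac : G → V → V) : Prop where
  add : ∀ u v w, ω u (v + w) = ω u v + ω u w
  sym : ∀ u v, ω u v = ω v u
  alt : ∀ v, ω v v = 0
  two : ∀ v : V, v + v = 0
  nz : ∀ v, v ≠ 0 → ∃ w, ω v w = 1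
  rep : ∀ L : V → ZMod 2, (∀ u v, L (u + v) = L u + L v) → ∃ p, ∀ v, L v = ω p v
  t0 : ∀ u w, ω u w = 0 → ac (t u) w = w
  t1 : ∀ u w, ω u w = 1 → ac (t u) w = u + w
  cj : ∀ g v, g * t v = t (ac g v) * g
  inj : ∀ g, Function.Injective (ac g)
  ac0 : ∀ g, ac g 0 = 0
  zero : t 0 = 1

/-- a quadratic form -/
def Quad (ω : V → V → ZMod 2) (Q : V → ZMod 2) : Prop := ∀ u w, Q (u + w) = Q u + Q w + ω u w

theorem z2 : ∀ a : ZMod 2, a = 0 ∨ a = 1 := by decide

theorem z3 : ∀ a : ZMod 2, a + a = 0 := by decide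

namespace Sy

variable {ω : V → V → ZMod 2} {t : V → G} {ac : G → V → V} (h : Sy ω t ac)
include h

theorem addl (u v w : V) : ω (u + v) w = ω u w + ω v w := by rw [h.sym, h.add, h.sym w, h.sym w]

theorem zr (u : V) : ω u 0 = 0 := by rw [← h.two u, h.add, z3]

theorem zl (u : V) : ω 0 u = 0 := by rw [h.sym, h.zr]

theorem canc (u v : V) : u + (u + v) = v := by rw [← add_assoc, h.two, zero_add]

theorem eq_of {u v : V} (e : u + v = 0) : u = v := by rw [← h.canc v u, add_comm v u, e, add_zero]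

theorem ne0 {u w : V} (e : ω u w = 1) : u ≠ 0 ∧ w ≠ 0 ∧ u + w ≠ 0 :=
  ⟨fun e' => by rw [e', h.zl] at e; exact absurd e (by decide), fun e' => by rw [e', h.zr] at e; exact absurd e (by decide),
    fun e' => by rw [h.eq_of e', h.alt] at e; exact absurd e (by decide)⟩

theorem ex2 {u w : V} (h1 : u ≠ 0) (h2 : u ≠ w) : ∃ x, ω u x = 1 ∧ ω w x = 0 := by
  obtain ⟨p, hp⟩ := h.nz u h1
  obtain ⟨q, hq⟩ := h.nz (u + w) fun e => h2 (h.eq_of e)
  rw [h.addl] at hq
  rcases z2 (ω w p) with e | e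
  · exact ⟨p, hp, e⟩
  rcases z2 (ω w q) with e' | e'
  · exact ⟨q, by rwa [e', add_zero] at hq, e'⟩
  · refine ⟨p + q, ?_, by rw [h.add, e, e']; rfl⟩
    rw [h.add, hp]
    linear_combination hq + e' - z3 (ω w q) + z3 1 - z3 1 - e' + z3 (ω w q) - e'

theorem ex3 {u v w : V} (h1 : u ≠ 0) (h2 : u ≠ w) (h3 : v ≠ 0) (h4 : v ≠ w) : ∃ x, ω u x = 1 ∧ ω v x = 1 ∧ ω w x = 0 := by
  obtain ⟨p, p1, p2⟩ := h.ex2 h1 h2
  obtain ⟨q, q1, q2⟩ := h.ex2 h3 h4
  rcases z2 (ω v p) with e | e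
  · rcases z2 (ω u q) with e' | e'
    · exact ⟨p + q, by rw [h.add, p1, e', add_zero], by rw [h.add, e, q1, zero_add], by rw [h.add, p2, q2, add_zero]⟩
    · exact ⟨q, e', q1, q2⟩
  · exact ⟨p, p1, e, p2⟩

/-- among three forms two are in one orbit -/
theorem three {P Q R : V → ZMod 2} (hP : Quad ω P) (hQ : Quad ω Q) (hR : Quad ω R) :
    (∃ p, ∀ v, Q v = P (ac (t p) v)) ∨ (∃ p, ∀ v, R v = P (ac (t p) v)) ∨ ∃ p, ∀ v, R v = Q (ac (t p) v) := by
  have key : ∀ {P Q : V → ZMod 2}, Quad ω P → ∀ p, (∀ v, P v + Q v = ω p v) → P p = 0 → ∀ v, Q v = P (ac (t p) v) :=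
    fun {P Q} hP p e1 e2 v => by
      have e3 := e1 v
      rcases z2 (ω p v) with e | e
      · rw [h.t0 p v e]
        linear_combination e3 + e - z3 (P v)
      · rw [h.t1 p v e, hP, e2]
        linear_combination e3 - z3 (P v)
  obtain ⟨p, hp⟩ := h.rep (fun v => P v + Q v) fun u v => by
    rw [hP, hQ]
    linear_combination z3 (ω u v)
  obtain ⟨q, hq⟩ := h.rep (fun v => P v + R v) fun u v => by
    rw [hP, hR]
    linear_combination z3 (ω u v)
  rcases z2 (P p) with e | e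
  · exact Or.inl ⟨p, key hP p hp e⟩
  rcases z2 (P q) with e' | e'
  · exact Or.inr (Or.inl ⟨q, key hP q hq e'⟩)
  refine Or.inr (Or.inr ⟨p + q, key hQ _ (fun v => ?_) ?_⟩)
  · rw [h.addl]
    linear_combination hp v + hq v - z3 (P v)
  · have h1 := hp (p + q)
    rw [hP, e, e', h.add, h.alt] at h1
    linear_combination h1 - z3 1

variable [Fintype V] [DecidableEq V]

theorem half {p : V} (hp : p ≠ 0) : 2 * #{u | ω p u = 1} = Fintype.card V ∧ 2 * #{u | ω p u = 0} = Fintype.card V := by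
  obtain ⟨q, hq⟩ := h.nz p hp
  have h1 : #{u | ω p u = 1} = #{u | ω p u = 0} := card_bij (fun u _ => q + u)
    (fun u hu => by rw [mem_filter_univ] at hu ⊢; rw [h.add, hq, hu]; rfl) (fun _ _ _ _ e => add_left_cancel e)
    fun u hu => ⟨q + u, by rw [mem_filter_univ] at hu ⊢; rw [h.add, hq, hu]; rfl, h.canc q u⟩
  have h2 := card_filter_add_card_filter_not (s := univ) fun u => ω p u = 1
  rw [card_univ, filter_congr (p := fun u => ¬ ω p u = 1) (q := fun u => ω p u = 0) fun u _ => by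
    rcases z2 (ω p u) with e | e <;> rw [e] <;> decide] at h2
  omega

/-- the identity on the orthogonal pairs -/
theorem quad {Q : V → ZMod 2} (h0 : Q 0 = 0) (h1 : ∀ u w, ω u w = 1 → Q (u + w) = Q u + Q w + 1) (h2 : ∑ v, Q v = 0)
    (h4 : 4 ∣ Fintype.card V) : Quad ω Q := fun u w => by
  rcases z2 (ω u w) with e | e
  swap
  · rw [h1 u w e, e]
  by_cases a1 : u = 0
  · rw [e, a1, h0, zero_add, zero_add, add_zero]
  by_cases a2 : w = 0
  · rw [e, a2, h0, add_zero, add_zero, add_zero]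
  by_cases a3 : u = w
  · rw [e, a3, h.two, h0, z3, add_zero]
  by_contra a4
  have a5 : Q (u + w) = Q u + Q w + 1 := by
    revert a4
    rw [e]
    generalize Q (u + w) = a, Q u = b, Q w = c
    revert a b c
    decide
  have a6 : ∀ v x, ω v x = 1 → ω v w = 0 → ω w x = 0 → Q (v + w) + Q v = Q (x + w) + Q x := fun v x b1 b2 b3 => by
    have b4 := h1 x (v + (x + w)) (by rw [h.add, h.add, h.alt, h.sym x v, b1, h.sym x w, b3]; rfl)
    rw [h1 v (x + w) (by rw [h.add, b1, b2]; rfl), add_left_comm, h.canc] at b4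
    linear_combination b4 + z3 (Q v) + z3 1
  have a7 : ∀ v, v ≠ 0 → v ≠ w → Q (v + w) = Q v + Q w + 1 := fun v b1 b2 => by
    rcases z2 (ω v w) with e' | e'
    · obtain ⟨x, b3, b4, b5⟩ := h.ex3 a1 a3 b1 b2
      linear_combination a6 v x b4 e' b5 - a6 u x b3 e b5 + a5 + z3 (Q u) - z3 (Q v)
    · exact h1 v w e'
  obtain ⟨p, hp⟩ := h.nz w a2
  have a8 : ∑ v, (Q v + ω p v * (Q w + 1) + if v = w then 1 else 0) = 0 := by
    refine sum_involution (fun v _ => v + w) (fun v _ => ?_) (fun v _ _ e => a2 (add_eq_left.1 e))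
      (fun _ _ => mem_univ _) fun v _ => by rw [add_assoc, h.two, add_zero]
    rw [h.add, h.sym p w, hp]
    by_cases b1 : v = 0
    · rw [b1, zero_add, h0, h.zr, if_neg (Ne.symm a2), if_pos rfl]
      linear_combination z3 (Q w) + z3 1
    by_cases b2 : v = w
    · rw [b2, h.two, h0, h.sym p w, hp, if_pos rfl, if_neg (Ne.symm a2)]
      linear_combination 2 * z3 (Q w) + 2 * z3 1
    · rw [a7 v b1 b2, if_neg b2, if_neg fun e => b1 (add_eq_right.1 e)]
      linear_combination z3 (Q v) + z3 (Q w) + z3 1 + z3 (ω p v * (Q w + 1))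
  have a9 : ∑ v, ω p v = (#{v | ω p v = 1} : ℕ) := by
    rw [← sum_boole]
    exact sum_congr rfl fun v _ => by rcases z2 (ω p v) with e | e <;> rw [e] <;> rfl
  rw [sum_add_distrib, sum_add_distrib, h2, ← sum_mul, a9, sum_ite_eq', if_pos (mem_univ _),
    (ZMod.natCast_eq_zero_iff _ 2).2 (by have := (h.half (h.ne0 hp).2.1).1; omega)] at a8
  exact absurd a8 (by simp)

/-! ### an action -/

variable {Ω : Type} [Fintype Ω] [DecidableEq Ω] (ρ : G →* Perm Ω)

omit [Fintype V] [DecidableEq V] [Fintype Ω] [DecidableEq Ω] in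
theorem eqv (g : G) (v : V) (a : Ω) : ρ (t (ac g v)) (ρ g a) = ρ g (ρ (t v) a) := by
  rw [← Perm.mul_apply, ← map_mul, ← h.cj, map_mul, Perm.mul_apply]

omit [Fintype V] [DecidableEq V] in
theorem mv_const {u w : V} (h1 : u ≠ 0) (h2 : w ≠ 0) : #{a | ρ (t u) a ≠ a} = #{a | ρ (t w) a ≠ a} := by
  have key : ∀ u x, ω u x = 1 → #{a | ρ (t u) a ≠ a} = #{a | ρ (t x) a ≠ a} := fun u x e => by
    have h3 : ac (t (u + x)) u = x := by
      rw [h.t1 _ _ (by rw [h.addl, h.alt, h.sym, e]; rfl), add_comm, h.canc]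
    refine card_equiv (ρ (t (u + x))) fun a => ?_
    have h4 := h.eqv ρ (t (u + x)) u a
    rw [h3] at h4
    rw [mem_filter_univ, mem_filter_univ, h4, (ρ (t (u + x))).injective.ne_iff]
  obtain ⟨x, b1, b2, -⟩ := h.ex3 h1 h1 h2 h2
  exact (key u x b1).trans (key w x b2).symm

omit [DecidableEq V] [Fintype Ω] in
theorem k_const (g : G) (a b : Ω) : #{v | ρ (t v) a = b} = #{v | ρ (t v) (ρ g a) = ρ g b} :=
  card_equiv (Equiv.ofBijective (ac g) (Finite.injective_iff_bijective.1 (h.inj g))) fun v => by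
    rw [mem_filter_univ, mem_filter_univ, ofBijective_apply, h.eqv, (ρ g).injective.eq_iff]

omit h [Group G] [AddCommGroup V] [DecidableEq V] [Fintype Ω] in
theorem card_fib {f : V → Ω} {k : ℕ} {B : Finset Ω} (hk : ∀ b ∈ B, #{v | f v = b} = k) : #{v | f v ∈ B} = #B * k := by
  rw [card_eq_sum_card_fiberwise (f := f) (s := {v | f v ∈ B}) (t := B) fun v hv => (mem_filter_univ v).1 hv,
    ← smul_eq_mul, ← sum_const]
  refine sum_congr rfl fun b hb => (congrArg _ ?_).trans (hk b hb)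
  ext v
  simp only [mem_filter, mem_univ, true_and]
  exact ⟨And.right, fun e => ⟨e ▸ hb, e⟩⟩

omit h in
theorem num {n z d k : ℕ} (hn : n + 1 = (z + 1) * (2 * z + 3) ∨ n + 1 = (z + 1) * (2 * z + 1)) (hz : 3 ≤ z)
    (hd : 0 < d) (hd' : d ≤ n + 1) (e : (2 * z + 1) * (2 * z + 3) * d = (n + 1) * (n * k)) :
    (k = 1 ∧ ∀ f, f + n = (2 * z + 1) * (2 * z + 3) → f * d = n * (z + 1) ^ 2) ∨
      (k = 2 ∧ n = (2 * z + 3) * z ∧ d + z = n) := by
  have h0 : 0 < (2 * z + 1) * (2 * z + 3) := by positivity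
  rcases hn with hn | hn
  · obtain rfl : n = (2 * z + 1) * (z + 2) := by linarith
    obtain rfl : d = (z + 1) * (z + 2) * k := Nat.eq_of_mul_eq_mul_left h0 (by rw [e, hn]; ring)
    obtain rfl : k = 1 := by
      rcases k with _ | _ | k
      · omega
      · rfl
      · nlinarith [Nat.zero_le ((z + 1) * (z + 2) * k)]
    refine Or.inl ⟨rfl, fun f hf => ?_⟩
    obtain rfl : f = (2 * z + 1) * (z + 1) := by linarith
    ring
  · obtain rfl : n = (2 * z + 3) * z := by linarith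
    obtain rfl : d = (z + 1) * z * k := Nat.eq_of_mul_eq_mul_left h0 (by rw [e, hn]; ring)
    rcases k with _ | _ | _ | k
    · omega
    · refine Or.inl ⟨rfl, fun f hf => ?_⟩
      obtain rfl : f = (2 * z + 3) * (z + 1) := by linarith
      ring
    · exact Or.inr ⟨rfl, rfl, by ring⟩
    · nlinarith [Nat.zero_le ((z + 1) * z * k)]

/-- the form of a point -/
def Qf (t : V → G) (ρ : G →* Perm Ω) (a : Ω) (v : V) : ZMod 2 := if v ≠ 0 ∧ ρ (t v) a = a then 1 else 0

omit [Fintype V] [Fintype Ω] in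
theorem Qf_eqv (g : G) (a : Ω) (v : V) : Qf t ρ (ρ g a) (ac g v) = Qf t ρ a v := by
  have h1 : ac g v ≠ 0 ↔ v ≠ 0 := by rw [← (h.inj g).ne_iff (x := v), h.ac0]
  simp only [Qf, h.eqv, (ρ g).injective.eq_iff, h1]

omit [Fintype V] [DecidableEq V] [Fintype Ω] [DecidableEq Ω] in
theorem fix_iff {a : Ω} {u w : V} (hu : ρ (t u) a = a) (e : ω u w = 1) : ρ (t (u + w)) a = a ↔ ρ (t w) a = a := by
  have h1 := h.eqv ρ (t u) w a
  rw [h.t1 u w e, hu] at h1
  rw [h1, ← (ρ (t u)).injective.eq_iff (a := ρ (t w) a), hu]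

/-- **the transvections which fix a point** -/
theorem quad_Qf (h2 : ∀ a b c d : Ω, a ≠ b → c ≠ d → ∃ g, ρ g a = c ∧ ρ g b = d) (hk : ρ.ker ≤ Subgroup.center G) {z : ℕ}
    (hz : 3 ≤ z) (ho : Odd z) (hV : Fintype.card V = 4 * (z + 1) ^ 2)
    (hn : Fintype.card Ω = (z + 1) * (2 * z + 3) ∨ Fintype.card Ω = (z + 1) * (2 * z + 1)) (a : Ω) :
    Quad ω (Qf t ρ a) ∧ ∀ b, b ≠ a → ∃ x, ρ (t x) a = b := by
  obtain ⟨n, hn'⟩ : ∃ n, Fintype.card Ω = n + 1 := ⟨_, (Nat.succ_pred_eq_of_pos (Fintype.card_pos_iff.2 ⟨a⟩)).symm⟩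
  rw [hn'] at hn
  obtain ⟨b0, hb0⟩ := Fintype.exists_ne_of_one_lt_card (α := Ω) (by rcases hn with e | e <;> nlinarith) a
  obtain ⟨v0, hv0⟩ := Fintype.exists_ne_of_one_lt_card (α := V) (by nlinarith) 0
  obtain ⟨k, a1⟩ : ∃ k, ∀ c b, b ≠ c → #{v | ρ (t v) c = b} = k := ⟨_, fun c b e => by
    obtain ⟨g, rfl, rfl⟩ := h2 a b0 c b hb0.symm e.symm
    exact (h.k_const ρ g a b0).symm⟩
  obtain ⟨d, a2⟩ : ∃ d, ∀ v, v ≠ 0 → #{a | ρ (t v) a ≠ a} = d := ⟨_, fun v e => h.mv_const ρ e hv0⟩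
  have a3 : ∀ c, #{v | ρ (t v) c ≠ c} = n * k := fun c => by
    rw [← show #(univ.erase c) = n by rw [card_erase_of_mem (mem_univ _), card_univ, hn']; rfl,
      ← card_fib fun b hb => a1 c b (ne_of_mem_erase hb)]
    simp
  have a4 : #(univ.erase (0 : V)) = (2 * z + 1) * (2 * z + 3) := by
    rw [card_erase_of_mem (mem_univ _), card_univ, hV]
    exact Nat.sub_eq_of_eq_add (by ring)
  have a5 : (2 * z + 1) * (2 * z + 3) * d = (n + 1) * (n * k) := by
    have a5 := sum_card_bipartiteAbove_eq_sum_card_bipartiteBelow (s := (univ : Finset V)) (t := univ)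
      fun v c => ρ (t v) c ≠ c
    simp only [bipartiteAbove, bipartiteBelow, a3] at a5
    rw [← add_sum_erase _ _ (mem_univ 0), sum_congr rfl fun v hv => a2 v (ne_of_mem_erase hv), sum_const, sum_const, a4,
      card_univ, hn'] at a5
    simpa [h.zero] using a5
  have a6 : 0 < d := by
    rw [← a2 v0 hv0, card_pos]
    by_contra e
    have e1 : t v0 ∈ ρ.ker := Perm.ext fun c => by_contra fun e' => e ⟨c, (mem_filter_univ c).2 e'⟩
    obtain ⟨w, hw⟩ := h.nz v0 hv0
    have e2 := h.cj (t v0) w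
    rw [← Subgroup.mem_center_iff.1 (hk e1), mul_left_inj, h.t1 _ _ hw] at e2
    have e3 := h.t1 (v0 + w) v0 (by rw [h.addl, h.alt, h.sym, hw]; rfl)
    rw [← e2, h.t1 w v0 (h.sym _ _ ▸ hw), add_left_inj] at e3
    exact hv0 (left_eq_add.1 (e3.trans (add_comm _ _)))
  have a7 := card_filter_add_card_filter_not (s := univ) fun v => ρ (t v) a = a
  have a8 : (0 : V) ∈ ({v | ρ (t v) a = a} : Finset V) := by simp [h.zero]
  rw [← card_erase_add_one a8, card_univ, hV, show #{v | ¬ ρ (t v) a = a} = n * k from a3 a] at a7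
  have a9 : ∀ w x, ρ (t w) a = a → ρ (t (ac (t w) x)) a = ρ (t w) (ρ (t x) a) := fun w x e => by
    rw [← h.eqv, e]
  rcases num hn hz a6 (by rw [← a2 v0 hv0, ← hn']; exact card_le_univ _) a5 with ⟨rfl, b1⟩ | ⟨rfl, b1, b2⟩
  swap
  · obtain ⟨w, hw⟩ : (({v | ρ (t v) a = a} : Finset V).erase 0).Nonempty := card_pos.1 (by nlinarith)
    have b3 := ne_of_mem_erase hw
    have b4 := (mem_filter_univ w).1 (mem_of_mem_erase hw)
    have b5 := card_filter_add_card_filter_not (s := univ) fun c => ρ (t w) c = c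
    have b6 : a ∈ ({c | ρ (t w) c = c} : Finset Ω) := (mem_filter_univ a).2 b4
    rw [← card_erase_add_one b6, card_univ, hn', show #{c | ¬ ρ (t w) c = c} = d from a2 w b3] at b5
    have b7 := card_fib (f := fun v => ρ (t v) a) fun b (hb : b ∈ ({c | ρ (t w) c = c} : Finset Ω).erase a) =>
      a1 a b (ne_of_mem_erase hb)
    have b8 := (card_le_card (s := {x | ω w x = 0}) fun x hx => show x ∈ ({v | ρ (t v) a = a} : Finset V) ∪
      ({v | ρ (t v) a ∈ ({c | ρ (t w) c = c} : Finset Ω).erase a} : Finset V) by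
        have b8 := a9 w x b4
        rw [h.t0 w x ((mem_filter_univ x).1 hx)] at b8
        simp only [mem_union, mem_filter_univ, mem_erase]
        exact (em _).imp_right fun e => ⟨e, b8.symm⟩).trans (card_union_le _ _)
    rw [← card_erase_add_one a8, b7] at b8
    have b9 := (h.half b3).2
    exact absurd b8 (by nlinarith)
  have b2 : ∀ x y, ρ (t x) a ≠ a → ρ (t y) a = ρ (t x) a → y = x := fun x y e e' =>
    card_le_one.1 (a1 a _ e).le _ ((mem_filter_univ y).2 e') _ ((mem_filter_univ x).2 rfl)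
  have b3 : ∀ x, ρ (t x) a ≠ a → #{w | ρ (t w) a = a ∧ ω w x = 1} + #{w | ¬ ρ (t w) a = a ∧ ω w x = 1} =
      2 * (z + 1) ^ 2 := fun x e => by
    have b3 := card_filter_add_card_filter_not (s := ({w | ω x w = 1} : Finset V)) fun w => ρ (t w) a = a
    have b4 := (h.half (p := x) fun e' => e (by rw [e', h.zero, map_one]; rfl)).1
    simp only [filter_filter, h.sym x, and_comm (b := _ = a), and_comm (b := ¬ _)] at b3 b4
    omega
  have b4 : ∀ x, ρ (t x) a ≠ a → ({w | ρ (t w) a = a ∧ ω w x = 1} : Finset V).map (addRightEmbedding x) ⊆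
      ({w | ¬ ρ (t w) a = a ∧ ω w x = 1} : Finset V) := fun x e w hw => by
    obtain ⟨u, hu, rfl⟩ := mem_map.1 hw
    rw [mem_filter_univ] at hu ⊢
    exact ⟨mt (h.fix_iff ρ hu.1 hu.2).1 e, by rw [addRightEmbedding_apply, h.addl, h.alt, hu.2, add_zero]⟩
  have b5 : ∀ x ∈ ({x | ρ (t x) a ≠ a} : Finset V), #{w | ρ (t w) a = a ∧ ω w x = 1} = (z + 1) ^ 2 := by
    refine (sum_eq_sum_iff_of_le fun x hx => ?_).1 ?_
    · have b5 := card_le_card (b4 x ((mem_filter_univ x).1 hx))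
      have b6 := b3 x ((mem_filter_univ x).1 hx)
      rw [card_map] at b5
      omega
    have b5 := sum_card_bipartiteAbove_eq_sum_card_bipartiteBelow (s := ({x | ρ (t x) a ≠ a} : Finset V))
      (t := ({w | ρ (t w) a = a} : Finset V)) fun x w => ω w x = 1
    simp only [bipartiteAbove, bipartiteBelow, filter_filter] at b5
    rw [b5, ← add_sum_erase _ _ a8, sum_congr rfl (g := fun _ => d) fun w hw => ?_, sum_const, sum_const, a3, mul_one,
      smul_eq_mul, smul_eq_mul, b1 _ (by linarith)]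
    · simp [h.zl]
    have b6 := ne_of_mem_erase hw
    have b7 := (mem_filter_univ w).1 (mem_of_mem_erase hw)
    rw [← a2 w b6, ← mul_one #{a | ρ (t w) a ≠ a}, ← card_fib (f := fun v => ρ (t v) a)
      fun b (hb : b ∈ ({a | ρ (t w) a ≠ a} : Finset Ω)) => a1 a b fun e => (mem_filter_univ b).1 hb (e ▸ b7)]
    refine congrArg _ (filter_congr fun x _ => ?_)
    rw [mem_filter_univ, ← a9 w x b7]
    refine ⟨fun e e' => b6 ?_, fun e => ?_⟩
    · have b8 := b2 _ _ e.1 e'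
      rwa [h.t1 w x e.2, add_eq_right] at b8
    · refine ⟨fun e' => e (by rw [a9 w x b7, e', b7]), (z2 _).resolve_left fun e' => e (by rw [h.t0 w x e'])⟩
  refine ⟨h.quad (if_neg fun e => e.1 rfl) (fun u w e => ?_) ?_ (hV ▸ Dvd.intro _ rfl), fun b hb => ?_⟩
  · obtain ⟨c1, c2, c3⟩ := h.ne0 e
    simp only [Qf, c1, c2, c3, ne_eq, not_false_eq_true, true_and]
    by_cases c4 : ρ (t u) a = a
    · simp only [h.fix_iff ρ c4 e, c4, if_true]
      split_ifs <;> rfl
    by_cases c5 : ρ (t w) a = a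
    · rw [add_comm u w, if_neg (mt (h.fix_iff ρ c5 (h.sym _ _ ▸ e)).1 c4), if_neg c4, if_pos c5]
      rfl
    have c6 := eq_of_subset_of_card_le (b4 w c5) (by
      have c6 := b3 w c5
      rw [card_map, b5 w ((mem_filter_univ w).2 c5)] at *
      omega)
    obtain ⟨v, c7, rfl⟩ := mem_map.1 (c6.ge ((mem_filter_univ u).2 ⟨c4, e⟩))
    rw [if_neg c4, if_neg c5, addRightEmbedding_apply, add_assoc, h.two, add_zero, if_pos ((mem_filter_univ v).1 c7).1]
    rfl
  · simp only [Qf, sum_boole]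
    rw [show ({v | v ≠ 0 ∧ ρ (t v) a = a} : Finset V) = ({v | ρ (t v) a = a} : Finset V).erase 0 by ext; simp,
      ZMod.natCast_eq_zero_iff]
    have c1 : 2 ∣ n + 1 := by rcases hn with e | e <;> exact e ▸ ho.add_one.two_dvd.mul_right _
    omega
  · obtain ⟨x, hx⟩ := card_pos.1 ((a1 a b hb).symm ▸ one_pos)
    exact ⟨x, (mem_filter_univ x).1 hx⟩

omit [Fintype Ω] in
/-- the form determines the stabilizer -/
theorem stab {ρ' : G →* Perm Ω} {a b : Ω} (h1 : Quad ω (Qf t ρ a)) (h2 : ∀ c, c ≠ a → ∃ x, ρ (t x) a = c)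
    (h3 : Qf t ρ a = Qf t ρ' b) (g : G) (hg : ρ' g b = b) : ρ g a = a := by
  by_contra e
  obtain ⟨x, hx⟩ := h2 _ e
  have h4 : x ≠ 0 := fun e' => e (by rw [← hx, e', h.zero, map_one]; rfl)
  obtain ⟨w, hw⟩ := h.nz x h4
  obtain ⟨v, hv⟩ := Finite.injective_iff_surjective.1 (h.inj g) (x + w)
  have h5 := h.Qf_eqv ρ (t x) a w
  have h6 := h.Qf_eqv ρ' g b v
  rw [hg, ← h3, ← h.Qf_eqv ρ g a v, hv, ← hx, ← h.t1 x w hw, h5, h.t1 x w hw, h1, hw,
    show Qf t ρ a x = 0 from if_neg fun e' => e (hx.symm.trans e'.2)] at h6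
  simp at h6

end Sy

end Cfsg.Agent.SM.NP.Sp
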