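import Cfsg.Agent.SM.NP.DefsSp
import Cfsg.Agent.SM.NP.SpA
import Cfsg.Agent.ClassicalGeometry.SympBasic

/-!
# SM (S3570) : `boxSp` (helper94)
-/

set_option autoImplicit false

namespace Cfsg.Agent.SM.NP

open Equiv Subgroup MulAction Matrix Cfsg.Agent.ClassicalGeometry.SympBasic

namespace Sp

variable {F : Type} [Field F] {m : ℕ}

theorem sy (φ : F ≃+* ZMod 2) : Sy (fun u v : Fin m ⊕ Fin m → F => φ (sympForm m F u v)) (fun v => transv v 1)
    fun g v => (g : Matrix (Fin m ⊕ Fin m) (Fin m ⊕ Fin m) F) *ᵥ v := by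
  have h1 : ∀ a : F, a + a = 0 := fun a => φ.injective (by rw [map_add, z3, map_zero])
  have h2 : ∀ a : F, a = 0 ∨ a = 1 := fun a => (z2 (φ a)).imp φ.map_eq_zero_iff.1 fun e =>
    φ.injective (e.trans (map_one φ).symm)
  have h3 : ∀ u v, sympForm m F u v = sympForm m F v u := fun u v => by
    rw [sympForm_swap, neg_eq_of_add_eq_zero_left (h1 _)]
  refine ⟨fun u v w => by rw [sympForm_add_right, map_add], fun u v => by rw [h3], fun v => by rw [sympForm_self, map_zero],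
    fun v => funext fun i => h1 _, fun v hv => ?_, fun L hL => ?_, fun u w e => ?_, fun u w e => ?_,
    fun g v => Subtype.ext (mul_sympTransvection g.2 v 1), fun g u v e => eq_of_forall_sympForm_left fun w => ?_,
    fun g => mulVec_zero _, Subtype.ext ?_⟩
  · by_contra e
    exact hv (eq_zero_of_forall_sympForm_right fun w => (h2 _).resolve_right fun e' => e ⟨w, by rw [e', map_one]⟩)
  · have h4 : L 0 = 0 := by
      have h4 := hL 0 0
      rwa [add_zero, z3] at h4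
    let L' : Module.Dual F (Fin m ⊕ Fin m → F) :=
      { toFun := fun v => φ.symm (L v)
        map_add' := fun u v => by rw [hL, map_add]
        map_smul' := fun a v => by rcases h2 a with rfl | rfl <;> simp [h4] }
    refine ⟨(LinearMap.BilinForm.toDual (sympBilin m F) sympBilin_nondegenerate).symm L', fun v => ?_⟩
    rw [← sympBilin_apply, LinearMap.BilinForm.apply_toDual_symm_apply]
    exact (φ.apply_symm_apply _).symm
  · rw [coe_transv, sympTransvection_mulVec, h3, φ.map_eq_zero_iff.1 e, mul_zero, zero_smul, add_zero]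
  · rw [coe_transv, sympTransvection_mulVec, h3, φ.injective (e.trans (map_one φ).symm), mul_one, one_smul, add_comm]
  · rw [← sympForm_mulVec g.2 w u, ← sympForm_mulVec g.2 w v]
    exact congrArg _ e
  · have h4 := sympTransvection_smul (0 : Fin m ⊕ Fin m → F) 0 1
    rw [zero_smul, zero_pow two_ne_zero, zero_mul, sympTransvection_zero] at h4
    exact h4

variable {Ω : Type} [Fintype Ω] [DecidableEq Ω] {S T : Subgroup (Perm Ω)}

/-- the action of the symplectic group -/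
def rho (e : S ≃* PSp m F) : symplecticGroup (Fin m) F →* Perm Ω :=
  (S.subtype.comp e.symm.toMonoidHom).comp (QuotientGroup.mk' _)

omit [Fintype Ω] [DecidableEq Ω] in
theorem mem_iff (e : S ≃* PSp m F) (x : Perm Ω) : x ∈ S ↔ ∃ g, rho e g = x := by
  refine ⟨fun h => ?_, fun ⟨g, h⟩ => h ▸ (e.symm g).2⟩
  obtain ⟨g, hg⟩ := QuotientGroup.mk_surjective (e ⟨x, h⟩)
  exact ⟨g, congrArg Subtype.val (e.symm_apply_eq.2 hg)⟩

omit [Fintype Ω] [DecidableEq Ω] in
theorem ker_le (e : S ≃* PSp m F) : (rho e).ker ≤ center _ := fun _ h =>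
  (QuotientGroup.eq_one_iff _).1 (e.symm.map_eq_one_iff.1 (Subtype.ext h))

omit [Fintype Ω] [DecidableEq Ω] in
theorem two (e : S ≃* PSp m F) (h : Tr2 S) (a b c d : Ω) (h1 : a ≠ b) (h2 : c ≠ d) :
    ∃ g, rho e g a = c ∧ rho e g b = d := by
  obtain ⟨x, hx, h3⟩ := h a b c d h1 h2
  obtain ⟨g, rfl⟩ := (mem_iff e x).1 hx
  exact ⟨g, h3⟩

omit [DecidableEq Ω] in
theorem cj_of (e : S ≃* PSp m F) (e' : T ≃* PSp m F) {a b : Ω} (h1 : ∀ c, ∃ g, rho e g a = c)
    (h : ∀ g, rho e g a = a ↔ rho e' g b = b) : Cj S T := by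
  choose s hs using h1
  have h2 : ∀ g k, rho e g a = rho e k a ↔ rho e' g b = rho e' k b := fun g k => by
    have h2 := h (k⁻¹ * g)
    rwa [map_mul, map_mul, map_inv, map_inv, Perm.mul_apply, Perm.mul_apply, Perm.inv_eq_iff_eq,
      Perm.inv_eq_iff_eq] at h2
  let π : Perm Ω := Equiv.ofBijective (fun c => rho e' (s c) b) (Finite.injective_iff_bijective.1 fun c d h3 => by
    rw [← hs c, ← hs d, h2, h3])
  have h3 : ∀ g, π * rho e g * π⁻¹ = rho e' g := fun g => by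
    rw [mul_inv_eq_iff_eq_mul]
    refine Perm.ext fun c => ((h2 _ (g * s c)).1 ?_).trans (by rw [map_mul]; rfl)
    rw [hs, map_mul, Perm.mul_apply, hs]
  refine ⟨π, fun x => ?_⟩
  rw [mem_iff e, mem_iff e']
  exact exists_congr fun g => by rw [← h3, mul_left_inj, mul_right_inj]

end Sp

open Sp in
/-- **`BoxSp`** -/
theorem boxSp : BoxSp := fun Ω _ _ S₁ S₂ S₃ F _ _ m hF hm hn p1 p2 p3 ⟨e₁⟩ ⟨e₂⟩ ⟨e₃⟩ => by
  classical
  have : Fact (Nat.Prime 2) := ⟨Nat.prime_two⟩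
  have h := sy (m := m) (FiniteField.ringEquivOfCardEq (K := F) (K' := ZMod 2) (by rw [hF, ZMod.card]))
  obtain ⟨j, rfl⟩ := Nat.exists_eq_add_of_le' hm
  obtain ⟨z, hz⟩ : ∃ z, 2 ^ (j + 2) = z + 1 := ⟨_, (Nat.succ_pred_eq_of_pos (by positivity)).symm⟩
  have h1 : 2 ^ (j + 3) = 2 * (z + 1) := by rw [← hz, ← pow_succ']
  have h2 : 0 < 2 ^ j ∧ z + 1 = 4 * 2 ^ j := ⟨by positivity, by rw [← hz]; ring⟩
  rw [show j + 3 - 1 = j + 2 from rfl, hz, h1] at hn
  have h3 : ∀ {S : Subgroup (Perm Ω)} (e : S ≃* PSp (j + 3) F), IsMultiplyPreprimitive S Ω 2 → ∀ a, _ := fun e p a =>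
    h.quad_Qf (rho e) (two e (tr2_iff.2 p.isMultiplyPretransitive)) (ker_le e) (z := z) (by omega)
      (Nat.odd_iff.2 (by omega)) (by rw [Fintype.card_fun, hF, Fintype.card_sum, Fintype.card_fin, pow_add, h1]; ring) hn a
  obtain ⟨a⟩ : Nonempty Ω := Fintype.card_pos_iff.1 (by
    rcases hn with e | e <;> rw [e] <;> exact Nat.mul_pos (by omega) (by omega))
  have h4 : ∀ {S T : Subgroup (Perm Ω)} (e : S ≃* PSp (j + 3) F) (e' : T ≃* PSp (j + 3) F),
      IsMultiplyPreprimitive S Ω 2 → IsMultiplyPreprimitive T Ω 2 → ∀ g : symplecticGroup (Fin (j + 3)) F,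
      (∀ v, Sy.Qf (fun v => transv v 1) (rho e') a v =
        Sy.Qf (fun v => transv v 1) (rho e) a ((g : Matrix _ _ F) *ᵥ v)) → Cj S T := fun e e' p p' g hg => by
    have h4 : Sy.Qf (fun v => transv v 1) (rho e') a = Sy.Qf (fun v => transv v 1) (rho e) (rho e g⁻¹ a) :=
      funext fun v => by
        rw [hg, ← h.Qf_eqv (rho e) g (rho e g⁻¹ a) v, ← Perm.mul_apply, ← map_mul, mul_inv_cancel, map_one]
        rfl
    refine cj_of e e' (a := rho e g⁻¹ a) (b := a) (fun c => ?_) fun k =>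
      ⟨h.stab _ (h3 e' p' a).1 (h3 e' p' a).2 h4 k, h.stab _ (h3 e p _).1 (h3 e p _).2 h4.symm k⟩
    by_cases h5 : c = rho e g⁻¹ a
    · exact ⟨1, by rw [map_one, h5]; rfl⟩
    · exact ((h3 e p _).2 c h5).elim fun x hx => ⟨_, hx⟩
  rcases h.three (h3 e₁ p1 a).1 (h3 e₂ p2 a).1 (h3 e₃ p3 a).1 with ⟨p, hp⟩ | ⟨p, hp⟩ | ⟨p, hp⟩
  exacts [Or.inl (h4 e₁ e₂ p1 p2 _ hp), Or.inr (Or.inl (h4 e₁ e₃ p1 p3 _ hp)), Or.inr (Or.inr (h4 e₂ e₃ p2 p3 _ hp))]

end Cfsg.Agent.SM.NP
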