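import Cfsg.Agent.SM.NP.DefsSp
import Cfsg.Agent.SM.Alt.Tab
import Cfsg.Agent.SM.Alt.SpB
import Cfsg.Agent.SM.Alt.R1
import Cfsg.Agent.SM.Alt.HS
import Cfsg.Agent.SM.Alt.MatB
import Cfsg.Agent.SM.Alt.MatC
import Cfsg.Agent.SM.Alt.Lin
import Cfsg.Agent.SM.Alt.Co
import Cfsg.Agent.SM.Mat.Cnt
import Cfsg.Agent.LieClassical.FieldTransfer
import Cfsg.Agent.H384.TwoTransRed

/-!
# SM (S3570), `H` not primitive: the socles of the doubly primitive groups lie in at most four classes (helper59)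
-/

set_option autoImplicit false
set_option linter.unusedSectionVars false
set_option linter.unusedVariables false

namespace Cfsg.Agent.SM.NP.TT

open Equiv Subgroup MulAction Cfsg.Agent.SM.Alt Cfsg.Agent.H384.TwoTrans

variable {Ω : Type} [Fintype Ω] [DecidableEq Ω] {M S : Subgroup (Perm Ω)}

/-- an equivalence relation that is invariant under the stabiliser of `a` is trivial on the other points -/
theorem prim_rel (h : IsMultiplyPreprimitive M Ω 2) (ht : NP.Tr M) (a : Ω) (r : Setoid Ω)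
    (hr : ∀ g ∈ M, g a = a → ∀ b c, b ≠ a → c ≠ a → r b c → r (g b) (g c)) :
    (∀ b c, b ≠ a → c ≠ a → r b c) ∨ ∀ b c, b ≠ a → c ≠ a → r b c → b = c := by
  have := tr_iff.1 ht
  have h1 : IsMultiplyPreprimitive (stabilizer M a) (SubMulAction.ofStabilizer M a) 1 :=
    @isMultiplyPreprimitive_ofStabilizer M Ω _ _ _ 1 a h
  rw [is_one_preprimitive_iff] at h1
  by_contra hc
  rw [not_or] at hc
  obtain ⟨hc1, hc2⟩ := hc
  push Not at hc1 hc2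
  obtain ⟨d, e, hd, he, hde⟩ := hc1
  obtain ⟨b, c, hb, hc, hbc, hne⟩ := hc2
  have hB : IsBlock (stabilizer M a) {x : SubMulAction.ofStabilizer M a | r b x} := by
    rw [isBlock_iff_smul_eq_of_mem]
    intro g x hx hgx
    ext y
    rw [Set.mem_smul_set_iff_inv_smul_mem]
    have hg : (g.1 : Perm Ω) a = a := g.2
    have hg' : (g⁻¹.1 : Perm Ω) a = a := g⁻¹.2
    have h2 : r (g.1.1 b) b := r.trans' (hr g.1 g.1.2 hg b x hb x.2 hx) (r.symm' hgx)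
    constructor
    · intro h3
      have h4 := hr g.1 g.1.2 hg b _ hb (g⁻¹ • y).2 h3
      have h5 : (g.1.1 : Perm Ω) (g⁻¹ • y : SubMulAction.ofStabilizer M a) = y :=
        congrArg Subtype.val (smul_inv_smul g y)
      rw [h5] at h4
      exact r.trans' (r.symm' h2) h4
    · intro h3
      have h6 : g.1.1 b ≠ a := fun k => hb (g.1.1.injective (k.trans hg.symm))
      have h4 := hr g⁻¹.1 g⁻¹.1.2 hg' _ _ h6 y.2 (r.trans' h2 h3)
      have h5 : (g⁻¹.1.1 : Perm Ω) (g.1.1 b) = b := by simp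
      rw [h5] at h4
      exact h4
  rcases hB.subsingleton_or_eq_univ with h2 | h2
  · exact hne (congrArg Subtype.val (h2 (show (⟨b, hb⟩ : SubMulAction.ofStabilizer M a) ∈ _ from r.refl' b)
      (show (⟨c, hc⟩ : SubMulAction.ofStabilizer M a) ∈ _ from hbc)))
  · have h3 : ∀ x : SubMulAction.ofStabilizer M a, r b x := fun x =>
      (h2.symm ▸ Set.mem_univ x : x ∈ {x : SubMulAction.ofStabilizer M a | r b x})
    exact hde (r.trans' (r.symm' (h3 ⟨d, hd⟩)) (h3 ⟨e, he⟩))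

/-- a non-trivial group that fixes `a` and is normalised by the stabiliser of `a` is transitive on the other points -/
theorem tr_of (h : IsMultiplyPreprimitive M Ω 2) (ht : NP.Tr M) {a : Ω} {N : Subgroup (Perm Ω)} (h0 : N ≠ ⊥)
    (h1 : ∀ x ∈ N, x a = a) (h2 : ∀ g ∈ M, g a = a → ∀ x ∈ N, g * x * g⁻¹ ∈ N) {b c : Ω} (hb : b ≠ a) (hc : c ≠ a) :
    ∃ x ∈ N, x b = c := by
  rcases prim_rel h ht a ⟨fun b c => ∃ x ∈ N, x b = c, fun b => ⟨1, N.one_mem, rfl⟩,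
    fun ⟨x, hx, e⟩ => ⟨x⁻¹, N.inv_mem hx, by simp [← e]⟩,
    fun ⟨x, hx, e⟩ ⟨y, hy, e'⟩ => ⟨y * x, N.mul_mem hy hx, by simp [e, e']⟩⟩
    (fun g hg ha b c _ _ ⟨x, hx, e⟩ => ⟨g * x * g⁻¹, h2 g hg ha x hx, by simp [e]⟩) with k | k
  · exact k b c hb hc
  · refine absurd ((eq_bot_iff_forall N).2 fun x hx => Perm.ext fun y => ?_) h0
    by_cases hy : y = a
    · rw [hy]
      exact h1 x hx
    · exact (k y (x y) hy (fun e => hy (x.injective (e.trans (h1 x hx).symm))) ⟨x, hx, rfl⟩).symm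

theorem cj_of_iso {S₁ S₂ : Subgroup (Perm Ω)} (θ : S₁ ≃* S₂) {a b : Ω} (t1 : NP.Tr S₁)
    (h : ∀ s : S₁, (s : Perm Ω) a = a ↔ (θ s : Perm Ω) b = b) : Cj S₁ S₂ := by
  obtain ⟨π, hπ⟩ := SM.Mat.exists_conj_of_iso θ (t1 a) h
  refine ⟨π, fun x => ?_⟩
  rw [hπ]
  constructor
  · intro hx
    exact ⟨x, hx, rfl⟩
  · rintro ⟨y, hy, e⟩
    have e' : π * y * π⁻¹ = π * x * π⁻¹ := e
    rwa [← mul_left_cancel (mul_right_cancel e')]

theorem cj_of_row {S₁ S₂ : Subgroup (Perm Ω)} {c : ℕ} (hc : 2 ≤ c) (a1 : Act S₁ Ω c) (a2 : Act S₂ Ω c) (r : Row2 S₁ c)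
    (e : S₁ ≃* S₂) : Cj S₁ S₂ := by
  have a3 : @Act S₁ Ω _ (MulAction.compHom Ω e.toMonoidHom) c := @Act.mk S₁ Ω _ (MulAction.compHom Ω e.toMonoidHom) c
    a2.fin a2.card
    (fun t ht => e.injective ((a2.faith (e t) ht).trans (map_one e).symm))
    (fun a b x y hab hxy => by
      obtain ⟨t, t1, t2⟩ := a2.two a b x y hab hxy
      refine ⟨e.symm t, ?_, ?_⟩
      · show e (e.symm t) • a = x
        rwa [e.apply_symm_apply]
      · show e (e.symm t) • b = y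
        rwa [e.apply_symm_apply])
  obtain ⟨γ, a, b, hγ⟩ := @r Ω Ω _ (MulAction.compHom Ω e.toMonoidHom) a1 a3
  refine cj_of_iso (MulEquiv.trans γ e) (a := a) (b := b) (fun x y => ?_) hγ
  obtain ⟨t, ht⟩ := a1.tr hc x y
  exact ⟨t, t.2, ht⟩

theorem few_row (h2 : 2 ≤ Fintype.card Ω) (Q : Subgroup (Perm Ω) → Prop) (h : ∀ S T, Q S → Q T → Nonempty (S ≃* T)) :
    Few (fun S => Act S Ω (Fintype.card Ω) ∧ Row2 S (Fintype.card Ω) ∧ Q S) 1 :=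
  Few.one fun S T hS hT => (h S T hS.2.2 hT.2.2).elim (cj_of_row h2 hS.1 hT.1 hS.2.1)

/-! ### the affine class -/

theorem vec_iso {A B : Type} [AddCommGroup A] [AddCommGroup B] [Finite A] [Finite B] {p : ℕ} [hp : Fact p.Prime]
    [Module (ZMod p) A] [Module (ZMod p) B] (h : Nat.card A = Nat.card B) : Nonempty (A ≃+ B) := by
  rw [← FiniteField.pow_finrank_eq_natCard p A, ← FiniteField.pow_finrank_eq_natCard p B] at h
  exact ⟨(LinearEquiv.ofFinrankEq (R := ZMod p) A B (Nat.pow_right_injective hp.out.two_le h)).toAddEquiv⟩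

theorem ea_iso' {A B : Type} [CommGroup A] [CommGroup B] [Finite A] [Finite B] {p : ℕ} (hp : p.Prime)
    (a2 : ∀ x : A, x ^ p = 1) (b2 : ∀ x : B, x ^ p = 1) (h : Nat.card A = Nat.card B) : Nonempty (A ≃* B) := by
  have := Fact.mk hp
  obtain ⟨e⟩ := @vec_iso (Additive A) (Additive B) _ _ _ _ p _ (AddCommGroup.zmodModule fun x => a2 x.toMul)
    (AddCommGroup.zmodModule fun x => b2 x.toMul) h
  exact ⟨AddEquiv.toMultiplicative e⟩

theorem ea_iso {A B : Type} [Group A] [Group B] [Finite A] [Finite B] {p : ℕ} (hp : p.Prime)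
    (a1 : ∀ x y : A, x * y = y * x) (a2 : ∀ x : A, x ^ p = 1) (b1 : ∀ x y : B, x * y = y * x) (b2 : ∀ x : B, x ^ p = 1)
    (h : Nat.card A = Nat.card B) : Nonempty (A ≃* B) :=
  @ea_iso' A B { (inferInstance : Group A) with mul_comm := a1 } { (inferInstance : Group B) with mul_comm := b1 } _ _ p hp
    a2 b2 h

/-- elementary abelian and regular -/
def Q0 (S : Subgroup (Perm Ω)) : Prop :=
  (∀ x ∈ S, ∀ y ∈ S, x * y = y * x) ∧ (∃ p : ℕ, p.Prime ∧ ∀ x ∈ S, x ^ p = 1) ∧ NP.Tr S ∧ ∀ a, ∀ x ∈ S, x a = a → x = 1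

theorem Q0.card (h : Q0 S) (a : Ω) : Nat.card S = Fintype.card Ω := by
  rw [← Nat.card_eq_fintype_card]
  refine Nat.card_eq_of_bijective (fun x : S => x.1 a) ⟨fun x y e => ?_, fun b => ?_⟩
  · have h1 := h.2.2.2 a (y⁻¹ * x).1 (y⁻¹ * x).2 (Perm.inv_eq_iff_eq.2 e)
    exact (inv_mul_eq_one.1 (Subtype.ext h1 : y⁻¹ * x = 1)).symm
  · obtain ⟨x, hx, e⟩ := h.2.2.1 a b
    exact ⟨⟨x, hx⟩, e⟩

theorem few0 (h2 : 2 ≤ Fintype.card Ω) : Few (Q0 (Ω := Ω)) 1 := Few.one fun S T hS hT => by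
  obtain ⟨a⟩ : Nonempty Ω := Fintype.card_pos_iff.1 (by omega)
  have c1 := hS.card a
  have c2 := hT.card a
  obtain ⟨s1, ⟨p, hp, s2⟩, s3, s4⟩ := hS
  obtain ⟨t1, ⟨q, hq, t2⟩, t3, t4⟩ := hT
  have key : ∀ (U : Subgroup (Perm Ω)) (r l : ℕ), r.Prime → l.Prime → (∀ x ∈ U, x ^ r = 1) → l ∣ Nat.card U → l = r :=
    fun U r l hr hl h1 h3 => by
      have := Fact.mk hl
      obtain ⟨x, hx⟩ := exists_prime_orderOf_dvd_card' l h3
      have h4 : x ^ r = 1 := Subtype.ext (h1 x x.2)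
      exact (Nat.prime_dvd_prime_iff_eq hl hr).1 (hx ▸ orderOf_dvd_of_pow_eq_one h4)
  obtain ⟨l, hl, hd⟩ := Nat.exists_prime_and_dvd (show Fintype.card Ω ≠ 1 by omega)
  obtain rfl := key S p l hp hl s2 (c1 ▸ hd)
  obtain rfl := key T q l hq hl t2 (c2 ▸ hd)
  obtain ⟨θ⟩ := ea_iso (A := S) (B := T) hl (fun x y => Subtype.ext (s1 x x.2 y y.2)) (fun x => Subtype.ext (s2 x x.2))
    (fun x y => Subtype.ext (t1 x x.2 y y.2)) (fun x => Subtype.ext (t2 x x.2)) (c1.trans c2.symm)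
  refine cj_of_iso θ (a := a) (b := a) s3 fun s => ⟨fun k => ?_, fun k => ?_⟩
  · rw [show s = 1 from Subtype.ext (s4 a s s.2 k), map_one]
    rfl
  · have h5 : θ s = 1 := Subtype.ext (t4 a _ (θ s).2 k)
    rw [θ.injective (h5.trans (map_one θ).symm)]
    rfl

/-! ### simple normal subgroups -/

theorem act_of (h : IsMultiplyPreprimitive M Ω 2) (h3 : 3 ≤ Fintype.card Ω) (hN : Nor M S) (hs : IsSimpleGroup S)
    (hn : ¬ IsMulCommutative S) : Act S Ω (Fintype.card Ω) := by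
  have t2 : Tr2 M := tr2_iff.2 h.isMultiplyPretransitive
  have : Nontrivial Ω := Fintype.one_lt_card_iff_nontrivial.1 (by omega)
  have ht : NP.Tr M := fun a b => by
    obtain ⟨x, hx⟩ := exists_ne a
    obtain ⟨y, hy⟩ := exists_ne b
    obtain ⟨g, hg, e, -⟩ := t2 a x b y hx.symm hy.symm
    exact ⟨g, hg, e⟩
  have tS : NP.Tr S := fun a b => by
    by_cases hab : a = b
    · exact ⟨1, S.one_mem, hab⟩
    obtain ⟨s, hs1⟩ := exists_ne (1 : S)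
    obtain ⟨x, hx⟩ : ∃ x, s.1 x ≠ x := by
      by_contra hc
      push Not at hc
      exact hs1 (Subtype.ext (Perm.ext hc))
    obtain ⟨g, hg, e1, e2⟩ := t2 x (s.1 x) a b hx.symm hab
    exact ⟨g * s * g⁻¹, hN.conj g hg s s.2, by simp [← e1, e2]⟩
  have hst : ∀ a, S ⊓ stabilizer (Perm Ω) a ≠ ⊥ := fun a h0 => by
    have reg : ∀ x ∈ S, x a = a → x = 1 := fun x hx e => (eq_bot_iff_forall _).1 h0 x ⟨hx, e⟩
    obtain ⟨p, hp, hd⟩ := Nat.exists_prime_and_dvd (Finite.one_lt_card (α := S)).ne'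
    have := Fact.mk hp
    obtain ⟨x, hx⟩ := exists_prime_orderOf_dvd_card' p hd
    have x1 : x.1 ≠ 1 := fun e => by
      rw [show x = 1 from Subtype.ext e, orderOf_one] at hx
      exact hp.one_lt.ne hx
    have xp : x.1 ^ p = 1 := by
      have := pow_orderOf_eq_one x
      rw [hx] at this
      exact congrArg Subtype.val this
    have hP : IsPGroup p S := fun y => ⟨1, by
      rw [pow_one]
      by_cases y1 : y.1 = 1
      · rw [show y = 1 from Subtype.ext y1, one_pow]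
      obtain ⟨g, hg, e1, e2⟩ := t2 a (x.1 a) a (y.1 a) (fun e => x1 (reg x x.2 e.symm)) fun e => y1 (reg y y.2 e.symm)
      have h4 : y.1⁻¹ * (g * x * g⁻¹) = 1 := reg _ (S.mul_mem (S.inv_mem y.2) (hN.conj g hg x x.2)) (by
        have h5 : g⁻¹ a = a := Perm.inv_eq_iff_eq.2 e1.symm
        rw [Perm.mul_apply, Perm.mul_apply, Perm.mul_apply, h5, e2]
        simp)
      refine Subtype.ext ?_
      show y.1 ^ p = 1
      rw [inv_mul_eq_one.1 h4, conj_pow, xp, mul_one, mul_inv_cancel]⟩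
    have hZ := hP.center_nontrivial
    rcases (inferInstance : (center S).Normal).eq_bot_or_eq_top with k | k
    · exact (Subgroup.nontrivial_iff_ne_bot _).1 hZ k
    · exact hn ⟨⟨fun a b => mem_center_iff.1 (k ▸ mem_top b : b ∈ center S) a⟩⟩
  refine ⟨inferInstance, Nat.card_eq_fintype_card, fun t k => Subtype.ext (Perm.ext k), fun a b x y hab hxy => ?_⟩
  obtain ⟨s, hs1, e⟩ := tS a x
  obtain ⟨u, hu, e'⟩ := tr_of h ht (hst x) (fun z hz => hz.2) (fun g hg hgx z hz => ⟨hN.conj g hg z hz.1, by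
    have h5 : g⁻¹ x = x := Perm.inv_eq_iff_eq.2 hgx.symm
    have h6 : z x = x := hz.2
    show (g * z * g⁻¹) x = x
    rw [Perm.mul_apply, Perm.mul_apply, h5, h6, hgx]⟩) (b := s b) (c := y)
    (fun k => hab (s.injective (e.trans k.symm))) hxy.symm
  have h7 : u x = x := hu.2
  refine ⟨⟨u * s, S.mul_mem hu.1 hs1⟩, ?_, e'⟩
  show u (s a) = x
  rw [e, h7]

theorem tr_M (h3 : 3 ≤ Fintype.card Ω) (hN : Nor M S) (A : Act S Ω (Fintype.card Ω)) : NP.Tr M := fun a b => by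
  obtain ⟨t, ht⟩ := A.tr (by omega) a b
  exact ⟨t, hN.le t.2, ht⟩

theorem not_lin (h : IsMultiplyPreprimitive M Ω 2) (h3 : 3 ≤ Fintype.card Ω) (hN : Nor M S)
    (A : Act S Ω (Fintype.card Ω)) : ¬ Lin S Ω := fun l => by
  obtain ⟨p, hp⟩ := A.lin_all l
  have := A.nontrivial (by omega)
  obtain ⟨a, b, hab⟩ := exists_pair_ne Ω
  obtain ⟨⟨x, hxa, hxb, hx⟩, y, t, ht, hy⟩ := hp a b hab
  have e := A.wp_eq hab hxa.symm (p := p) fun u hu => ⟨hu.1, hu.2.1, hx u hu⟩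
  rcases prim_rel h (tr_M h3 hN A) a ⟨fun b c => ∀ u ∈ S, u ^ p = 1 → u a = a → (u b = b ↔ u c = c),
    fun _ _ _ _ _ => Iff.rfl, fun k u h1 h2 h3 => (k u h1 h2 h3).symm,
    fun k k' u h1 h2 h3 => (k u h1 h2 h3).trans (k' u h1 h2 h3)⟩ (fun g hg ha b c _ _ k u h1 h2 h3 => by
      have h4 := k (g⁻¹ * u * g⁻¹⁻¹) (hN.conj _ (M.inv_mem hg) u h1) (by rw [conj_pow, h2, mul_one, mul_inv_cancel]) (by
        rw [inv_inv, Perm.mul_apply, Perm.mul_apply, ha, h3]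
        exact Perm.inv_eq_iff_eq.2 ha.symm)
      rw [inv_inv, Perm.mul_apply, Perm.mul_apply, Perm.mul_apply, Perm.mul_apply, Perm.inv_eq_iff_eq,
        Perm.inv_eq_iff_eq] at h4
      exact h4) with k | k
  · exact hy ((k b y hab.symm (fun e => hy (e ▸ ht.2.1)) t t.2 (congrArg Subtype.val ht.1) ht.2.1).1 ht.2.2)
  · refine hxb (k b x hab.symm hxa fun u h1 h2 h3 => ⟨fun h4 => ?_, fun h4 => ?_⟩).symm
    · exact hx ⟨u, h1⟩ ⟨Subtype.ext h2, h3, h4⟩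
    · exact (e.symm ▸ (⟨Subtype.ext h2, h3, h4⟩ : (⟨u, h1⟩ : S) ∈ Wp S p a x) : (⟨u, h1⟩ : S) ∈ Wp S p a b).2.2

theorem not_rk1N (h : IsMultiplyPreprimitive M Ω 2) (h3 : 3 ≤ Fintype.card Ω) (hN : Nor M S)
    (A : Act S Ω (Fintype.card Ω)) : ¬ Rk1N S (Fintype.card Ω) := by
  rintro ⟨p, hp, h1, h2⟩
  obtain ⟨P⟩ : Nonempty (Sylow p S) := inferInstance
  obtain ⟨a, a1, a2⟩ := A.stab_sylow h3 h1 (fun Q => (h2 Q).1) P
  obtain ⟨hc, x, hx, y, hy, hxy⟩ := h2 P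
  have mem : ∀ t : S, t ∈ (P : Subgroup S) ↔ t.1 a = a ∧ ∃ k, t.1 ^ p ^ k = 1 := fun t => by
    constructor
    · intro ht
      obtain ⟨k, hk⟩ := P.isPGroup' ⟨t, ht⟩
      exact ⟨a1 t ht, k, congrArg Subtype.val (congrArg Subtype.val hk)⟩
    · rintro ⟨h4, k, hk⟩
      have h5 : t ∈ normalizer ((P : Subgroup S) : Set S) := Sylow.smul_eq_iff_mem_normalizer.1 ((a2 t).1 h4)
      have h6 : IsPGroup p (zpowers t) := by
        rintro ⟨_, j, rfl⟩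
        refine ⟨k, Subtype.ext ?_⟩
        have h7 : t ^ p ^ k = 1 := Subtype.ext hk
        show (t ^ j) ^ p ^ k = 1
        rw [← zpow_natCast, ← zpow_mul, mul_comm, zpow_mul, zpow_natCast, h7, one_zpow]
      have h8 := IsPGroup.to_sup_of_normal_right' h6 P.isPGroup' ((zpowers_le).2 h5)
      rw [← P.is_maximal' h8 le_sup_right]
      exact mem_sup_left (mem_zpowers t)
  let Pm : Subgroup (Perm Ω) := (P : Subgroup S).map S.subtype
  have memP : ∀ t, t ∈ Pm ↔ t ∈ S ∧ t a = a ∧ ∃ k, t ^ p ^ k = 1 := fun t =>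
    ⟨fun ⟨u, hu, e⟩ => e ▸ ⟨u.2, (mem u).1 hu⟩, fun ⟨h4, h5⟩ => ⟨⟨t, h4⟩, (mem _).2 h5, rfl⟩⟩
  have cj : ∀ g ∈ M, g a = a → ∀ t ∈ Pm, g * t * g⁻¹ ∈ Pm := fun g hg ha t ht => by
    obtain ⟨h4, h5, k, hk⟩ := (memP t).1 ht
    refine (memP _).2 ⟨hN.conj g hg t h4, ?_, k, by rw [conj_pow, hk, mul_one, mul_inv_cancel]⟩
    have h6 : g⁻¹ a = a := Perm.inv_eq_iff_eq.2 ha.symm
    rw [Perm.mul_apply, Perm.mul_apply, h6, h5, ha]
  have hZ : Pm ⊓ centralizer (Pm : Set (Perm Ω)) ≠ ⊥ := by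
    have : Nontrivial (P : Subgroup S) := Finite.one_lt_card_iff_nontrivial.1 (by omega)
    have h4 := P.isPGroup'.center_nontrivial
    obtain ⟨z, hz⟩ := exists_ne (1 : center (P : Subgroup S))
    intro h0
    refine hz (Subtype.ext (Subtype.ext (Subtype.ext ((eq_bot_iff_forall _).1 h0 z.1.1.1 ⟨⟨z.1.1, z.1.2, rfl⟩, ?_⟩))))
    rintro _ ⟨u, hu, rfl⟩
    exact congrArg (fun w : (P : Subgroup S) => w.1.1) (mem_center_iff.1 z.2 ⟨u, hu⟩)
  have tr := fun b c hb hc => tr_of h (tr_M h3 hN A) (a := a) hZ (fun z hz => ((memP z).1 hz.1).2.1)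
    (fun g hg ha z hz => ⟨cj g hg ha z hz.1, fun u hu => by
      have h4 := hz.2 _ (cj g⁻¹ (M.inv_mem hg) (Perm.inv_eq_iff_eq.2 ha.symm) u hu)
      calc u * (g * z * g⁻¹) = g * (g⁻¹ * u * g⁻¹⁻¹ * z) * g⁻¹ := by group
        _ = g * z * g⁻¹ * u := by rw [h4]; group⟩) (b := b) (c := c) hb hc
  have := A.nontrivial (by omega)
  obtain ⟨b, hb⟩ := exists_ne a
  have xP : x.1 ∈ Pm := ⟨x, hx, rfl⟩
  have xa : x.1 a = a := ((memP _).1 xP).2.1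
  obtain ⟨z, hz, e⟩ := tr b (x.1 b) hb fun k => hb (x.1.injective (k.trans xa.symm))
  have h5 : x.1 = z := Perm.ext fun c => by
    by_cases hca : c = a
    · rw [hca, xa, ((memP z).1 hz.1).2.1]
    obtain ⟨w, hw, rfl⟩ := tr b c hb hca
    have h6 := congrArg (fun f : Perm Ω => f b) (hw.2 _ xP)
    have h7 := congrArg (fun f : Perm Ω => f b) (hw.2 _ hz.1)
    simp only [Perm.mul_apply] at h6 h7
    rw [h6, h7, e]
  exact hxy (Subtype.ext (by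
    show x.1 * y.1 = y.1 * x.1
    rw [h5]
    exact (hz.2 _ ⟨y, hy, rfl⟩).symm))

theorem alt_le (hN : Nor M S) (h : (Fintype.card Ω).factorial = 2 * Nat.card S) : alternatingGroup Ω ≤ M := by
  have h1 := S.card_mul_index
  rw [Nat.card_eq_fintype_card (α := Perm Ω), Fintype.card_perm, h, mul_comm] at h1
  rw [← Perm.eq_alternatingGroup_of_index_eq_two (Nat.eq_of_mul_eq_mul_right Nat.card_pos h1)]
  exact hN.le

/-! ### the three almost simple classes -/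

/-- `L₂(n - 1)` -/
def Q1 (S : Subgroup (Perm Ω)) : Prop := ∃ (F : Type) (_ : Field F) (_ : Fintype F),
  Fintype.card Ω = Fintype.card F + 1 ∧ Nonempty (S ≃* Matrix.ProjectiveSpecialLinearGroup (Fin 2) F)

/-- `Sp_{2m}(2)` or `M₁₁` -/
def Q2 (S : Subgroup (Perm Ω)) : Prop :=
  (∃ (F : Type) (_ : Field F) (_ : Fintype F) (m : ℕ), Fintype.card F = 2 ∧ 3 ≤ m ∧
    (Fintype.card Ω = 2 ^ (m - 1) * (2 ^ m + 1) ∨ Fintype.card Ω = 2 ^ (m - 1) * (2 ^ m - 1)) ∧ Nonempty (S ≃* PSp m F)) ∨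
  (Fintype.card Ω ≤ 12 ∧ Spor.IsoM11 S)

/-- the other rows -/
def Q3 (S : Subgroup (Perm Ω)) : Prop :=
  (Fintype.card Ω = 11 ∧ ∃ (F : Type) (_ : Field F) (_ : Fintype F),
    Fintype.card F = 11 ∧ Nonempty (S ≃* Matrix.ProjectiveSpecialLinearGroup (Fin 2) F)) ∨
  (Fintype.card Ω = 12 ∧ Spor.IsoM12 S) ∨ (Fintype.card Ω = 15 ∧ Nonempty (S ≃* ↥(alternatingGroup (Fin 7)))) ∨
  (Fintype.card Ω = 22 ∧ Spor.IsoM22 S) ∨ (Fintype.card Ω = 23 ∧ Spor.IsoM23 S) ∨ (Fintype.card Ω = 24 ∧ Spor.IsoM24 S) ∨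
  (Fintype.card Ω = 176 ∧ Spor.IsoHS S) ∨ (Fintype.card Ω = 276 ∧ Spor.IsoCo3 S)

theorem iso1 (S T : Subgroup (Perm Ω)) (hS : Q1 S) (hT : Q1 T) : Nonempty (S ≃* T) := by
  obtain ⟨F, _, _, h1, ⟨e⟩⟩ := hS
  obtain ⟨K, _, _, h2, ⟨f⟩⟩ := hT
  exact ⟨(e.trans (LieClassical.FieldTransfer.pslCongr (FiniteField.ringEquivOfCardEq (by omega)))).trans f.symm⟩

theorem sp_form {n m : ℕ} (hm : 3 ≤ m) (h : n = 2 ^ (m - 1) * (2 ^ m + 1) ∨ n = 2 ^ (m - 1) * (2 ^ m - 1)) :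
    ∃ u, u % 2 = 1 ∧ 7 ≤ u ∧ n = 2 ^ (m - 1) * u := by
  obtain ⟨k, rfl⟩ : ∃ k, m = k + 3 := ⟨m - 3, by omega⟩
  have e2 : 2 ^ (k + 3) = 8 * 2 ^ k := by rw [pow_succ, pow_succ, pow_succ]; ring
  have e4 : 0 < 2 ^ k := by positivity
  rcases h with h | h
  · exact ⟨_, by omega, by omega, h⟩
  · exact ⟨_, by omega, by omega, h⟩

theorem two_pow_inj {a b u v : ℕ} (hu : u % 2 = 1) (hv : v % 2 = 1) (h : 2 ^ a * u = 2 ^ b * v) : a = b := by
  have key : ∀ {a b u v : ℕ}, u % 2 = 1 → 2 ^ a * u = 2 ^ b * v → b ≤ a := fun {a b u v} hu h => by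
    by_contra hc
    obtain ⟨k, rfl⟩ : ∃ k, b = a + (k + 1) := ⟨b - a - 1, by omega⟩
    rw [pow_add, mul_assoc] at h
    have h1 := Nat.eq_of_mul_eq_mul_left (by positivity) h
    rw [pow_succ, mul_comm (2 ^ k), mul_assoc] at h1
    omega
  exact le_antisymm (key hv h.symm) (key hu h)

theorem sp_big {n m : ℕ} (hm : 3 ≤ m) (h : n = 2 ^ (m - 1) * (2 ^ m + 1) ∨ n = 2 ^ (m - 1) * (2 ^ m - 1)) : 12 < n := by
  obtain ⟨u, -, h1, rfl⟩ := sp_form hm h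
  have h2 : 2 ^ 2 ≤ 2 ^ (m - 1) := Nat.pow_le_pow_right two_pos (by omega)
  nlinarith

theorem iso2 (S T : Subgroup (Perm Ω)) (hS : Q2 S) (hT : Q2 T) : Nonempty (S ≃* T) := by
  rcases hS with ⟨F, _, _, m, h1, h2, h3, ⟨e⟩⟩ | ⟨h1, ⟨e⟩⟩ <;> rcases hT with ⟨K, _, _, l, k1, k2, k3, ⟨f⟩⟩ | ⟨k1, ⟨f⟩⟩
  · obtain ⟨u, u1, -, u2⟩ := sp_form h2 h3
    obtain ⟨v, v1, -, v2⟩ := sp_form k2 k3
    have := two_pow_inj u1 v1 (u2.symm.trans v2)
    obtain rfl : m = l := by omega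
    exact ⟨(e.trans (LieClassical.FieldTransfer.pspCongr m (FiniteField.ringEquivOfCardEq (h1.trans k1.symm)))).trans f.symm⟩
  · exact absurd (sp_big h2 h3) (by omega)
  · exact absurd (sp_big k2 k3) (by omega)
  · exact ⟨e.trans f.symm⟩

theorem iso3 (S T : Subgroup (Perm Ω)) (hS : Q3 S) (hT : Q3 T) : Nonempty (S ≃* T) := by
  rcases hS with ⟨h1, F, _, _, h2, ⟨e⟩⟩ | ⟨h1, ⟨e⟩⟩ | ⟨h1, ⟨e⟩⟩ | ⟨h1, ⟨e⟩⟩ | ⟨h1, ⟨e⟩⟩ | ⟨h1, ⟨e⟩⟩ | ⟨h1, ⟨e⟩⟩ | ⟨h1, ⟨e⟩⟩ <;>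
    rcases hT with ⟨k1, K, _, _, k2, ⟨f⟩⟩ | ⟨k1, ⟨f⟩⟩ | ⟨k1, ⟨f⟩⟩ | ⟨k1, ⟨f⟩⟩ | ⟨k1, ⟨f⟩⟩ | ⟨k1, ⟨f⟩⟩ | ⟨k1, ⟨f⟩⟩ | ⟨k1, ⟨f⟩⟩ <;>
    first
    | omega
    | exact ⟨e.trans f.symm⟩
    | exact ⟨(e.trans (LieClassical.FieldTransfer.pslCongr (FiniteField.ringEquivOfCardEq (h2.trans k2.symm)))).trans f.symm⟩

theorem rows (h : IsMultiplyPreprimitive M Ω 2) (h3 : 3 ≤ Fintype.card Ω) (hA : ¬ alternatingGroup Ω ≤ M) (hN : Nor M S)
    (hs : IsSimpleGroup S) (hn : ¬ IsMulCommutative S) (A : Act S Ω (Fintype.card Ω)) :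
    Row2 S (Fintype.card Ω) ∧ (Q1 S ∨ Q2 S ∨ Q3 S) := by
  have hK := A.known2 hs hn
  have l2 : ∀ (F : Type) [Field F] [Fintype F], (S ≃* Matrix.ProjectiveSpecialLinearGroup (Fin 2) F) →
      Nat.card S * Nat.gcd 2 (Fintype.card F - 1) = Fintype.card F * (Fintype.card F ^ 2 - 1) := fun F _ _ e => by
    rw [Nat.card_congr e.toEquiv]
    exact ClassicalGeometry.PSL2Basic.card_PSL2_gcd F
  have k1 := not_lin h h3 hN A
  have k2 := not_rk1N h h3 hN A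
  have k3 := fun k => hA (alt_le hN k)
  unfold Q1 Q2 Q3
  generalize Fintype.card Ω = c at *
  cases hK with
  | alt n hn e => exact (k3 (H354.Four.card_alt (by omega) e)).elim
  | psl F d n hd hd2 e hn =>
    rcases Nat.lt_or_ge 2 d with hd3 | hd3
    · exact (k1 (boxLin S F d c hd3 e hn Ω A)).elim
    obtain rfl : d = 2 := by omega
    have h4 := hd2 rfl
    have h5 := (boxR1 S F).1 e
    have h6 : c = Fintype.card F + 1 := by
      generalize Fintype.card F = q at *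
      obtain ⟨r, rfl⟩ : ∃ r, q = r + 1 := ⟨q - 1, by omega⟩
      have e1 : (r + 1) ^ 2 - 1 = (r + 2) * r := by
        have : (r + 1) ^ 2 = (r + 2) * r + 1 := by ring
        omega
      rw [e1, Nat.add_sub_cancel] at hn
      exact Nat.eq_of_mul_eq_mul_right (by omega) hn
    exact ⟨(one2_of_rk1 h3 (h6 ▸ h5)).row, Or.inl ⟨F, _, _, h6, e⟩⟩
  | sp F m n hF hm e hn => exact ⟨(Alt.boxSp S F m c hF hm e hn).1.row, Or.inr (Or.inl (Or.inl ⟨F, _, _, m, hF, hm, hn, e⟩))⟩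
  | psu F q n hq hF e hn => exact (k2 (hn ▸ (boxR1 S F).2.1 q hq hF e)).elim
  | sz F m n hm hF e hn => exact (k2 (hn ▸ (boxR1 S F).2.2.1 m hm hF e)).elim
  | ree F m n hm hF e hn => exact (k2 (hn ▸ (boxR1 S F).2.2.2 m hm hF e)).elim
  | psl2_8 F hF e =>
    obtain ⟨e⟩ := e
    have h1 := l2 F e
    have h2 := A.dvd (by norm_num)
    rw [hF] at h1
    norm_num at h1
    rw [h1] at h2
    norm_num at h2
  | psl2_9 F hF e =>
    obtain ⟨e⟩ := e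
    have h1 := l2 F e
    rw [hF] at h1
    norm_num at h1
    exact (k3 (by norm_num [Nat.factorial]; omega)).elim
  | psl2_11 F hF e => exact ⟨((Mat.boxSm S).1 F hF e).1, Or.inr (Or.inr (Or.inl ⟨rfl, F, _, _, hF, e⟩))⟩
  | psl4_2 F hF e =>
    obtain ⟨e⟩ := e
    obtain ⟨e2⟩ := S0256.result hF
    exact (k3 (H354.Four.card_alt (by omega) ⟨e.trans e2⟩)).elim
  | a7 e => exact ⟨((Mat.boxSm S).2 e).1, Or.inr (Or.inr (Or.inr (Or.inr (Or.inl ⟨rfl, e⟩))))⟩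
  | m11 k => exact ⟨((Mat.boxMat S).1 k).1.row, Or.inr (Or.inl (Or.inr ⟨by norm_num, k⟩))⟩
  | m11' k => exact ⟨((Mat.boxMat S).1 k).2.row, Or.inr (Or.inl (Or.inr ⟨by norm_num, k⟩))⟩
  | m12 k => exact ⟨((Mat.boxMat S).2.1 k).1, Or.inr (Or.inr (Or.inr (Or.inl ⟨rfl, k⟩)))⟩
  | m22 k => exact ⟨((Mat.boxMat S).2.2.1 k).row, Or.inr (Or.inr (Or.inr (Or.inr (Or.inr (Or.inl ⟨rfl, k⟩)))))⟩
  | m23 k => exact ⟨((Mat.boxMat S).2.2.2.1 k).row, Or.inr (Or.inr (Or.inr (Or.inr (Or.inr (Or.inr (Or.inl ⟨rfl, k⟩))))))⟩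
  | m24 k =>
    exact ⟨((Mat.boxMat S).2.2.2.2 k).row, Or.inr (Or.inr (Or.inr (Or.inr (Or.inr (Or.inr (Or.inr (Or.inl ⟨rfl, k⟩)))))))⟩
  | hs k => exact ⟨(HS.boxHS S k).1, Or.inr (Or.inr (Or.inr (Or.inr (Or.inr (Or.inr (Or.inr (Or.inr (Or.inl ⟨rfl, k⟩))))))))⟩
  | co3 k => exact ⟨(boxCo S k).row, Or.inr (Or.inr (Or.inr (Or.inr (Or.inr (Or.inr (Or.inr (Or.inr (Or.inr ⟨rfl, k⟩))))))))⟩

end Cfsg.Agent.SM.NP.TT

namespace Cfsg.Agent.SM.NP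

open Equiv Subgroup MulAction Cfsg.Agent.SM.Alt Cfsg.Agent.H384.TwoTrans

/-- **doubly primitive groups**: the socles lie in at most four conjugacy classes of the symmetric group -/
theorem boxTT' (Ω : Type) [Fintype Ω] [DecidableEq Ω] (h3 : 3 ≤ Fintype.card Ω) :
    ∃ R : Finset (Subgroup (Perm Ω)), R.card ≤ 4 ∧ ∀ M : Subgroup (Perm Ω), IsMultiplyPreprimitive M Ω 2 →
      ¬ alternatingGroup Ω ≤ M → ∃ S, Nor M S ∧ S ≠ ⊥ ∧ ∃ T ∈ R, Cj S T := by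
  have h2 : 2 ≤ Fintype.card Ω := by omega
  obtain ⟨R, hR, hT⟩ := (TT.few0 h2).or ((TT.few_row h2 _ TT.iso1).or ((TT.few_row h2 _ TT.iso2).or (TT.few_row h2 _ TT.iso3)))
  refine ⟨R, hR, fun M h hA => ?_⟩
  rcases H384.TwoTrans.reduction (G := M) (Ω := Ω) h.isMultiplyPretransitive (by rwa [Nat.card_eq_fintype_card]) with
    ⟨N, hN, h0, hc, ⟨p, hp, he⟩, ht, hr⟩ | ⟨T, A⟩
  · refine ⟨N.map M.subtype, Nor.of_normal N, fun k => h0 ((map_eq_bot_iff_of_injective _ M.subtype_injective).1 k),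
      hT _ (Or.inl ⟨?_, ⟨p, hp, ?_⟩, fun a b => ?_, ?_⟩)⟩
    · rintro _ ⟨x, hx, rfl⟩ _ ⟨y, hy, rfl⟩
      exact congrArg (fun w : N => w.1.1) (hc.is_comm.comm ⟨x, hx⟩ ⟨y, hy⟩)
    · rintro _ ⟨x, hx, rfl⟩
      exact congrArg Subtype.val (he x hx)
    · obtain ⟨x, hx, e⟩ := ht a b
      exact ⟨x, ⟨x, hx, rfl⟩, e⟩
    · rintro a _ ⟨x, hx, rfl⟩ e
      exact congrArg Subtype.val (hr a x hx e)
  · have := A.normal
    have := A.simple
    have e := T.equivMapOfInjective M.subtype M.subtype_injective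
    have hs : IsSimpleGroup (T.map M.subtype) := e.symm.isSimpleGroup
    have hn : ¬ IsMulCommutative (T.map M.subtype) := fun k =>
      A.nonab ⟨⟨fun a b => e.injective (by rw [map_mul, map_mul, k.is_comm.comm])⟩⟩
    have hN := Nor.of_normal T
    have a1 := TT.act_of h h3 hN hs hn
    obtain ⟨r1, r2⟩ := TT.rows h h3 hA hN hs hn a1
    refine ⟨_, hN, (Subgroup.nontrivial_iff_ne_bot _).1 inferInstance, hT _ (Or.inr ?_)⟩
    rcases r2 with r | r | r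
    · exact Or.inl ⟨a1, r1, r⟩
    · exact Or.inr (Or.inl ⟨a1, r1, r⟩)
    · exact Or.inr (Or.inr ⟨a1, r1, r⟩)

theorem boxTT : BoxTT := fun Ω _ _ h6 => by
  obtain ⟨R, h1, h2⟩ := boxTT' Ω (by omega)
  exact ⟨R, h1, fun M h hA => Or.inl (h2 M h hA)⟩

theorem boxTT_of (h1 : NP.BoxSp) (h2 : BoxLink) : BoxTT := boxTT

end Cfsg.Agent.SM.NP
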