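import Cfsg.Agent.SM.NP.Defs

/-!
# SM (S3570), `H` with two orbits, both of length at least three (helper88)
-/

set_option autoImplicit false
set_option linter.unusedSectionVars false

namespace Cfsg.Agent.SM.NP

open Equiv Equiv.Perm Subgroup MulAction

namespace Tw

variable {Ω : Type} [Fintype Ω] [DecidableEq Ω] {X H K : Subgroup (Perm Ω)} {A B : Set Ω}

/-- the even permutations which move only points of `B` -/
def Al (B : Set Ω) : Subgroup (Perm Ω) where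
  carrier := {g | sign g = 1 ∧ ∀ x, x ∉ B → g x = x}
  one_mem' := ⟨sign_one, fun _ _ => rfl⟩
  mul_mem' := fun {g h} hg hh => ⟨by rw [map_mul, hg.1, hh.1, one_mul], fun x hx => by
    rw [mul_apply, hh.2 x hx, hg.2 x hx]⟩
  inv_mem' := fun {g} hg => ⟨by rw [sign_inv, hg.1], fun x hx => Perm.inv_eq_iff_eq.2 (hg.2 x hx).symm⟩

theorem fix_iff {g : Perm Ω} (h : ∀ x, x ∉ B → g x = x) (a : Ω) : g a ∈ B ↔ a ∈ B :=
  ⟨fun k => by_contra fun k' => k' (h a k' ▸ k), fun k => by_contra fun k' => k' ((g.injective (h _ k')).symm ▸ k)⟩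

theorem Al_le (s : Sec X H) (A : Set Ω) : Al A ≤ Sw X A := fun _ hg => ⟨s.alt hg.1, fix_iff hg.2⟩

theorem Al_le' (s : Sec X H) (A : Set Ω) : Al Aᶜ ≤ Sw X A := fun _ hg => ⟨s.alt hg.1, fun a => not_iff_not.1 (fix_iff hg.2 a)⟩

theorem Al_conj {g : Perm Ω} (hg : ∀ a, g a ∈ B ↔ a ∈ B) {k : Perm Ω} (hk : k ∈ Al B) : g * k * g⁻¹ ∈ Al B :=
  ⟨by rw [map_mul, map_mul, hk.1, mul_one, ← map_mul, mul_inv_cancel, map_one], fun x hx => by
    rw [mul_apply, mul_apply, hk.2 _ fun k => hx (by simpa using (hg _).2 k)]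
    simp⟩

theorem swap_mem_Al {a b c d : Ω} (ha : a ∈ B) (hb : b ∈ B) (hc : c ∈ B) (hd : d ∈ B) (h1 : a ≠ b) (h2 : c ≠ d) :
    swap a b * swap c d ∈ Al B :=
  ⟨swap_mul_mem_alt h1 h2, fun x hx => by
    rw [mul_apply, swap_apply_of_ne_of_ne (a := c), swap_apply_of_ne_of_ne] <;> rintro rfl <;> contradiction⟩

theorem sm_of_Al (h : Al B ≤ H) (h3 : 3 ≤ B.ncard) : Sm H := by
  obtain ⟨a, ha, b, hb, c, hc, h1, h2, h4⟩ := (Set.two_lt_ncard (s := B)).1 h3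
  exact ⟨_, h (swap_mem_Al ha hb ha hc h1 h2), Or.inl (isThreeCycle_swap_mul_swap_same h1 h2 h4)⟩

section model

variable {α : Type} [Fintype α] [DecidableEq α] [DecidablePred (· ∈ B)] (e : α ≃ {x // x ∈ B})

theorem Al_eq : (alternatingGroup α).map (extendDomainHom e) = Al B := by
  ext g
  refine ⟨?_, fun hg => ⟨e.symm.permCongr (g.subtypePerm (fix_iff hg.2)), ?_, ?_⟩⟩
  · rintro ⟨k, hk, rfl⟩
    exact ⟨(sign_extendDomain k e).trans hk, fun x hx => k.extendDomain_apply_not_subtype e hx⟩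
  · show sign _ = 1
    rw [sign_permCongr, sign_subtypePerm _ _ fun x hx => by_contra fun k => hx (hg.2 x k), hg.1]
  · ext x
    by_cases hx : x ∈ B
    · rw [extendDomainHom_apply, Perm.extendDomain_apply_subtype _ e hx]
      simp
    · rw [extendDomainHom_apply, Perm.extendDomain_apply_not_subtype _ e hx, hg.2 x hx]

theorem ext_swap (i j : α) : extendDomainHom e (swap i j) = swap (e i : Ω) (e j) := by
  ext x
  by_cases hx : x ∈ B
  · obtain ⟨k, hk⟩ := e.surjective ⟨x, hx⟩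
    obtain rfl : (e k : Ω) = x := congrArg Subtype.val hk
    rw [extendDomainHom_apply, Perm.extendDomain_apply_image]
    exact ((Subtype.val_injective.comp e.injective).swap_apply i j k).symm
  · rw [extendDomainHom_apply, Perm.extendDomain_apply_not_subtype _ e hx, swap_apply_of_ne_of_ne]
    · rintro rfl
      exact hx (e i).2
    · rintro rfl
      exact hx (e j).2

end model

theorem card_Al (h : 2 ≤ B.ncard) : 2 * Nat.card (Al B) = B.ncard.factorial := by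
  classical
  have : Nontrivial B := Finite.one_lt_card_iff_nontrivial.1 h
  rw [← Al_eq (Equiv.refl _), card_map_of_injective (extendDomainHom_injective _), two_mul_nat_card_alternatingGroup,
    Nat.card_perm]
  rfl

/-- a non-trivial group normalised by `Al B`, at least five points -/
theorem Al_le_of (h : 5 ≤ B.ncard) (hK : K ≤ Al B) (h0 : K ≠ ⊥) (hc : ∀ g ∈ Al B, ∀ k ∈ K, g * k * g⁻¹ ∈ K) : Al B ≤ K := by
  classical
  rw [← Al_eq (Equiv.refl _)] at hK hc ⊢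
  refine map_le_iff_le_comap.2 (alt_le_of_conj (by rwa [← Nat.card_eq_fintype_card]) (fun e => h0 (eq_bot_iff.2 fun k hk => ?_))
    fun g hg k hk => ?_)
  · obtain ⟨k', -, rfl⟩ := hK hk
    rw [mem_bot.1 (e.le hk), map_one]
    exact one_mem _
  · rw [mem_comap, map_mul, map_mul, map_inv]
    exact hc _ ⟨g, hg, rfl⟩ _ hk

theorem four : ∀ k : Perm (Fin 4), k ≠ 1 → sign k = 1 → ∃ g : Perm (Fin 4), sign g = 1 ∧
    (g * k * g⁻¹ = swap 0 1 * swap 2 3 ∨ g * k * g⁻¹ = swap 0 1 * swap 0 2 ∨ g * k * g⁻¹ = swap 0 2 * swap 0 1) := by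
  decide +kernel

/-- four points -/
theorem kl_of (h : B.ncard = 4) (hK : K ≤ Al B) (h0 : K ≠ ⊥) (hc : ∀ g ∈ Al B, ∀ k ∈ K, g * k * g⁻¹ ∈ K) (hs : ¬ Sm K) :
    Kl K B := fun a ha b hb c hc' d hd h1 h2 h3 h4 h5 h6 => by
  classical
  let e : Fin 4 ≃ {x // x ∈ B} := Equiv.ofBijective ![⟨a, ha⟩, ⟨b, hb⟩, ⟨c, hc'⟩, ⟨d, hd⟩]
    ((Nat.bijective_iff_injective_and_card _).2 ⟨fun i j => by
      fin_cases i <;> fin_cases j <;> simp [h1, h2, h3, h4, h5, h6, h1.symm, h2.symm, h3.symm, h4.symm, h5.symm, h6.symm],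
      (Nat.card_fin 4).trans h.symm⟩)
  rw [← Al_eq e] at hK hc
  obtain ⟨k, hk, k1⟩ := (K.bot_or_exists_ne_one).resolve_left h0
  obtain ⟨k', k2, rfl⟩ := hK hk
  obtain ⟨g, hg, k3⟩ := four k' (fun e => k1 (by rw [e, map_one])) k2
  have k4 := hc _ ⟨g, hg, rfl⟩ _ hk
  rw [← map_inv, ← map_mul, ← map_mul] at k4
  rcases k3 with k3 | k3 | k3 <;> rw [k3, map_mul, ext_swap, ext_swap] at k4
  · exact k4
  · exact absurd ⟨_, k4, Or.inl (isThreeCycle_swap_mul_swap_same h1 h2 h4)⟩ hs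
  · exact absurd ⟨_, k4, Or.inl (isThreeCycle_swap_mul_swap_same h2 h1 h4.symm)⟩ hs

theorem comm_Al {g k : Perm Ω} (hg : g ∈ Al A) (hk : k ∈ Al Aᶜ) : g * k = k * g :=
  Perm.Disjoint.commute fun x => (em (x ∈ A)).elim (fun h => Or.inr (hk.2 x fun k => k h)) fun h => Or.inl (hg.2 x h)

end Tw

open Tw

theorem boxTwo3_of (h7 : BoxN7) : BoxTwo3 := fun Ω _ _ X H A s t h3 => by
  by_cases hs : Sm H
  · rw [hs.Pr_eq s]
    simp
  have hA : ∀ g ∈ H, ∀ a, g a ∈ A ↔ a ∈ A := fun g hg => (t.ov.2 hg).2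
  have hlt := t.lt
  have h1 := (s.le_or_mul t.ov (Al_le s A) fun g hg k hk => Al_conj (hA g hg) hk).resolve_left fun k => hs (sm_of_Al k h3)
  have h2 : ∀ g : Al Aᶜ, ∃ q : Al A, (g : Perm Ω) * (q : Perm Ω)⁻¹ ∈ H := fun g => by
    obtain ⟨h, hh, q, hq, e⟩ := h1 g (Al_le' s A g.2)
    exact ⟨⟨q, hq⟩, by rwa [e, mul_inv_cancel_right]⟩
  choose F hF using h2
  have hc : ∀ g ∈ Al Aᶜ, ∀ k ∈ H ⊓ Al Aᶜ, g * k * g⁻¹ ∈ H ⊓ Al Aᶜ := fun g hg k hk => by
    refine ⟨?_, (Al Aᶜ).mul_mem ((Al Aᶜ).mul_mem hg hk.2) ((Al Aᶜ).inv_mem hg)⟩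
    have k1 := H.mul_mem (H.mul_mem (hF ⟨g, hg⟩) hk.1) (H.inv_mem (hF ⟨g, hg⟩))
    have k2 := comm_Al (inv_mem (F ⟨g, hg⟩).2) hk.2
    rwa [mul_assoc g, k2, show g * (k * (F ⟨g, hg⟩ : Perm Ω)⁻¹) * (g * (F ⟨g, hg⟩ : Perm Ω)⁻¹)⁻¹ = g * k * g⁻¹ by group] at k1
  have h0 : H ⊓ Al Aᶜ ≠ ⊥ := fun e => by
    have k1 : Function.Injective F := fun g g' k => by
      have k2 := H.mul_mem (hF g) (H.inv_mem (hF g'))
      rw [k, show (g : Perm Ω) * (F g' : Perm Ω)⁻¹ * (g' * (F g' : Perm Ω)⁻¹)⁻¹ = g * (g' : Perm Ω)⁻¹ by group] at k2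
      exact Subtype.ext (mul_inv_eq_one.1 (mem_bot.1 (e.le ⟨k2, (Al Aᶜ).mul_mem g.2 ((Al Aᶜ).inv_mem g'.2)⟩)))
    have k2 := Nat.card_le_card_of_injective F k1
    have k3 := card_Al (B := A) (by omega)
    have k4 := card_Al (B := Aᶜ) (by omega)
    have k5 := (Nat.factorial_lt (by omega)).2 hlt
    omega
  have h4 : Aᶜ.ncard = 4 := by
    by_contra k
    exact hs (sm_of_Al ((Al_le_of (by omega) inf_le_right h0 hc).trans inf_le_left) (by omega))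
  have h5 := kl_of h4 inf_le_right h0 hc fun k => hs (k.mono inf_le_left)
  have h6 := Set.ncard_add_ncard_compl A
  rw [Nat.card_eq_fintype_card] at h6
  exact h7 Ω X H Aᶜ s (by omega) h4 (fun g hg => ⟨s.lt.le hg, fun a => not_iff_not.2 (hA g hg a)⟩)
    fun a ha b hb c hc d hd k1 k2 k3 k4 k5 k6 => (h5 a ha b hb c hc d hd k1 k2 k3 k4 k5 k6).1

end Cfsg.Agent.SM.NP
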