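import Cfsg.Agent.SM.NP.Defs

/-!
# SM (S3570), `H` not primitive: Young subgroups, and the imprimitive overgroups for two orbits (helper31)
-/

set_option autoImplicit false
set_option linter.unusedSectionVars false
set_option linter.unusedVariables false
set_option maxHeartbeats 400000

namespace Cfsg.Agent.SM.NP

open Equiv Equiv.Perm Subgroup MulAction

namespace Yg

variable {Ω : Type} [Fintype Ω] [DecidableEq Ω] {X H M : Subgroup (Perm Ω)}

theorem nochain (s : Sec X H) {K L : Subgroup (Perm Ω)} (h1 : H < K) (h2 : K < L) (h3 : L < X) : False :=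
  h2.ne (Sec.eq_of_le (s.mem_ov h1 (h2.trans h3)) (s.mem_ov (h1.trans h2) h3) h2.le)

theorem Sw_lt (s : Sec X H) {A : Set Ω} {a b : Ω} (ha : a ∈ A) (hb : b ∉ A) : Sw X A < X := by
  refine lt_of_le_of_ne (Sw_le X A) fun e => ?_
  have hab : a ≠ b := fun h => hb (h ▸ ha)
  obtain ⟨g, hg, e1, -⟩ := tr2_alt (Ω := Ω) (by have := s.five; omega) a b b a hab hab.symm
  have h1 : g ∈ Sw X A := e.symm ▸ s.alt hg
  exact hb (e1 ▸ (h1.2 a).2 ha)

theorem swap_rel {E : Setoid Ω} {p q : Ω} (h : E p q) (x : Ω) : E (swap p q x) x := by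
  by_cases h1 : x = p
  · rw [h1, swap_apply_left]; exact E.symm' h
  · by_cases h2 : x = q
    · rw [h2, swap_apply_right]; exact h
    · rw [swap_apply_of_ne_of_ne h1 h2]

theorem swap_mem {A : Set Ω} {p q : Ω} (h : p ∈ A ↔ q ∈ A) (x : Ω) : swap p q x ∈ A ↔ x ∈ A :=
  (Equiv.apply_swap_eq_self (v := fun y => y ∈ A) (propext h) x).to_iff

theorem mem_Sw_swaps (s : Sec X H) {A : Set Ω} {p q u v : Ω} (h1 : p ≠ q) (h2 : u ≠ v) (k1 : p ∈ A ↔ q ∈ A)
    (k2 : u ∈ A ↔ v ∈ A) : swap p q * swap u v ∈ Sw X A :=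
  ⟨s.alt (swap_mul_mem_alt h1 h2), fun a => (swap_mem k1 _).trans (swap_mem k2 a)⟩

theorem mem_St_of_rel {E : Setoid Ω} {g : Perm Ω} (hg : g ∈ X) (h : ∀ x, E (g x) x) : g ∈ St X E :=
  ⟨hg, fun a b => ⟨fun k => E.trans' (E.symm' (h a)) (E.trans' k (h b)),
    fun k => E.trans' (h a) (E.trans' k (E.symm' (h b)))⟩⟩

/-- in a transitive group every point has a partner -/
theorem partner {E : Setoid Ω} (h : Sys M E) (ht : Tr M) (x : Ω) : ∃ y, y ≠ x ∧ E x y := by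
  obtain ⟨a, b, hab, e⟩ := h.nb
  obtain ⟨g, hg, rfl⟩ := ht a x
  exact ⟨g b, fun k => hab (g.injective k).symm, h.inv g hg a b e⟩

/-- the orbit relation -/
def orb (M : Subgroup (Perm Ω)) : Setoid Ω where
  r x y := ∃ g ∈ M, g x = y
  iseqv := ⟨fun x => ⟨1, M.one_mem, rfl⟩, fun ⟨g, hg, e⟩ => ⟨g⁻¹, M.inv_mem hg, by simp [← e]⟩,
    fun ⟨g, hg, e⟩ ⟨k, hk, e'⟩ => ⟨k * g, M.mul_mem hk hg, by simp [e, e']⟩⟩

theorem orb_iff {x y : Ω} : orb M x y ↔ ∃ g ∈ M, g x = y := Iff.rfl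

theorem sys_orb (ht : ¬ Tr M) (hb : ∃ a b, a ≠ b ∧ orb M a b) : Sys M (orb M) := by
  refine ⟨fun g hg a b h => ?_, hb, ?_⟩
  · exact (orb M).trans' ((orb M).symm' ⟨g, hg, rfl⟩) ((orb M).trans' h ⟨g, hg, rfl⟩)
  · simp only [Tr, not_forall] at ht
    exact ht

/-! ### Young subgroups -/

section Young

variable {f : Ω → Fin 3}

theorem mem_young (s : Sec X H) (hH : ∀ g, g ∈ H ↔ g ∈ X ∧ ∀ x, f (g x) = f x) {p q u v : Ω} (h1 : p ≠ q)
    (h2 : u ≠ v) (k1 : f p = f q) (k2 : f u = f v) : swap p q * swap u v ∈ H :=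
  (hH _).2 ⟨s.alt (swap_mul_mem_alt h1 h2), fun x =>
    (Equiv.apply_swap_eq_self k1 _).trans (Equiv.apply_swap_eq_self k2 x)⟩

theorem two_of_three {c d e : Ω} (hcd : c ≠ d) (hce : c ≠ e) (hde : d ≠ e) (k1 : f c = f d) (k2 : f c = f e)
    {a a' : Ω} (h : a = a' ∨ f a ≠ f a') : ∃ u v, u ≠ v ∧ f u = f v ∧ a ≠ u ∧ a ≠ v ∧ a' ≠ u ∧ a' ≠ v := by
  by_cases h1 : a = c ∨ a' = c
  · exact ⟨d, e, hde, k1.symm.trans k2, by grind, by grind, by grind, by grind⟩
  · by_cases h2 : a = d ∨ a' = d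
    · exact ⟨c, e, hce, k2, by grind, by grind, by grind, by grind⟩
    · exact ⟨c, d, hcd, k1, by grind, by grind, by grind, by grind⟩

/-- every imprimitive maximal overgroup is the stabiliser of a relation that is coarser than the partition -/
theorem coarser (s : Sec X H) (hH : ∀ g, g ∈ H ↔ g ∈ X ∧ ∀ x, f (g x) = f x) {c d e : Ω} (hcd : c ≠ d) (hce : c ≠ e)
    (hde : d ≠ e) (k1 : f c = f d) (k2 : f c = f e) (hM : M ∈ Np X H) :
    ∃ E : Setoid Ω, M = St X E ∧ ∀ a b, f a = f b → E a b := by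
  by_cases ht : Tr M
  · obtain ⟨E, hE, e1⟩ := exists_St s hM
    refine ⟨E, e1, fun a b hab => ?_⟩
    by_cases h0 : a = b
    · exact h0 ▸ E.refl' a
    obtain ⟨a', h1, h2⟩ := partner hE ht a
    by_cases h3 : a' = b
    · exact h3 ▸ h2
    by_cases h4 : f a = f a'
    · have h5 := hE.inv _ (hM.1.2 (mem_young s hH h1.symm h0 h4 hab)) a a' h2
      rw [mul_apply, mul_apply, swap_apply_left, swap_apply_of_ne_of_ne (Ne.symm h0) (Ne.symm h3),
        swap_apply_of_ne_of_ne h1 h3, swap_apply_right] at h5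
      exact E.symm' h5
    · obtain ⟨u, v, huv, k3, n1, n2, n3, n4⟩ := two_of_three hcd hce hde k1 k2 (Or.inr h4)
      have h5 := hE.inv _ (hM.1.2 (mem_young s hH h0 huv hab k3)) a a' h2
      rw [mul_apply, mul_apply, swap_apply_of_ne_of_ne n1 n2, swap_apply_left, swap_apply_of_ne_of_ne n3 n4,
        swap_apply_of_ne_of_ne h1 h3] at h5
      exact E.trans' h2 (E.symm' h5)
  · have key : ∀ a b, f a = f b → orb M a b := fun a b hab => by
      by_cases h0 : a = b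
      · exact h0 ▸ (orb M).refl' a
      obtain ⟨u, v, huv, k3, n1, n2, -, -⟩ := two_of_three hcd hce hde k1 k2 (Or.inl (rfl : a = a))
      refine ⟨_, hM.1.2 (mem_young s hH h0 huv hab k3), ?_⟩
      rw [mul_apply, swap_apply_of_ne_of_ne n1 n2, swap_apply_left]
    exact ⟨orb M, (sys_orb ht ⟨c, d, hcd, key c d k1⟩).eq_St s hM.1, key⟩

theorem fin3 : ∀ i j i' j' : Fin 3, i ≠ j → i' ≠ j' → i' + j' = i + j → (i = i' ∧ j = j') ∨ (i = j' ∧ j = i') := by
  decide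

theorem big (s : Sec X H) (hH : ∀ g, g ∈ H ↔ g ∈ X ∧ ∀ x, f (g x) = f x) {c d e : Ω} (hcd : c ≠ d) (hce : c ≠ e)
    (hde : d ≠ e) (k1 : f c = f d) (k2 : f c = f e) : (Ov X H).ncard ≤ 8 := by
  classical
  have hs : Sm H := ⟨_, mem_young s hH hcd hce k1 k2, Or.inl (isThreeCycle_swap_mul_swap_same hcd hce hde)⟩
  have h1 := ncard_Ov X H
  rw [hs.Pr_eq s, Set.ncard_empty, add_zero] at h1
  refine h1.trans ((ncard_le_of_labels s (fun M hM => hM.1) (Finset.univ : Finset (Fin 3 → Bool))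
    (fun M l => ∃ E : Setoid Ω, M = St X E ∧ ∀ x y, E x y ↔ (f x = f y ∨ l (f x + f y) = true))
    (fun M hM => ?_) ?_).trans (by simp))
  · obtain ⟨E, e1, hE⟩ := coarser s hH hcd hce hde k1 k2 hM
    refine ⟨fun k => decide (∃ x y, f x ≠ f y ∧ f x + f y = k ∧ E x y), Finset.mem_univ _, E, e1, fun x y => ?_⟩
    rw [decide_eq_true_iff]
    by_cases h2 : f x = f y
    · exact iff_of_true (hE x y h2) (Or.inl h2)
    refine ⟨fun h => Or.inr ⟨x, y, h2, rfl, h⟩, fun h => ?_⟩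
    obtain ⟨x', y', n, e2, h3⟩ := h.resolve_left h2
    rcases fin3 _ _ _ _ h2 n e2 with ⟨e3, e4⟩ | ⟨e3, e4⟩
    · exact E.trans' (hE _ _ e3) (E.trans' h3 (hE _ _ e4.symm))
    · exact E.trans' (hE _ _ e3) (E.trans' (E.symm' h3) (hE _ _ e4.symm))
  · rintro M - M' - l - ⟨E, rfl, hE⟩ ⟨E', rfl, hE'⟩
    have : E = E' := Setoid.ext fun x y => (hE x y).trans (hE' x y).symm
    rw [this]

theorem small (s : Sec X H) (hH : ∀ g, g ∈ H ↔ g ∈ X ∧ ∀ x, f (g x) = f x)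
    (h3 : ∀ c d e, c ≠ d → f c = f d → f c = f e → e = c ∨ e = d) : False := by
  have h5 := s.five
  obtain ⟨a, -, b, -, hab, k1⟩ := Finset.exists_ne_map_eq_of_card_lt_of_maps_to (s := (Finset.univ : Finset Ω))
    (t := (Finset.univ : Finset (Fin 3))) (by simp; omega) (f := f) (fun _ _ => Finset.mem_univ _)
  obtain ⟨c, hc, d, hd, hcd, k2⟩ := Finset.exists_ne_map_eq_of_card_lt_of_maps_to
    (s := (Finset.univ : Finset Ω) \ {a, b}) (t := (Finset.univ : Finset (Fin 3)).erase (f a))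
    (by rw [Finset.card_univ_sdiff, Finset.card_pair hab]; simp; omega) (f := f) (fun x hx => by
      simp only [Finset.coe_sdiff, Finset.coe_univ, Finset.coe_insert, Finset.coe_singleton, Set.mem_sdiff,
        Set.mem_univ, Set.mem_insert_iff, Set.mem_singleton_iff, true_and] at hx
      simp only [Finset.coe_erase, Finset.coe_univ, Set.mem_sdiff, Set.mem_univ, Set.mem_singleton_iff, true_and]
      exact fun e => hx (h3 a b x hab k1 e.symm))
  simp only [Finset.mem_sdiff, Finset.mem_univ, Finset.mem_insert, Finset.mem_singleton, true_and, not_or] at hc hd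
  have hac : f a ≠ f c := fun e => (h3 a b c hab k1 e).elim hc.1 hc.2
  obtain ⟨z, hz⟩ : ∃ z, z ∉ ({a, b, c, d} : Finset Ω) := by
    by_contra hcon
    have h1 : (Finset.univ : Finset Ω) ⊆ {a, b, c, d} := fun z _ => by
      by_contra h2
      exact hcon ⟨z, h2⟩
    have h2 := (Finset.card_le_card h1).trans Finset.card_le_four
    rw [Finset.card_univ] at h2
    omega
  simp only [Finset.mem_insert, Finset.mem_singleton, not_or] at hz
  let A : Set Ω := {x | f x = f a ∨ f x = f c}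
  have ha : a ∈ A := Or.inl rfl
  have hb : b ∈ A := Or.inl k1.symm
  have hc' : c ∈ A := Or.inr rfl
  have hd' : d ∈ A := Or.inr k2.symm
  have hzA : z ∉ A := fun h => h.elim (fun e => (h3 a b z hab k1 e.symm).elim hz.1 hz.2.1)
    (fun e => (h3 c d z hcd k2 e.symm).elim hz.2.2.1 hz.2.2.2)
  have key : ∀ x, f ((swap a c * swap b d) x) = swap (f a) (f c) (f x) := fun x => by
    rw [mul_apply]
    by_cases e1 : x = a
    · rw [e1, swap_apply_of_ne_of_ne hab (Ne.symm hd.1), swap_apply_left, swap_apply_left]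
    by_cases e2 : x = b
    · rw [e2, swap_apply_left, swap_apply_of_ne_of_ne hd.1 hcd.symm, ← k1, swap_apply_left, k2]
    by_cases e3 : x = c
    · rw [e3, swap_apply_of_ne_of_ne hc.2 hcd, swap_apply_right, swap_apply_right]
    by_cases e4 : x = d
    · rw [e4, swap_apply_right, swap_apply_of_ne_of_ne hab.symm (Ne.symm hc.2), ← k2, swap_apply_right, k1]
    rw [swap_apply_of_ne_of_ne e2 e4, swap_apply_of_ne_of_ne e1 e3, swap_apply_of_ne_of_ne
      (fun e => (h3 a b x hab k1 e.symm).elim e1 e2) (fun e => (h3 c d x hcd k2 e.symm).elim e3 e4)]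
  have m1 : swap a c * swap b d ∈ Sw X A :=
    mem_Sw_swaps s (Ne.symm hc.1) (Ne.symm hd.2) (iff_of_true ha hc') (iff_of_true hb hd')
  refine nochain s (K := St X (Setoid.ker f) ⊓ Sw X A) (L := Sw X A) ?_ ?_ (Sw_lt s ha hzA)
  · refine SetLike.lt_iff_le_and_exists.2 ⟨fun g hg => ?_, swap a c * swap b d,
      Subgroup.mem_inf.2 ⟨⟨m1.1, fun x y => ?_⟩, m1⟩, fun h => ?_⟩
    · obtain ⟨g1, g2⟩ := (hH g).1 hg
      refine ⟨⟨g1, fun x y => ?_⟩, g1, fun x => ?_⟩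
      · rw [Setoid.ker_def, Setoid.ker_def, g2, g2]
      · show f (g x) = f a ∨ f (g x) = f c ↔ f x = f a ∨ f x = f c
        rw [g2]
    · rw [Setoid.ker_def, Setoid.ker_def, key, key]
      exact (swap (f a) (f c)).injective.eq_iff
    · have h1 := ((hH _).1 h).2 a
      rw [key, swap_apply_left] at h1
      exact hac h1.symm
  · refine SetLike.lt_iff_le_and_exists.2 ⟨inf_le_right, _,
      mem_Sw_swaps s (Ne.symm hc.1) hab (iff_of_true ha hc') (iff_of_true ha hb), fun h => ?_⟩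
    have h1 := (h.1.2 a b).2 k1
    rw [Setoid.ker_def, mul_apply, mul_apply, swap_apply_left, swap_apply_right, swap_apply_left,
      swap_apply_of_ne_of_ne hab.symm (Ne.symm hc.2)] at h1
    exact hac (k1.trans h1)

end Young

/-! ### two orbits -/

section Two

variable {A : Set Ω}

theorem le_Sw (t : Two X H A) (hM : M ∈ Ov X H) (ht : ¬ Tr M) : M ≤ Sw X A := by
  have key : ∀ g ∈ M, ∀ a ∈ A, g a ∈ A := fun g hg a ha => by
    by_contra hn
    apply ht
    have h1 : ∀ x, orb M a x := fun x => by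
      by_cases hx : x ∈ A
      · obtain ⟨k, hk, e⟩ := t.trA a ha x hx
        exact ⟨k, hM.2 hk, e⟩
      · obtain ⟨k, hk, e⟩ := t.trB _ hn x hx
        exact ⟨k * g, M.mul_mem (hM.2 hk) hg, e⟩
    exact fun x y => (orb M).trans' ((orb M).symm' (h1 x)) (h1 y)
  exact fun g hg => ⟨hM.1.le hg, fun a => ⟨fun h => by simpa using key g⁻¹ (M.inv_mem hg) _ h, key g hg a⟩⟩

theorem exists_out (t : Two X H A) : ∃ u, u ∉ A := by
  have h := t.lt
  obtain ⟨u, hu⟩ := Set.nonempty_of_ncard_ne_zero (s := Aᶜ) (by omega)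
  exact ⟨u, hu⟩

theorem rel_out (t : Two X H A) {E : Setoid Ω} (hE : Sys M E) (ht : Tr M) :
    ∃ u u', u ∉ A ∧ u' ∉ A ∧ u ≠ u' ∧ E u u' := by
  by_contra hcon
  choose p hp using partner hE ht
  have h1 : Aᶜ.ncard ≤ A.ncard := by
    refine Set.ncard_le_ncard_of_injOn p (fun u hu => ?_) (fun u hu u' hu' e => ?_) (Set.toFinite _)
    · by_contra h
      exact hcon ⟨u, p u, hu, h, (hp u).1.symm, (hp u).2⟩
    · by_contra h
      exact hcon ⟨u, u', hu, hu', h, E.trans' (hp u).2 (E.symm' (e ▸ (hp u').2))⟩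
  exact absurd t.lt (by omega)

theorem nrel_out (t : Two X H A) {E : Setoid Ω} (hE : Sys M E) (ht : Tr M) {u : Ω} (hu : u ∉ A) :
    ∃ w, w ∉ A ∧ ¬ E u w := by
  by_contra hcon
  have h0 : ∀ w, w ∉ A → E u w := fun w hw => by
    by_contra h
    exact hcon ⟨w, hw, h⟩
  obtain ⟨x, hx⟩ : ∃ x, ¬ E u x := by
    by_contra h
    obtain ⟨a, b, hab⟩ := hE.nt
    have h1 : ∀ x, E u x := fun x => by
      by_contra h2
      exact h ⟨x, h2⟩
    exact hab (E.trans' (E.symm' (h1 a)) (h1 b))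
  obtain ⟨g, hg, rfl⟩ := ht u x
  have h1 : Aᶜ.ncard ≤ A.ncard := by
    refine Set.ncard_le_ncard_of_injOn g (fun w hw => ?_) g.injective.injOn (Set.toFinite _)
    by_contra h
    exact hx (E.trans' (h0 _ h) (E.symm' (hE.inv g hg u w (h0 w hw))))
  exact absurd t.lt (by omega)

/-- `A` is one class, `E` outside -/
def glue (A : Set Ω) (E : Setoid Ω) : Setoid Ω where
  r x y := (x ∈ A ∧ y ∈ A) ∨ (x ∉ A ∧ y ∉ A ∧ E x y)
  iseqv := ⟨fun x => (em (x ∈ A)).imp (fun h => ⟨h, h⟩) (fun h => ⟨h, h, E.refl' x⟩),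
    fun h => h.imp (fun h => ⟨h.2, h.1⟩) (fun h => ⟨h.2.1, h.1, E.symm' h.2.2⟩),
    fun h h' => h.elim (fun h => h'.elim (fun h' => Or.inl ⟨h.1, h'.2⟩) (fun h' => absurd h.2 h'.1))
      (fun h => h'.elim (fun h' => absurd h'.1 h.2.1) (fun h' => Or.inr ⟨h.1, h'.2.1, E.trans' h.2.2 h'.2.2⟩))⟩

theorem glue_iff {E : Setoid Ω} {x y : Ω} : glue A E x y ↔ (x ∈ A ∧ y ∈ A) ∨ (x ∉ A ∧ y ∉ A ∧ E x y) := Iff.rfl

/-- the double transpositions `(x y)(u u')` lie in `H` -/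
theorem mem_two (s : Sec X H) (t : Two X H A) (hM : H ≤ M) {E : Setoid Ω} (hE : Sys M E) (ht : Tr M) {x y u u' : Ω}
    (hx : x ∈ A) (hy : y ∈ A) (hxy : x ≠ y) (hu : u ∉ A) (hu' : u' ∉ A) (huu : u ≠ u') (e : E u u') :
    swap x y * swap u u' ∈ H := by
  have h1 : H ≤ St X (glue A E) ⊓ Sw X A := fun g hg => by
    have g2 := t.ov.2 hg
    refine ⟨⟨g2.1, fun a b => ?_⟩, g2⟩
    rw [glue_iff, glue_iff, g2.2, g2.2, hE.iff (hM hg)]
  rcases s.eq_or_eq t.ov h1 inf_le_right with h | h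
  · rw [← h]
    have m := mem_Sw_swaps s hxy huu (iff_of_true hx hy) (iff_of_false hu hu')
    refine ⟨mem_St_of_rel m.1 fun z => ?_, m⟩
    exact (glue A E).trans' (swap_rel (Or.inl ⟨hx, hy⟩) _) (swap_rel (Or.inr ⟨hu, hu', e⟩) z)
  · exfalso
    obtain ⟨w, hw, n⟩ := nrel_out t hE ht hu
    have n1 : u ≠ w := fun k => n (k ▸ E.refl' u)
    have n2 : u' ≠ w := fun k => n (k ▸ e)
    have m : swap u w * swap u u' ∈ St X (glue A E) ⊓ Sw X A :=
      h.symm ▸ mem_Sw_swaps s n1 huu (iff_of_false hu hw) (iff_of_false hu hu')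
    have h2 := (m.1.2 u u').2 (Or.inr ⟨hu, hu', e⟩)
    rw [mul_apply, mul_apply, swap_apply_left, swap_apply_right, swap_apply_left,
      swap_apply_of_ne_of_ne huu.symm n2] at h2
    rcases h2 with h2 | h2
    · exact hw h2.2
    · exact n (E.trans' e h2.2.2)

theorem rel_in (s : Sec X H) (t : Two X H A) (hM : H ≤ M) {E : Setoid Ω} (hE : Sys M E) (ht : Tr M) {x y : Ω}
    (hx : x ∈ A) (hy : y ∈ A) : E x y := by
  by_contra n
  obtain ⟨u, u', hu, hu', huu, e⟩ := rel_out t hE ht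
  have hxy : x ≠ y := fun k => n (k ▸ E.refl' x)
  obtain ⟨x', n1, e1⟩ := partner hE ht x
  have h1 := hE.inv _ (hM (mem_two s t hM hE ht hx hy hxy hu hu' huu e)) x x' e1
  have n3 : ∀ z ∈ A, swap u u' z = z := fun z hz =>
    swap_apply_of_ne_of_ne (fun k => hu (k ▸ hz)) (fun k => hu' (k ▸ hz))
  have e2 : E (swap u u' x') x := E.trans' (swap_rel e x') (E.symm' e1)
  have n4 : swap u u' x' ≠ x := fun k => n1 ((swap u u').injective (k.trans (n3 x hx).symm))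
  have n5 : swap u u' x' ≠ y := fun k => n (E.symm' (k ▸ e2))
  rw [mul_apply, mul_apply, n3 x hx, swap_apply_left, swap_apply_of_ne_of_ne n4 n5] at h1
  exact n (E.symm' (E.trans' h1 e2))

theorem nrel_mix (s : Sec X H) (t : Two X H A) (hM : H ≤ M) {E : Setoid Ω} (hE : Sys M E) (ht : Tr M) {x u : Ω}
    (hx : x ∈ A) (hu : u ∉ A) : ¬ E x u := by
  intro e
  obtain ⟨w, hw, n⟩ := nrel_out t hE ht hu
  obtain ⟨g, hg, rfl⟩ := t.trB u hu w hw
  exact n (E.trans' (E.symm' e) (E.trans' (rel_in s t hM hE ht hx (((t.ov.2 hg).2 x).2 hx)) (hE.inv g (hM hg) x u e)))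

theorem sys_le (s : Sec X H) (t : Two X H A) {M' : Subgroup (Perm Ω)} (hM : H ≤ M) (hM' : H ≤ M') {E E' : Setoid Ω}
    (hE : Sys M E) (hE' : Sys M' E') (ht : Tr M) (ht' : Tr M') {u u' : Ω} (e : E u u') : E' u u' := by
  by_cases hu : u ∈ A
  · by_cases hu' : u' ∈ A
    · exact rel_in s t hM' hE' ht' hu hu'
    · exact absurd e (nrel_mix s t hM hE ht hu hu')
  by_cases hu' : u' ∈ A
  · exact absurd (E.symm' e) (nrel_mix s t hM hE ht hu' hu)
  by_cases huu : u = u'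
  · exact huu ▸ E'.refl' u
  obtain ⟨x, hx⟩ := t.ne
  obtain ⟨y, n1, e1⟩ := partner hE ht x
  have hy : y ∈ A := by
    by_contra h
    exact nrel_mix s t hM hE ht hx h e1
  obtain ⟨w, n2, e2⟩ := partner hE' ht' u
  have hw : w ∉ A := fun h => nrel_mix s t hM' hE' ht' h hu (E'.symm' e2)
  by_cases n3 : w = u'
  · exact n3 ▸ e2
  have h1 := hE'.inv _ (hM' (mem_two s t hM hE ht hx hy n1.symm hu hu' huu e)) u w e2
  have n4 : ∀ z, z ∉ A → swap x y z = z := fun z hz =>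
    swap_apply_of_ne_of_ne (fun k => hz (k ▸ hx)) (fun k => hz (k ▸ hy))
  rw [mul_apply, mul_apply, swap_apply_left, swap_apply_of_ne_of_ne n2 n3, n4 _ hu', n4 _ hw] at h1
  exact E'.trans' e2 (E'.symm' h1)

end Two

end Yg

theorem boxYoung : BoxYoung := fun Ω _ _ X H f s hH => by
  by_cases h : ∃ c d e, c ≠ d ∧ c ≠ e ∧ d ≠ e ∧ f c = f d ∧ f c = f e
  · obtain ⟨c, d, e, h1, h2, h3, h4, h5⟩ := h
    exact (Yg.big s hH h1 h2 h3 h4 h5).trans (by norm_num)
  · refine (Yg.small s hH fun c d e h1 h4 h5 => ?_).elim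
    by_contra hcon
    exact h ⟨c, d, e, h1, fun k => hcon (Or.inl k.symm), fun k => hcon (Or.inr k.symm), h4, h5⟩

theorem boxTwoNp : BoxTwoNp := fun Ω _ _ X H A s t => by
  refine (ncard_le_of_labels s (fun M hM => hM.1) (Finset.univ : Finset Bool)
    (fun M l => (l = true ∧ Tr M) ∨ (l = false ∧ ¬ Tr M)) (fun M hM => ?_) ?_).trans (by simp)
  · by_cases h : Tr M
    · exact ⟨true, Finset.mem_univ _, Or.inl ⟨rfl, h⟩⟩
    · exact ⟨false, Finset.mem_univ _, Or.inr ⟨rfl, h⟩⟩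
  · rintro M hM M' hM' l - (⟨rfl, h⟩ | ⟨rfl, h⟩) (⟨k, h'⟩ | ⟨k, h'⟩)
    · obtain ⟨E, hE, e⟩ := exists_St s hM
      obtain ⟨E', hE', e'⟩ := exists_St s hM'
      have : E = E' := Setoid.ext fun x y =>
        ⟨Yg.sys_le s t hM.1.2 hM'.1.2 hE hE' h h', Yg.sys_le s t hM'.1.2 hM.1.2 hE' hE h' h⟩
      rw [e, e', this]
    · exact absurd k (by simp)
    · exact absurd k (by simp)
    · exact (Sec.eq_of_le hM.1 t.ov (Yg.le_Sw t hM.1 h)).trans
        (Sec.eq_of_le hM'.1 t.ov (Yg.le_Sw t hM'.1 h')).symm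

end Cfsg.Agent.SM.NP
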